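import Mathlib
import Cfsg.Agent.Helper3.Integral

/-!
# The degree of an irreducible representation divides the index of the centre
-/

set_option autoImplicit false

namespace Cfsg.Agent.Helper3

/-- A sum over `G` of a function constant on left cosets of `Z` is `|Z|` times the sum over a
transversal. -/
theorem sum_eq_card_smul_sum_out {G : Type*} [Group G] [Fintype G] (Z : Subgroup G)
    {M : Type*} [AddCommMonoid M] (F : G → M) (hF : ∀ g : G, ∀ z ∈ Z, F (g * z) = F g)
    [Fintype (G ⧸ Z)] :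
    ∑ g : G, F g = Nat.card Z • ∑ q : G ⧸ Z, F q.out := by
  classical
  have : Fintype Z := Fintype.ofFinite Z
  have hmk : ∀ (q : G ⧸ Z) (z : Z), ((q.out * (z : G) : G) : G ⧸ Z) = q := by
    intro q z
    rw [QuotientGroup.mk_mul_of_mem _ z.2]
    exact QuotientGroup.out_eq' q
  have hbij : Function.Bijective (fun p : (G ⧸ Z) × Z => p.1.out * (p.2 : G)) := by
    constructor
    · rintro ⟨q, z⟩ ⟨q', z'⟩ h
      simp only at h
      have hq : q = q' := by
        rw [← hmk q z, ← hmk q' z', h]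
      subst hq
      have hz : (z : G) = z' := mul_left_cancel h
      rw [Subtype.ext hz]
    · intro g
      refine ⟨((g : G ⧸ Z), ⟨(g : G ⧸ Z).out⁻¹ * g, ?_⟩), ?_⟩
      · rw [← QuotientGroup.eq]
        exact QuotientGroup.out_eq' _
      · simp
  rw [← Fintype.sum_bijective _ hbij (fun p => F (p.1.out * (p.2 : G))) F (fun p => rfl)]
  rw [Fintype.sum_prod_type, Finset.smul_sum]
  apply Finset.sum_congr rfl
  intro q _
  have : ∀ z : Z, F (q.out * (z : G)) = F q.out := fun z => hF _ _ z.2
  simp only [this]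
  rw [Finset.sum_const, Finset.card_univ, Nat.card_eq_fintype_card]

/-- `∑ g, χ(g⁻¹) ρ(g) = (|G| / χ(1)) • id` for an irreducible representation. -/
theorem sum_character_inv_smul {G : Type*} [Group G] [Fintype G] {V : Type*} [AddCommGroup V]
    [Module ℂ V] [FiniteDimensional ℂ V] (ρ : Representation ℂ G V) [ρ.IsIrreducible] :
    ∑ g : G, ρ.character g⁻¹ • ρ g
      = ((Nat.card G : ℂ) / (Module.finrank ℂ V : ℂ)) • (LinearMap.id : V →ₗ[ℂ] V) := by
  classical
  have hpos := finrank_pos_of_isIrreducible ρ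
  set T : V →ₗ[ℂ] V := ∑ g : G, ρ.character g⁻¹ • ρ g with hTdef
  have hT : ∀ h : G, T ∘ₗ ρ h = ρ h ∘ₗ T := by
    intro h
    show T * ρ h = ρ h * T
    have e1 : T * ρ h = ∑ g : G, ρ.character (h * g⁻¹) • ρ g := by
      rw [hTdef, Finset.sum_mul]
      refine Fintype.sum_bijective (fun g : G => g * h) (Group.mulRight_bijective h) _ _ ?_
      intro g
      rw [smul_mul_assoc, ← map_mul]
      congr 2
      group
    have e2 : ρ h * T = ∑ g : G, ρ.character (g⁻¹ * h) • ρ g := by
      rw [hTdef, Finset.mul_sum]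
      refine Fintype.sum_bijective (fun g : G => h * g) (Group.mulLeft_bijective h) _ _ ?_
      intro g
      rw [mul_smul_comm, ← map_mul]
      congr 2
      group
    rw [e1, e2]
    refine Finset.sum_congr rfl ?_
    intro g _
    rw [Representation.char_mul_comm]
  obtain ⟨ω, hω⟩ := schur_scalar ρ T hT
  have htr : LinearMap.trace ℂ V T = (Nat.card G : ℂ) := by
    rw [hTdef, map_sum, ← sum_character_mul_inv ρ]
    refine Finset.sum_congr rfl ?_
    intro g _
    rw [map_smul, smul_eq_mul, mul_comm]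
    rfl
  have htr2 : LinearMap.trace ℂ V T = ω * (Module.finrank ℂ V : ℂ) := by
    rw [hω, map_smul, LinearMap.trace_id, smul_eq_mul]
  have hn0 : (Module.finrank ℂ V : ℂ) ≠ 0 := by exact_mod_cast hpos.ne'
  have : ω = (Nat.card G : ℂ) / (Module.finrank ℂ V : ℂ) := by
    rw [← htr, htr2]; field_simp
  rw [hω, this]

/-- Character values are algebraic integers. -/
theorem isIntegral_character {G : Type*} [Group G] [Finite G] {V : Type*} [AddCommGroup V]
    [Module ℂ V] [FiniteDimensional ℂ V] (ρ : Representation ℂ G V) (g : G) :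
    IsIntegral ℤ (ρ.character g) := by
  obtain ⟨b, ζ, h1, h2, h3⟩ := rep_exists_eigenbasis ρ g
  rw [h3]
  refine IsIntegral.sum _ (fun i _ => ?_)
  exact IsIntegral.of_pow (orderOf_pos g) (by rw [h1 i]; exact isIntegral_one)

/-- The degree of an irreducible complex representation of a finite group divides the index of
the centre. -/
theorem finrank_dvd_index_center {G : Type*} [Group G] [Finite G] {V : Type*} [AddCommGroup V]
    [Module ℂ V] [FiniteDimensional ℂ V] (ρ : Representation ℂ G V) [ρ.IsIrreducible] :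
    Module.finrank ℂ V ∣ (Subgroup.center G).index := by
  classical
  have : Fintype G := Fintype.ofFinite G
  have : Fintype (G ⧸ Subgroup.center G) := Fintype.ofFinite _
  have hpos := finrank_pos_of_isIrreducible ρ
  have hnt : Nontrivial V := Module.finrank_pos_iff.mp hpos
  let F : G → (V →ₗ[ℂ] V) := fun g => ρ.character g⁻¹ • ρ g
  have hF : ∀ g : G, ∀ z ∈ Subgroup.center G, F (g * z) = F g := by
    intro g z hz
    have hcomm : ∀ h : G, ρ z ∘ₗ ρ h = ρ h ∘ₗ ρ z := by
      intro h
      show ρ z * ρ h = ρ h * ρ z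
      rw [← map_mul, ← map_mul, (Subgroup.mem_center_iff.mp hz h)]
    obtain ⟨lam, hlam⟩ := schur_scalar ρ (ρ z) hcomm
    have hz' : z⁻¹ ∈ Subgroup.center G := (Subgroup.center G).inv_mem hz
    have hcomm' : ∀ h : G, ρ z⁻¹ ∘ₗ ρ h = ρ h ∘ₗ ρ z⁻¹ := by
      intro h
      show ρ z⁻¹ * ρ h = ρ h * ρ z⁻¹
      rw [← map_mul, ← map_mul, (Subgroup.mem_center_iff.mp hz' h)]
    obtain ⟨mu, hmu⟩ := schur_scalar ρ (ρ z⁻¹) hcomm'
    have hml : mu * lam = 1 := by
      have h1 : ρ z⁻¹ * ρ z = 1 := by rw [← map_mul, inv_mul_cancel, map_one]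
      rw [hlam, hmu] at h1
      obtain ⟨v, hv⟩ := exists_ne (0 : V)
      have h2 := congrArg (fun T : V →ₗ[ℂ] V => T v) h1
      simp only [Module.End.mul_apply, LinearMap.smul_apply, LinearMap.id_coe, id_eq,
        Module.End.one_apply, smul_smul] at h2
      have h3 : (mu * lam - 1) • v = 0 := by rw [sub_smul, h2, one_smul, sub_self]
      rcases smul_eq_zero.mp h3 with h | h
      · exact sub_eq_zero.mp h
      · exact absurd h hv
    show ρ.character (g * z)⁻¹ • ρ (g * z) = ρ.character g⁻¹ • ρ g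
    have e1 : ρ (g * z) = lam • ρ g := by
      rw [map_mul, hlam]
      ext v
      simp
    have e2 : ρ.character (g * z)⁻¹ = mu * ρ.character g⁻¹ := by
      rw [mul_inv_rev]
      unfold Representation.character
      rw [map_mul, hmu, smul_mul_assoc, map_smul, smul_eq_mul]
      congr 2
    rw [e1, e2, smul_smul, mul_right_comm, hml, one_mul]
  have hsum := sum_eq_card_smul_sum_out (Subgroup.center G) F hF
  have hT := sum_character_inv_smul ρ
  have hZ : (Nat.card (Subgroup.center G) : ℂ) ≠ 0 := by exact_mod_cast Nat.card_pos.ne'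
  have hB : ∑ q : G ⧸ Subgroup.center G, ρ.character q.out⁻¹ • ρ q.out
      = ((Nat.card G : ℂ) / (Module.finrank ℂ V : ℂ) / (Nat.card (Subgroup.center G) : ℂ)) •
        (LinearMap.id : V →ₗ[ℂ] V) := by
    have h1 : (Nat.card (Subgroup.center G) : ℂ) • ∑ q : G ⧸ Subgroup.center G, F q.out
        = ((Nat.card G : ℂ) / (Module.finrank ℂ V : ℂ)) • (LinearMap.id : V →ₗ[ℂ] V) := by
      rw [← hT, hsum, Nat.cast_smul_eq_nsmul]
    have h2 : ∑ q : G ⧸ Subgroup.center G, F q.out
        = (Nat.card (Subgroup.center G) : ℂ)⁻¹ • ((Nat.card (Subgroup.center G) : ℂ) •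
          ∑ q : G ⧸ Subgroup.center G, F q.out) := by
      rw [smul_smul, inv_mul_cancel₀ hZ, one_smul]
    show ∑ q : G ⧸ Subgroup.center G, F q.out = _
    rw [h2, h1, smul_smul]
    congr 1
    field_simp
  have hint := isIntegral_of_sum_smul_eq_smul_id ρ (fun q : G ⧸ Subgroup.center G => q.out)
    (fun q => ρ.character q.out⁻¹) (fun q => isIntegral_character ρ _) _ hB
  have hn0 : (Module.finrank ℂ V : ℂ) ≠ 0 := by exact_mod_cast hpos.ne'
  have hn0' : (Module.finrank ℂ V : ℚ) ≠ 0 := by exact_mod_cast hpos.ne'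
  have hidx : (Nat.card G : ℂ) = ((Subgroup.center G).index : ℂ) * (Nat.card (Subgroup.center G) : ℂ) := by
    rw [← Subgroup.index_mul_card (Subgroup.center G)]
    push_cast
    ring
  have hω' : (Nat.card G : ℂ) / (Module.finrank ℂ V : ℂ) / (Nat.card (Subgroup.center G) : ℂ)
      = algebraMap ℚ ℂ (((Subgroup.center G).index : ℚ) / (Module.finrank ℂ V : ℚ)) := by
    rw [hidx]
    simp only [map_div₀, map_natCast]
    field_simp
  rw [hω'] at hint
  have hint2 : IsIntegral ℤ (((Subgroup.center G).index : ℚ) / (Module.finrank ℂ V : ℚ)) :=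
    (isIntegral_algebraMap_iff (algebraMap ℚ ℂ).injective).1 hint
  obtain ⟨k, hk⟩ := IsIntegrallyClosed.isIntegral_iff.1 hint2
  have hk2 : ((Subgroup.center G).index : ℚ) = (k : ℚ) * (Module.finrank ℂ V : ℚ) := by
    have : (algebraMap ℤ ℚ) k = (k : ℚ) := rfl
    rw [this] at hk
    rw [hk]; field_simp
  have hk3 : ((Subgroup.center G).index : ℤ) = k * (Module.finrank ℂ V : ℤ) := by exact_mod_cast hk2
  have : ((Module.finrank ℂ V : ℕ) : ℤ) ∣ (((Subgroup.center G).index : ℕ) : ℤ) :=
    ⟨k, by rw [hk3]; ring⟩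
  exact Int.natCast_dvd_natCast.mp this

end Cfsg.Agent.Helper3
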