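import Mathlib
import Cfsg.Agent.Helper75.CliffordCorr
import Cfsg.Agent.Helper3.CenterDvd
import Cfsg.Agent.Helper3.Burnside2
import Cfsg.Agent.Helper79.Quotient

/-!
# Finite nilpotent groups are M-groups
-/

set_option autoImplicit false

namespace Cfsg.Agent.Helper3

universe u

theorem indFun_congr {G : Type*} [Group G] [Fintype G] {H₁ H₂ : Subgroup G} (h : H₁ = H₂)
    (θ₁ : H₁ → ℂ) (θ₂ : H₂ → ℂ)
    (hθ : ∀ (x : G) (h1 : x ∈ H₁) (h2 : x ∈ H₂), θ₁ ⟨x, h1⟩ = θ₂ ⟨x, h2⟩) :
    Cfsg.indFun H₁ θ₁ = Cfsg.indFun H₂ θ₂ := by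
  subst h
  congr 1
  funext x
  exact hθ x.1 x.2 x.2

/-- Transitivity of induction for a subgroup `H₀` of the subgroup `K`, for linear characters. -/
theorem indFun_trans_map {G : Type*} [Group G] [Fintype G] (K : Subgroup G) [Fintype K]
    (H₀ : Subgroup K) (μ : H₀ →* ℂˣ) :
    ∃ lam : (H₀.map K.subtype) →* ℂˣ,
      Cfsg.indFun K (Cfsg.indFun H₀ (fun h => ((μ h : ℂˣ) : ℂ)))
        = Cfsg.indFun (H₀.map K.subtype) (fun h => ((lam h : ℂˣ) : ℂ)) := by
  let e : H₀ ≃* H₀.map K.subtype := H₀.equivMapOfInjective K.subtype K.subtype_injective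
  refine ⟨μ.comp e.symm.toMonoidHom, ?_⟩
  have hHK : H₀.map K.subtype ≤ K := Subgroup.map_subtype_le H₀
  rw [← indFun_trans (H₀.map K.subtype) K hHK]
  congr 1
  have hsub : (H₀.map K.subtype).subgroupOf K = H₀ :=
    Subgroup.comap_map_eq_self_of_injective K.subtype_injective H₀
  apply indFun_congr hsub.symm
  intro x h1 h2
  have hmem : (x : G) ∈ H₀.map K.subtype := ⟨x, h1, rfl⟩
  have he : e.symm ⟨(x : G), hmem⟩ = ⟨x, h1⟩ := by
    rw [MulEquiv.symm_apply_eq]
    apply Subtype.ext
    rfl
  show ((μ ⟨x, h1⟩ : ℂˣ) : ℂ) = ((μ (e.symm ⟨(x : G), hmem⟩) : ℂˣ) : ℂ)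
  rw [he]

/-- Induction commutes with inflation from a quotient. -/
theorem indFun_comap_mk {G : Type*} [Group G] [Fintype G] (N : Subgroup G) [N.Normal]
    [Fintype (G ⧸ N)] (Hb : Subgroup (G ⧸ N)) (θ : Hb → ℂ) (g : G) :
    Cfsg.indFun Hb θ (g : G ⧸ N)
      = Cfsg.indFun (Hb.comap (QuotientGroup.mk' N))
          (fun h => θ ⟨QuotientGroup.mk' N (h : G), h.2⟩) g := by
  classical
  have hext : ∀ y : G, Cfsg.extendByZero (Hb.comap (QuotientGroup.mk' N))
      (fun h => θ ⟨QuotientGroup.mk' N (h : G), h.2⟩) y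
      = Cfsg.extendByZero Hb θ (y : G ⧸ N) := by
    intro y
    by_cases hy : y ∈ Hb.comap (QuotientGroup.mk' N)
    · have hy' : (y : G ⧸ N) ∈ Hb := hy
      rw [extendByZero_of_mem _ _ hy, extendByZero_of_mem Hb _ hy']
      rfl
    · have hy' : (y : G ⧸ N) ∉ Hb := hy
      rw [extendByZero_of_not_mem _ _ hy, extendByZero_of_not_mem Hb _ hy']
  unfold Cfsg.indFun
  simp only [hext]
  have hsum : ∑ x : G, Cfsg.extendByZero Hb θ ((x⁻¹ * g * x : G) : G ⧸ N)
      = Nat.card N • ∑ q : G ⧸ N, Cfsg.extendByZero Hb θ (q⁻¹ * (g : G ⧸ N) * q) := by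
    have h1 := sum_eq_card_smul_sum_out N
      (fun x : G => Cfsg.extendByZero Hb θ ((x⁻¹ * g * x : G) : G ⧸ N)) ?_
    · rw [h1]
      congr 1
      apply Finset.sum_congr rfl
      intro q _
      congr 1
      rw [QuotientGroup.mk_mul, QuotientGroup.mk_mul, QuotientGroup.mk_inv, QuotientGroup.out_eq']
    · intro x z hz
      congr 1
      have hz1 : (z : G ⧸ N) = 1 := (QuotientGroup.eq_one_iff z).mpr hz
      simp only [QuotientGroup.mk_mul, QuotientGroup.mk_inv, hz1, mul_one]
  rw [hsum]
  have hcard : Nat.card (Hb.comap (QuotientGroup.mk' N)) = Nat.card Hb * Nat.card N := by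
    have h1 : (Hb.comap (QuotientGroup.mk' N)).index = Hb.index :=
      Subgroup.index_comap_of_surjective Hb (QuotientGroup.mk'_surjective N)
    have h2 := Subgroup.index_mul_card (Hb.comap (QuotientGroup.mk' N))
    have h3 := Subgroup.index_mul_card Hb
    have h4 := Subgroup.card_eq_card_quotient_mul_card_subgroup N
    have h0 : Hb.index ≠ 0 := Subgroup.index_ne_zero_of_finite
    rw [h1] at h2
    have : Hb.index * Nat.card (Hb.comap (QuotientGroup.mk' N))
        = Hb.index * (Nat.card Hb * Nat.card N) := by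
      rw [h2, h4, ← h3]
      ring
    exact Nat.eq_of_mul_eq_mul_left (Nat.pos_of_ne_zero h0) this
  rw [hcard]
  have hN0 : (Nat.card N : ℂ) ≠ 0 := by exact_mod_cast Nat.card_pos.ne'
  have hb0 : (Nat.card Hb : ℂ) ≠ 0 := by exact_mod_cast Nat.card_pos.ne'
  rw [nsmul_eq_mul]
  push_cast
  field_simp

/-- A linear character is induced from a homomorphism of the whole group. -/
theorem exists_indFun_top_of_linear {G : Type*} [Group G] [Fintype G] (χ : G → ℂ)
    (hχ : Cfsg.IsCharacter G χ) (h1 : χ 1 = 1) :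
    ∃ (H : Subgroup G) (lam : H →* ℂˣ), χ = Cfsg.indFun H (fun h => ((lam h : ℂˣ) : ℂ)) := by
  obtain ⟨f, hf⟩ := Cfsg.Agent.Helper79.isCharacter_linear hχ h1
  refine ⟨⊤, f.comp (Subgroup.subtype ⊤), ?_⟩
  funext g
  unfold Cfsg.indFun
  have : ∀ x : G, Cfsg.extendByZero (⊤ : Subgroup G)
      (fun h => (((f.comp (Subgroup.subtype ⊤)) h : ℂˣ) : ℂ)) (x⁻¹ * g * x) = χ g := by
    intro x
    rw [extendByZero_of_mem _ _ (Subgroup.mem_top _)]
    simp only [MonoidHom.comp_apply, Subgroup.coe_subtype]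
    rw [hf g, map_mul, map_mul, map_inv]
    congr 1
    rw [mul_comm, ← mul_assoc, mul_inv_cancel, one_mul]
  simp only [this, Finset.sum_const, Finset.card_univ, nsmul_eq_mul]
  rw [Subgroup.card_top, Nat.card_eq_fintype_card]
  have hG0 : (Fintype.card G : ℂ) ≠ 0 := by exact_mod_cast Fintype.card_ne_zero
  field_simp

theorem exists_second_center {G : Type*} [Group G] [Group.IsNilpotent G]
    (h : Subgroup.center G ≠ ⊤) :
    ∃ x : G, x ∉ Subgroup.center G ∧ ∀ g : G, x * g * x⁻¹ * g⁻¹ ∈ Subgroup.center G := by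
  have hnt : Nontrivial (G ⧸ Subgroup.center G) := by
    obtain ⟨g, hg⟩ : ∃ g : G, g ∉ Subgroup.center G := by
      by_contra hall
      push Not at hall
      exact h ((Subgroup.eq_top_iff' _).mpr hall)
    exact nontrivial_of_ne (g : G ⧸ Subgroup.center G) 1
      (fun h1 => hg ((QuotientGroup.eq_one_iff g).mp h1))
  have hc := Group.IsNilpotent.center_ne_bot (G := G ⧸ Subgroup.center G)
  obtain ⟨xb, hxb, hxb1⟩ : ∃ xb ∈ Subgroup.center (G ⧸ Subgroup.center G), xb ≠ 1 := by
    by_contra hall
    push Not at hall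
    exact hc ((Subgroup.eq_bot_iff_forall _).mpr hall)
  obtain ⟨x, rfl⟩ := QuotientGroup.mk_surjective xb
  refine ⟨x, fun hx => hxb1 ((QuotientGroup.eq_one_iff x).mpr hx), fun g => ?_⟩
  rw [← QuotientGroup.eq_one_iff]
  have := Subgroup.mem_center_iff.mp hxb (g : G ⧸ Subgroup.center G)
  simp only [QuotientGroup.mk_mul, QuotientGroup.mk_inv]
  rw [← this]
  group

theorem exists_normal_abelian_noncentral {G : Type*} [Group G] [Group.IsNilpotent G]
    (h : Subgroup.center G ≠ ⊤) :
    ∃ (A : Subgroup G) (x : G), A.Normal ∧ (∀ a ∈ A, ∀ b ∈ A, a * b = b * a) ∧ x ∈ A ∧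
      x ∉ Subgroup.center G := by
  obtain ⟨x, hx, hxg⟩ := exists_second_center h
  obtain ⟨S, hS⟩ : ∃ S : Set G, S = (Subgroup.center G : Set G) ∪ {x} := ⟨_, rfl⟩
  have hSmem : ∀ s, s ∈ S ↔ s ∈ Subgroup.center G ∨ s = x := by
    intro s
    rw [hS]
    rfl
  have hSc : ∀ s ∈ S, ∀ t ∈ S, s * t = t * s := by
    intro s hs t ht
    rcases (hSmem s).mp hs with hs | hs
    · exact (Subgroup.mem_center_iff.mp hs t).symm
    · rcases (hSmem t).mp ht with ht | ht
      · exact Subgroup.mem_center_iff.mp ht s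
      · rw [hs, ht]
  refine ⟨Subgroup.closure S, x, ?_, ?_, Subgroup.subset_closure ((hSmem x).mpr (Or.inr rfl)), hx⟩
  · constructor
    intro a ha g
    induction ha using Subgroup.closure_induction with
    | mem s hs =>
      rcases (hSmem s).mp hs with hs | hs
      · have : g * s * g⁻¹ = s := by
          rw [Subgroup.mem_center_iff.mp hs g]
          group
        rw [this]
        exact Subgroup.subset_closure ((hSmem s).mpr (Or.inl hs))
      · subst hs
        have h1 : g * s * g⁻¹ * s⁻¹ ∈ Subgroup.center G := by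
          have := (Subgroup.center G).inv_mem (hxg g)
          convert this using 1
          group
        have h2 : g * s * g⁻¹ = (g * s * g⁻¹ * s⁻¹) * s := by group
        rw [h2]
        exact Subgroup.mul_mem _ (Subgroup.subset_closure ((hSmem _).mpr (Or.inl h1)))
          (Subgroup.subset_closure ((hSmem _).mpr (Or.inr rfl)))
    | one =>
      have : g * 1 * g⁻¹ = 1 := by group
      rw [this]
      exact Subgroup.one_mem _
    | mul a b _ _ iha ihb =>
      have : g * (a * b) * g⁻¹ = (g * a * g⁻¹) * (g * b * g⁻¹) := by group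
      rw [this]
      exact Subgroup.mul_mem _ iha ihb
    | inv a _ iha =>
      have : g * a⁻¹ * g⁻¹ = (g * a * g⁻¹)⁻¹ := by group
      rw [this]
      exact Subgroup.inv_mem _ iha
  · intro a ha b hb
    have h1 : Subgroup.closure S ≤ Subgroup.centralizer S := by
      rw [Subgroup.closure_le]
      intro s hs
      rw [SetLike.mem_coe, Subgroup.mem_centralizer_iff]
      intro t ht
      exact hSc t ht s hs
    have h2 : S ⊆ Subgroup.centralizer ({a} : Set G) := by
      intro s hs
      rw [SetLike.mem_coe, Subgroup.mem_centralizer_iff]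
      intro t ht
      rw [Set.mem_singleton_iff] at ht
      subst ht
      exact (Subgroup.mem_centralizer_iff.mp (h1 ha) s hs).symm
    have h3 : Subgroup.closure S ≤ Subgroup.centralizer ({a} : Set G) :=
      (Subgroup.closure_le _).mpr h2
    exact Subgroup.mem_centralizer_iff.mp (h3 hb) a rfl

/-- The inertia group of a function on a normal subgroup. -/
def inertia {G : Type*} [Group G] (A : Subgroup G) [A.Normal] (θ : A → ℂ) : Subgroup G where
  carrier := {g | Cfsg.Agent.Helper75.conjFun A g θ = θ}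
  one_mem' := Cfsg.Agent.Helper75.conjFun_one A θ
  mul_mem' := fun {a b} ha hb => by
    show Cfsg.Agent.Helper75.conjFun A (a * b) θ = θ
    have ha' : Cfsg.Agent.Helper75.conjFun A a θ = θ := ha
    have hb' : Cfsg.Agent.Helper75.conjFun A b θ = θ := hb
    rw [Cfsg.Agent.Helper75.conjFun_mul, ha', hb']
  inv_mem' := fun {a} ha => by
    show Cfsg.Agent.Helper75.conjFun A a⁻¹ θ = θ
    have ha' : Cfsg.Agent.Helper75.conjFun A a θ = θ := ha
    have := Cfsg.Agent.Helper75.conjFun_conjFun_inv A a θ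
    rw [ha'] at this
    exact this

theorem mem_inertia {G : Type*} [Group G] (A : Subgroup G) [A.Normal] (θ : A → ℂ) (g : G) :
    g ∈ inertia A θ ↔ Cfsg.Agent.Helper75.conjFun A g θ = θ := Iff.rfl

/-- An irreducible character of a group in which all elements commute is linear. -/
theorem irr_apply_one_of_comm {K : Type*} [Group K] (hK : ∀ a b : K, a * b = b * a) {θ : K → ℂ}
    (hθ : Cfsg.IsIrrCharacter K θ) : θ 1 = 1 := by
  obtain ⟨m, ρ, hirr, hρ⟩ := hθ
  have hcomm : IsMulCommutative K := ⟨⟨hK⟩⟩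
  have h1 : Module.finrank ℂ (Fin m → ℂ) = 1 :=
    Representation.IsIrreducible.finrank_eq_one_of_isMulCommutative ρ
  rw [← hρ, Representation.char_one, h1]
  simp

theorem nilpotent_mgroup_aux (n : ℕ) :
    ∀ (G : Type u) [Group G] [Fintype G] [Group.IsNilpotent G], Nat.card G = n →
      ∀ χ : G → ℂ, Cfsg.IsIrrCharacter G χ →
        ∃ (H : Subgroup G) (lam : H →* ℂˣ), χ = Cfsg.indFun H (fun h => ((lam h : ℂˣ) : ℂ)) := by
  induction n using Nat.strong_induction_on with
  | _ n ih =>
    intro G _ _ _ hn χ hχ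
    classical
    have hχc := Cfsg.Agent.Helper79.isCharacter_of_irr hχ
    by_cases hlin : χ 1 = 1
    · exact exists_indFun_top_of_linear χ hχc hlin
    by_cases hker : Cfsg.Agent.Helper79.charKer hχc = ⊥
    · -- faithful case
      have hfaith : ∀ g : G, χ g = χ 1 → g = 1 := by
        intro g hg
        have : g ∈ Cfsg.Agent.Helper79.charKer hχc := hg
        rw [hker] at this
        exact Subgroup.mem_bot.mp this
      have hZ : Subgroup.center G ≠ ⊤ := by
        intro htop
        apply hlin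
        apply irr_apply_one_of_comm _ hχ
        intro a b
        have ha : a ∈ Subgroup.center G := by rw [htop]; trivial
        exact (Subgroup.mem_center_iff.mp ha b).symm
      obtain ⟨A, x, hAn, hAab, hxA, hxZ⟩ := exists_normal_abelian_noncentral hZ
      have : Fintype A := Fintype.ofFinite A
      have hresc : Cfsg.IsCharacter A (fun a : A => χ a) :=
        Cfsg.Agent.Helper79.isCharacter_restrict hχc A
      have hχ1 : χ 1 ≠ 0 := irr_apply_one_ne_zero hχ
      obtain ⟨lamA, hlamA, hne⟩ := Cfsg.Agent.Helper75.exists_irr_constituent hresc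
        (by simpa using hχ1)
      have hlamA1 : lamA 1 = 1 :=
        irr_apply_one_of_comm (fun a b => Subtype.ext (hAab a a.2 b b.2)) hlamA
      obtain ⟨T, hT⟩ : ∃ T : Subgroup G, T = inertia A lamA := ⟨_, rfl⟩
      have hTmem : ∀ g : G, g ∈ T ↔ Cfsg.Agent.Helper75.conjFun A g lamA = lamA := by
        intro g
        rw [hT]
        rfl
      have hAT : A ≤ T := by
        intro a ha
        rw [hTmem]
        funext h
        rw [Cfsg.Agent.Helper75.conjFun_apply]
        congr 1
        apply Subtype.ext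
        show a * h * a⁻¹ = h
        rw [hAab a ha h h.2]
        group
      have hTtop : T ≠ ⊤ := by
        intro htop
        have hinv : ∀ g : G, Cfsg.Agent.Helper75.conjFun A g lamA = lamA := fun g => by
          rw [← hTmem, htop]
          trivial
        have hcl := Cfsg.Agent.Helper75.clifford_restrict A hχ hlamA hne
        have hset : {ψ : A → ℂ | ∃ g : G, ψ = Cfsg.Agent.Helper75.conjFun A g lamA} = {lamA} := by
          ext ψ
          constructor
          · rintro ⟨g, rfl⟩
            exact hinv g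
          · intro h
            rw [Set.mem_singleton_iff] at h
            exact ⟨1, by rw [h, Cfsg.Agent.Helper75.conjFun_one]⟩
        rw [hset, finsum_mem_singleton] at hcl
        obtain ⟨e, he⟩ : ∃ e : ℂ, e = Cfsg.classInner (fun n : A => χ n) lamA := ⟨_, rfl⟩
        rw [← he] at hcl
        have hxe : χ x = e * lamA ⟨x, hxA⟩ := by
          have := congrFun hcl ⟨x, hxA⟩
          simpa using this
        have h1e : χ 1 = e := by
          have := congrFun hcl 1
          simp only [Pi.smul_apply, smul_eq_mul, hlamA1, mul_one] at this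
          simpa using this
        obtain ⟨f, hf⟩ := Cfsg.Agent.Helper79.isCharacter_linear
          (Cfsg.Agent.Helper79.isCharacter_of_irr hlamA) hlamA1
        have hnorm : ‖lamA ⟨x, hxA⟩‖ = 1 := by
          rw [hf]
          exact Cfsg.Agent.Helper79.norm_hom_apply f _
        obtain ⟨m, ρ, hirr, hρ⟩ := hχ
        have hnx : ‖ρ.character x‖ = (Module.finrank ℂ (Fin m → ℂ) : ℝ) := by
          rw [hρ, hxe, norm_mul, hnorm, mul_one, ← h1e, ← hρ, Representation.char_one]
          simp
        obtain ⟨ω, hω⟩ := rep_scalar_of_norm_eq ρ x hnx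
        apply hxZ
        rw [Subgroup.mem_center_iff]
        intro g
        have hcomm : ρ (g * x * g⁻¹ * x⁻¹) = 1 := by
          have h1 : ρ (g * x * g⁻¹ * x⁻¹) = ρ g * ρ x * ρ g⁻¹ * ρ x⁻¹ := by
            simp only [map_mul]
          have h2 : ρ g * ρ x = ρ x * ρ g := by
            rw [hω]
            ext v
            simp
          rw [h1, h2, mul_assoc (ρ x), ← map_mul, mul_inv_cancel, map_one, mul_one, ← map_mul,
            mul_inv_cancel, map_one]
        have hval : χ (g * x * g⁻¹ * x⁻¹) = χ 1 := by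
          rw [← hρ]
          have h1' : ρ 1 = 1 := map_one ρ
          show LinearMap.trace ℂ _ (ρ (g * x * g⁻¹ * x⁻¹)) = LinearMap.trace ℂ _ (ρ 1)
          rw [hcomm, h1']
        have h3 := hfaith _ hval
        calc g * x = (g * x * g⁻¹ * x⁻¹) * x * g := by group
          _ = x * g := by rw [h3, one_mul]
      have : Fintype T := Fintype.ofFinite T
      obtain ⟨ψ, hψ, hc, hf⟩ := Cfsg.Agent.Helper75.exists_irr_over hAT
        (Cfsg.Agent.Helper79.isCharacter_of_irr hlamA) hχc hne
      have hcorr := (Cfsg.Agent.Helper75.clifford_correspondence hAT hlamA hTmem hψ hχ hf hc).1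
      have hcardT : Nat.card T < n := by
        rw [← hn]
        have hle := Subgroup.card_le_card_group T
        rcases hle.lt_or_eq with h | h
        · exact h
        · exact absurd (Subgroup.eq_top_of_card_eq T h) hTtop
      obtain ⟨H₀, μ, hμ⟩ := ih (Nat.card T) hcardT T rfl ψ hψ
      obtain ⟨lam, hlam⟩ := indFun_trans_map T H₀ μ
      exact ⟨H₀.map T.subtype, lam, by rw [← hcorr, hμ, hlam]⟩
    · -- non-faithful case: pass to the quotient by the kernel
      have hKn : (Cfsg.Agent.Helper79.charKer hχc).Normal := Cfsg.Agent.Helper79.charKer_normal hχc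
      have : Fintype (G ⧸ Cfsg.Agent.Helper79.charKer hχc) := Fintype.ofFinite _
      obtain ⟨ψ, hψ, hψχ⟩ := Cfsg.Agent.Helper79.exists_irr_deflation
        (Cfsg.Agent.Helper79.charKer hχc) hχ (fun x hx => hx)
      have hcard : Nat.card (G ⧸ Cfsg.Agent.Helper79.charKer hχc) < n := by
        rw [← hn, Subgroup.card_eq_card_quotient_mul_card_subgroup (Cfsg.Agent.Helper79.charKer hχc)]
        have h1 : 1 < Nat.card (Cfsg.Agent.Helper79.charKer hχc) :=
          (Subgroup.one_lt_card_iff_ne_bot _).mpr hker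
        have h2 : 0 < Nat.card (G ⧸ Cfsg.Agent.Helper79.charKer hχc) := Nat.card_pos
        nlinarith
      obtain ⟨Hb, μ, hμ⟩ := ih (Nat.card (G ⧸ Cfsg.Agent.Helper79.charKer hχc)) hcard
        (G ⧸ Cfsg.Agent.Helper79.charKer hχc) rfl ψ hψ
      refine ⟨Hb.comap (QuotientGroup.mk' (Cfsg.Agent.Helper79.charKer hχc)),
        μ.comp ((QuotientGroup.mk' (Cfsg.Agent.Helper79.charKer hχc)).subgroupComap Hb), ?_⟩
      funext g
      rw [← hψχ g, hμ, indFun_comap_mk (Cfsg.Agent.Helper79.charKer hχc) Hb _ g]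
      rfl

/-- **A finite nilpotent group is an M-group.** -/
theorem nilpotent_mgroup {G : Type u} [Group G] [Fintype G] [Group.IsNilpotent G] (χ : G → ℂ)
    (hχ : Cfsg.IsIrrCharacter G χ) :
    ∃ (H : Subgroup G) (lam : H →* ℂˣ), χ = Cfsg.indFun H (fun h => ((lam h : ℂˣ) : ℂ)) :=
  nilpotent_mgroup_aux _ G rfl χ hχ

end Cfsg.Agent.Helper3
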