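import Mathlib
import Cfsg.Prelude.Def_Characters
import Cfsg.Agent.Helper3.MGroup
import Cfsg.Agent.Helper3.Artin
import Cfsg.Agent.Helper3.Induced
import Cfsg.Agent.Helper15.Gallagher
import Cfsg.Agent.Helper4.GenChar

/-!
# Brauer's induction theorem: from the unit character to all characters

Elementary groups are nilpotent, hence M-groups; the class of elementary groups is closed under
subgroups.  If the principal character is a `ℤ`-combination of characters induced from
elementary subgroups, then every character is a `ℤ`-combination of characters induced from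
*linear* characters of elementary subgroups, and Brauer's characterisation of characters holds.
-/

set_option autoImplicit false

namespace Cfsg.Agent.Helper3

universe u

/-- Being elementary is invariant under isomorphism. -/
theorem isElementary_of_mulEquiv {p : ℕ} {E E' : Type*} [Group E] [Group E'] (e : E ≃* E')
    (h : Cfsg.IsElementary p E) : Cfsg.IsElementary p E' := by
  obtain ⟨x, hx, hcop, k, hk⟩ := h
  refine ⟨e x, ?_, ?_, k, ?_⟩
  · rw [Subgroup.mem_center_iff] at hx ⊢
    intro g
    have h2 := congrArg e (hx (e.symm g))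
    simpa using h2
  · rwa [MulEquiv.orderOf_eq]
  · have h3 : Subgroup.zpowers (e x) = (Subgroup.zpowers x).map (e : E →* E') := by
      rw [MonoidHom.map_zpowers]
      rfl
    rw [h3, Subgroup.index_map_equiv]
    exact hk

/-- A subgroup of an elementary group is elementary. -/
theorem isElementary_subgroup {p : ℕ} (hp : p.Prime) {E : Type*} [Group E]
    (h : Cfsg.IsElementary p E) (H : Subgroup E) : Cfsg.IsElementary p H := by
  obtain ⟨x, hx, hcop, k, hk⟩ := h
  have hxc : ∀ z ∈ Subgroup.zpowers x, ∀ g : E, g * z = z * g := by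
    intro z hz g
    obtain ⟨n, rfl⟩ := Subgroup.mem_zpowers_iff.mp hz
    exact (Subgroup.mem_center_iff.mp (Subgroup.zpow_mem _ hx n)) g
  have hnorm : (Subgroup.zpowers x).Normal := by
    refine ⟨fun z hz g => ?_⟩
    have : g * z * g⁻¹ = z := by rw [hxc z hz g, mul_inv_cancel_right]
    rw [this]
    exact hz
  obtain ⟨D, hD⟩ : ∃ D : Subgroup H, D = (Subgroup.zpowers x).subgroupOf H := ⟨_, rfl⟩
  have hDmem : ∀ d : H, d ∈ D ↔ (d : E) ∈ Subgroup.zpowers x := by
    intro d
    rw [hD, Subgroup.mem_subgroupOf]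
  let f : D →* Subgroup.zpowers x :=
    { toFun := fun d => ⟨((d : H) : E), (hDmem d).mp d.2⟩
      map_one' := rfl
      map_mul' := fun _ _ => rfl }
  have hf : Function.Injective f := by
    intro a b hab
    have h1 : ((a : H) : E) = ((b : H) : E) :=
      congrArg (fun z : Subgroup.zpowers x => (z : E)) hab
    exact Subtype.ext (Subtype.ext h1)
  have : IsCyclic D := isCyclic_of_injective f hf
  obtain ⟨y, hy⟩ := IsCyclic.exists_generator (α := D)
  have hyx : ((y : H) : E) ∈ Subgroup.zpowers x := (hDmem y).mp y.2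
  have hDz : D = Subgroup.zpowers (y : H) := by
    ext d
    constructor
    · intro hd
      obtain ⟨n, hn⟩ := Subgroup.mem_zpowers_iff.mp (hy ⟨d, hd⟩)
      refine Subgroup.mem_zpowers_iff.mpr ⟨n, ?_⟩
      have := congrArg Subtype.val hn
      simpa using this
    · intro hd
      obtain ⟨n, rfl⟩ := Subgroup.mem_zpowers_iff.mp hd
      exact Subgroup.zpow_mem _ y.2 n
  refine ⟨(y : H), ?_, ?_, ?_⟩
  · rw [Subgroup.mem_center_iff]
    intro g
    apply Subtype.ext
    exact hxc _ hyx (g : E)
  · have h1 : orderOf (y : H) = orderOf ((y : H) : E) := (Subgroup.orderOf_coe (y : H)).symm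
    rw [h1]
    exact Nat.Coprime.coprime_dvd_left (orderOf_dvd_of_mem_zpowers hyx) hcop
  · rw [← hDz, hD]
    have h2 : (Subgroup.zpowers x).relIndex H ∣ p ^ k := by
      rw [← hk]
      exact Subgroup.relIndex_dvd_index_of_normal _ _
    obtain ⟨j, -, hj⟩ := (Nat.dvd_prime_pow hp).mp h2
    exact ⟨j, hj⟩

/-- Elementary groups are nilpotent. -/
theorem isNilpotent_of_isElementary {p : ℕ} (hp : p.Prime) {E : Type*} [Group E] [Finite E]
    (h : Cfsg.IsElementary p E) : Group.IsNilpotent E := by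
  obtain ⟨x, hx, hcop, k, hk⟩ := h
  have := Fact.mk hp
  have hle : Subgroup.zpowers x ≤ Subgroup.center E := by
    rw [Subgroup.zpowers_le]
    exact hx
  have h1 : (Subgroup.center E).index ∣ p ^ k := hk ▸ Subgroup.index_dvd_of_le hle
  obtain ⟨j, -, hj⟩ := (Nat.dvd_prime_pow hp).mp h1
  have h2 : Nat.card (E ⧸ Subgroup.center E) = p ^ j := by
    rw [← hj]
    rfl
  have h3 : IsPGroup p (E ⧸ Subgroup.center E) := IsPGroup.of_card h2
  exact Group.of_quotient_center_nilpotent h3.isNilpotent

section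

variable {G : Type u} [Group G]

theorem extendByZero_smul (H : Subgroup G) (c : ℂ) (θ : H → ℂ) (g : G) :
    Cfsg.extendByZero H (c • θ) g = c * Cfsg.extendByZero H θ g := by
  by_cases hg : g ∈ H
  · rw [extendByZero_of_mem H _ hg, extendByZero_of_mem H _ hg]
    rfl
  · rw [extendByZero_of_not_mem H _ hg, extendByZero_of_not_mem H _ hg, mul_zero]

theorem indFun_smul [Fintype G] (H : Subgroup G) (c : ℂ) (θ : H → ℂ) :
    Cfsg.indFun H (c • θ) = c • Cfsg.indFun H θ := by
  funext g
  simp only [Cfsg.indFun, Pi.smul_apply, extendByZero_smul, smul_eq_mul, ← Finset.mul_sum]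
  ring

theorem indFun_sub_fun [Fintype G] (H : Subgroup G) (θ₁ θ₂ : H → ℂ) :
    Cfsg.indFun H (θ₁ - θ₂) = Cfsg.indFun H θ₁ - Cfsg.indFun H θ₂ := by
  rw [sub_eq_add_neg, indFun_add, indFun_neg, ← sub_eq_add_neg]

theorem indFun_finset_sum [Fintype G] (H : Subgroup G) {ι : Type*} (s : Finset ι)
    (θ : ι → H → ℂ) :
    Cfsg.indFun H (∑ i ∈ s, θ i) = ∑ i ∈ s, Cfsg.indFun H (θ i) := by
  classical
  induction s using Finset.induction_on with
  | empty => simp [indFun_zero]
  | insert a s ha ih => rw [Finset.sum_insert ha, Finset.sum_insert ha, indFun_add, ih]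

/-- `ℤ`-span of the functions induced from homomorphisms of elementary subgroups into `ℂˣ`. -/
def brauerSpan (G : Type u) [Group G] [Fintype G] : AddSubgroup (G → ℂ) :=
  AddSubgroup.closure {f | ∃ (E : Subgroup G) (l : E →* ℂˣ),
    (∃ p : ℕ, p.Prime ∧ Cfsg.IsElementary p E) ∧
      f = Cfsg.indFun E (fun a => ((l a : ℂˣ) : ℂ))}

/-- `ℤ`-span of the characters induced from elementary subgroups. -/
def brauerCharSpan (G : Type u) [Group G] [Fintype G] : AddSubgroup (G → ℂ) :=
  AddSubgroup.closure {f | ∃ (E : Subgroup G) (ψ : E → ℂ),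
    (∃ p : ℕ, p.Prime ∧ Cfsg.IsElementary p E) ∧ Cfsg.IsCharacter E ψ ∧
      f = Cfsg.indFun E ψ}

/-- An irreducible character of an elementary subgroup induces into the Brauer span. -/
theorem indFun_irr_mem_brauerSpan [Fintype G] (E : Subgroup G) {p : ℕ} (hp : p.Prime)
    (hE : Cfsg.IsElementary p E) (χ : E → ℂ) (hχ : Cfsg.IsIrrCharacter E χ) :
    Cfsg.indFun E χ ∈ brauerSpan G := by
  classical
  haveI : Fintype E := Fintype.ofFinite E
  have : Group.IsNilpotent E := isNilpotent_of_isElementary hp hE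
  obtain ⟨H₀, μ, hμ⟩ := nilpotent_mgroup χ hχ
  obtain ⟨lam, hlam⟩ := indFun_trans_map E H₀ μ
  have hel : Cfsg.IsElementary p (H₀.map E.subtype) :=
    isElementary_of_mulEquiv (H₀.equivMapOfInjective E.subtype E.subtype_injective)
      (isElementary_subgroup hp hE H₀)
  apply AddSubgroup.subset_closure
  refine ⟨H₀.map E.subtype, lam, ⟨p, hp, hel⟩, ?_⟩
  rw [← hlam, ← hμ]

/-- A character of an elementary subgroup induces into the Brauer span. -/
theorem indFun_mem_brauerSpan [Fintype G] (E : Subgroup G) {p : ℕ} (hp : p.Prime)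
    (hE : Cfsg.IsElementary p E) (ψ : E → ℂ) (hψ : Cfsg.IsCharacter E ψ) :
    Cfsg.indFun E ψ ∈ brauerSpan G := by
  classical
  haveI : Fintype (Cfsg.IrrCharacter E) := Fintype.ofFinite _
  obtain ⟨m, hm⟩ := Cfsg.Agent.Helper4.isCharacter_eq_nat_sum hψ
  rw [hm, indFun_finset_sum]
  apply sum_mem
  intro φ _
  rw [indFun_smul, Nat.cast_smul_eq_nsmul]
  exact AddSubgroup.nsmul_mem _ (indFun_irr_mem_brauerSpan E hp hE φ φ.2) _

theorem brauerSpan_le_brauerCharSpan [Fintype G] : brauerSpan G ≤ brauerCharSpan G := by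
  apply (AddSubgroup.closure_le _).mpr
  rintro f ⟨E, l, hE, rfl⟩
  apply AddSubgroup.subset_closure
  exact ⟨E, _, hE, Cfsg.Agent.Helper79.isCharacter_of_irr
    (Cfsg.Agent.Helper79.isIrrCharacter_of_hom l), rfl⟩

/-- If the principal character lies in the span of characters induced from elementary
subgroups, then every character lies in the span of the characters induced from linear
characters of elementary subgroups. -/
theorem mem_brauerSpan_of_one_mem [Fintype G]
    (h1 : (fun _ : G => (1 : ℂ)) ∈ brauerCharSpan G) (χ : G → ℂ)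
    (hχ : Cfsg.IsCharacter G χ) : χ ∈ brauerSpan G := by
  have key : ∀ f ∈ brauerCharSpan G, f * χ ∈ brauerSpan G := by
    intro f hf
    induction hf using AddSubgroup.closure_induction with
    | mem x hx =>
      obtain ⟨E, ψ, ⟨p, hp, hE⟩, hψ, rfl⟩ := hx
      rw [← Cfsg.Agent.Helper15.indFun_mul_restrict E ψ
        (Cfsg.Agent.Helper79.isCharacter_isClassFunction hχ)]
      exact indFun_mem_brauerSpan E hp hE _
        (Cfsg.Agent.Helper79.isCharacter_mul hψ (Cfsg.Agent.Helper79.isCharacter_restrict hχ E))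
    | zero => rw [zero_mul]; exact zero_mem _
    | add x y _ _ hx hy => rw [add_mul]; exact add_mem hx hy
    | neg x _ hx => rw [neg_mul]; exact neg_mem hx
  have h2 := key _ h1
  have h3 : (fun _ : G => (1 : ℂ)) * χ = χ := by
    funext g
    simp
  rwa [h3] at h2

theorem brauer_list_neg_sum [Fintype G] (l : List ((A : Subgroup G) × ((A →* ℂˣ) × ℤ))) :
    -(l.map fun t => (t.2.2 : ℂ) • Cfsg.indFun t.1 (fun a => (t.2.1 a : ℂ))).sum
      = ((l.map (fun t => (⟨t.1, (t.2.1, -t.2.2)⟩ : (A : Subgroup G) × ((A →* ℂˣ) × ℤ)))).map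
          fun t => (t.2.2 : ℂ) • Cfsg.indFun t.1 (fun a => (t.2.1 a : ℂ))).sum :=
  list_neg_sum l

theorem exists_list_of_mem_brauerSpan [Fintype G] (f : G → ℂ) (hf : f ∈ brauerSpan G) :
    ∃ l : List ((E : Subgroup G) × ((E →* ℂˣ) × ℤ)),
      (∀ t ∈ l, ∃ p : ℕ, p.Prime ∧ Cfsg.IsElementary p t.1) ∧
      f = (l.map fun t => (t.2.2 : ℂ) • Cfsg.indFun t.1 (fun e => (t.2.1 e : ℂ))).sum := by
  induction hf using AddSubgroup.closure_induction with
  | mem x hx =>
    obtain ⟨E, l, hE, rfl⟩ := hx
    refine ⟨[⟨E, (l, 1)⟩], ?_, ?_⟩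
    · intro t ht
      rw [List.mem_singleton] at ht
      rw [ht]
      exact hE
    · simp
  | zero => exact ⟨[], by simp, by simp⟩
  | add x y _ _ hx hy =>
    obtain ⟨l₁, h₁, rfl⟩ := hx
    obtain ⟨l₂, h₂, rfl⟩ := hy
    refine ⟨l₁ ++ l₂, ?_, by simp⟩
    intro t ht
    rcases List.mem_append.mp ht with h | h
    · exact h₁ t h
    · exact h₂ t h
  | neg x _ hx =>
    obtain ⟨l, h, rfl⟩ := hx
    refine ⟨l.map (fun t => ⟨t.1, (t.2.1, -t.2.2)⟩), ?_, ?_⟩
    · intro t ht
      obtain ⟨s, hs, rfl⟩ := List.mem_map.mp ht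
      exact h s hs
    · exact list_neg_sum l

/-- Generalized characters are closed under addition. -/
theorem isGeneralizedCharacter_add {θ₁ θ₂ : G → ℂ} (h₁ : Cfsg.IsGeneralizedCharacter G θ₁)
    (h₂ : Cfsg.IsGeneralizedCharacter G θ₂) : Cfsg.IsGeneralizedCharacter G (θ₁ + θ₂) := by
  obtain ⟨a, b, ha, hb, rfl⟩ := h₁
  obtain ⟨c, d, hc, hd, rfl⟩ := h₂
  exact ⟨a + c, b + d, Cfsg.Agent.Helper79.isCharacter_add ha hc,
    Cfsg.Agent.Helper79.isCharacter_add hb hd, by abel⟩

theorem isGeneralizedCharacter_neg {θ : G → ℂ} (h : Cfsg.IsGeneralizedCharacter G θ) :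
    Cfsg.IsGeneralizedCharacter G (-θ) := by
  obtain ⟨a, b, ha, hb, rfl⟩ := h
  exact ⟨b, a, hb, ha, by abel⟩

theorem isGeneralizedCharacter_zero : Cfsg.IsGeneralizedCharacter G (0 : G → ℂ) :=
  ⟨0, 0, Cfsg.Agent.Helper79.isCharacter_zero, Cfsg.Agent.Helper79.isCharacter_zero, by simp⟩

/-- **Brauer's characterisation of characters**, assuming that the principal character lies
in the span of the characters induced from elementary subgroups. -/
theorem isGeneralizedCharacter_of_one_mem [Fintype G]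
    (h1 : (fun _ : G => (1 : ℂ)) ∈ brauerCharSpan G) (θ : G → ℂ)
    (hθ : Cfsg.IsClassFunction G θ)
    (hE : ∀ (E : Subgroup G) (p : ℕ), p.Prime → Cfsg.IsElementary p E →
      Cfsg.IsGeneralizedCharacter E (fun e : E => θ e)) :
    Cfsg.IsGeneralizedCharacter G θ := by
  have key : ∀ f ∈ brauerCharSpan G, Cfsg.IsGeneralizedCharacter G (f * θ) := by
    intro f hf
    induction hf using AddSubgroup.closure_induction with
    | mem x hx =>
      obtain ⟨E, ψ, ⟨p, hp, hEl⟩, hψ, rfl⟩ := hx
      rw [← Cfsg.Agent.Helper15.indFun_mul_restrict E ψ hθ]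
      obtain ⟨a, b, ha, hb, hab⟩ := hE E p hp hEl
      have h2 : (fun h : E => ψ h * θ h) = ψ * a - ψ * b := by
        funext h
        have := congrFun hab h
        simp only [Pi.sub_apply, Pi.mul_apply] at this ⊢
        rw [this]
        ring
      rw [h2, indFun_sub_fun]
      exact ⟨_, _, isCharacter_indFun E _ (Cfsg.Agent.Helper79.isCharacter_mul hψ ha),
        isCharacter_indFun E _ (Cfsg.Agent.Helper79.isCharacter_mul hψ hb), rfl⟩
    | zero => rw [zero_mul]; exact isGeneralizedCharacter_zero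
    | add x y _ _ hx hy => rw [add_mul]; exact isGeneralizedCharacter_add hx hy
    | neg x _ hx => rw [neg_mul]; exact isGeneralizedCharacter_neg hx
  have h2 := key _ h1
  have h3 : (fun _ : G => (1 : ℂ)) * θ = θ := by
    funext g
    simp
  rwa [h3] at h2

end

end Cfsg.Agent.Helper3
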