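import Mathlib
import Cfsg.Prelude.Def_Characters
import Cfsg.Agent.Helper3.BrauerInd
import Cfsg.Agent.Helper3.Frobenius
import Cfsg.Agent.Helper75.CliffordCorr
import Cfsg.Agent.Helper15.Solomon
import Cfsg.Agent.S0873

/-!
# Brauer's induction theorem via Solomon's theorem

For a prime `p`, `elemCharSpan p G` is the `ℤ`-span of the characters induced from
`p`-elementary subgroups.  We show that for a group with a normal cyclic `p'`-subgroup of
`p`-power index (a `p`-quasi-elementary group) the principal character lies in this span,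
deduce with Solomon's theorem the local form of Brauer's induction theorem, and then the
global one.
-/

set_option autoImplicit false

namespace Cfsg.Agent.Helper3

universe u

section

variable {G : Type u} [Group G]

/-- Transitivity of induction for a subgroup `H₀` of the subgroup `K`, arbitrary functions. -/
theorem indFun_trans_map_fun [Fintype G] (K : Subgroup G) [Fintype K]
    (H₀ : Subgroup K) (ψ : H₀ → ℂ) :
    Cfsg.indFun K (Cfsg.indFun H₀ ψ)
      = Cfsg.indFun (H₀.map K.subtype)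
          (fun h => ψ ((H₀.equivMapOfInjective K.subtype K.subtype_injective).symm h)) := by
  obtain ⟨e, he⟩ : ∃ e : H₀ ≃* H₀.map K.subtype,
      e = H₀.equivMapOfInjective K.subtype K.subtype_injective := ⟨_, rfl⟩
  rw [← he]
  have hHK : H₀.map K.subtype ≤ K := Subgroup.map_subtype_le H₀
  rw [← indFun_trans (H₀.map K.subtype) K hHK]
  congr 1
  have hsub : (H₀.map K.subtype).subgroupOf K = H₀ :=
    Subgroup.comap_map_eq_self_of_injective K.subtype_injective H₀
  apply indFun_congr hsub.symm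
  intro x h1 h2
  have hmem : (x : G) ∈ H₀.map K.subtype := ⟨x, h1, rfl⟩
  have hex : e.symm ⟨(x : G), hmem⟩ = ⟨x, h1⟩ := by
    rw [MulEquiv.symm_apply_eq, he]
    apply Subtype.ext
    rfl
  show ψ ⟨x, h1⟩ = ψ (e.symm ⟨(x : G), hmem⟩)
  rw [hex]

/-- `ℤ`-span of the characters induced from `p`-elementary subgroups. -/
def elemCharSpan (p : ℕ) (G : Type u) [Group G] [Fintype G] : AddSubgroup (G → ℂ) :=
  AddSubgroup.closure {f | ∃ (E : Subgroup G) (ψ : E → ℂ),
    Cfsg.IsElementary p E ∧ Cfsg.IsCharacter E ψ ∧ f = Cfsg.indFun E ψ}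

theorem elemCharSpan_le_brauerCharSpan [Fintype G] {p : ℕ} (hp : p.Prime) :
    elemCharSpan p G ≤ brauerCharSpan G := by
  apply (AddSubgroup.closure_le _).mpr
  rintro f ⟨E, ψ, hE, hψ, rfl⟩
  apply AddSubgroup.subset_closure
  exact ⟨E, ψ, ⟨p, hp, hE⟩, hψ, rfl⟩

/-- Induction maps the span for a subgroup into the span for the group. -/
theorem indFun_mem_elemCharSpan [Fintype G] (p : ℕ) (K : Subgroup G) [Fintype K] (f : K → ℂ)
    (hf : f ∈ elemCharSpan p K) : Cfsg.indFun K f ∈ elemCharSpan p G := by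
  induction hf using AddSubgroup.closure_induction with
  | mem x hx =>
    obtain ⟨E₀, ψ, hE, hψ, rfl⟩ := hx
    rw [indFun_trans_map_fun]
    apply AddSubgroup.subset_closure
    refine ⟨E₀.map K.subtype, _, ?_, ?_, rfl⟩
    · exact isElementary_of_mulEquiv (E₀.equivMapOfInjective K.subtype K.subtype_injective) hE
    · exact (Cfsg.Agent.Helper79.isCharacter_mulEquiv
        (E₀.equivMapOfInjective K.subtype K.subtype_injective).symm).mpr hψ
  | zero => rw [indFun_zero]; exact zero_mem _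
  | add x y _ _ hx hy => rw [indFun_add]; exact add_mem hx hy
  | neg x _ hx => rw [indFun_neg]; exact neg_mem hx

/-- If the principal character is in the span, so is every character. -/
theorem mem_elemCharSpan_of_one_mem [Fintype G] {p : ℕ}
    (h1 : (fun _ : G => (1 : ℂ)) ∈ elemCharSpan p G) (χ : G → ℂ)
    (hχ : Cfsg.IsCharacter G χ) : χ ∈ elemCharSpan p G := by
  have key : ∀ f ∈ elemCharSpan p G, f * χ ∈ elemCharSpan p G := by
    intro f hf
    induction hf using AddSubgroup.closure_induction with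
    | mem x hx =>
      obtain ⟨E, ψ, hE, hψ, rfl⟩ := hx
      rw [← Cfsg.Agent.Helper15.indFun_mul_restrict E ψ
        (Cfsg.Agent.Helper79.isCharacter_isClassFunction hχ)]
      apply AddSubgroup.subset_closure
      exact ⟨E, _, hE, Cfsg.Agent.Helper79.isCharacter_mul hψ
        (Cfsg.Agent.Helper79.isCharacter_restrict hχ E), rfl⟩
    | zero => rw [zero_mul]; exact zero_mem _
    | add x y _ _ hx hy => rw [add_mul]; exact add_mem hx hy
    | neg x _ hx => rw [neg_mul]; exact neg_mem hx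
  have h2 := key _ h1
  have h3 : (fun _ : G => (1 : ℂ)) * χ = χ := by
    funext g
    simp
  rwa [h3] at h2


/-- Elements of a cyclic subgroup commute. -/
theorem comm_of_isCyclic_subgroup (C : Subgroup G) (hcyc : IsCyclic C) :
    ∀ a ∈ C, ∀ b ∈ C, a * b = b * a := by
  obtain ⟨g, hg⟩ := IsCyclic.exists_generator (α := C)
  intro a ha b hb
  obtain ⟨m, hm⟩ := Subgroup.mem_zpowers_iff.mp (hg ⟨a, ha⟩)
  obtain ⟨n, hn⟩ := Subgroup.mem_zpowers_iff.mp (hg ⟨b, hb⟩)
  have ha' : a = (g : G) ^ m := by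
    have := congrArg Subtype.val hm
    simpa using this.symm
  have hb' : b = (g : G) ^ n := by
    have := congrArg Subtype.val hn
    simpa using this.symm
  rw [ha', hb', ← zpow_add, ← zpow_add, add_comm]

/-- Structure of a `p`-quasi-elementary group `Q` with normal cyclic `p'`-subgroup `C` of
`p`-power index: a Sylow `p`-subgroup `P` complements `C`, `Z = C_C(P)` is central and
`E = Z P` is `p`-elementary. -/
theorem exists_qe_structure [Finite G] {p : ℕ} (hp : p.Prime)
    (C : Subgroup G) [hC : C.Normal] (hcyc : IsCyclic C) (hcop : Nat.Coprime (Nat.card C) p)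
    {k : ℕ} (hk : C.index = p ^ k) :
    ∃ (P Z E : Subgroup G), IsPGroup p P ∧ C ⊔ P = ⊤ ∧
      Z = C ⊓ Subgroup.centralizer (P : Set G) ∧ Z ≤ E ∧ C ⊔ E = ⊤ ∧ Cfsg.IsElementary p E := by
  have := Fact.mk hp
  obtain ⟨P⟩ : Nonempty (Sylow p G) := inferInstance
  have hCP : C ⊔ (P : Subgroup G) = ⊤ := by
    rw [← Subgroup.index_eq_one]
    have h1 : (C ⊔ (P : Subgroup G)).index ∣ p ^ k := by
      rw [← hk]
      exact Subgroup.index_dvd_of_le le_sup_left
    obtain ⟨j, -, hj⟩ := (Nat.dvd_prime_pow hp).mp h1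
    have h2 : (C ⊔ (P : Subgroup G)).index ∣ (P : Subgroup G).index :=
      Subgroup.index_dvd_of_le le_sup_right
    rcases Nat.eq_zero_or_pos j with h0 | hpos
    · rw [hj, h0, pow_zero]
    · exfalso
      apply P.not_dvd_index
      refine dvd_trans ?_ h2
      rw [hj]
      exact dvd_pow_self p hpos.ne'
  obtain ⟨Z, hZ⟩ : ∃ Z : Subgroup G,
      Z = C ⊓ Subgroup.centralizer ((P : Subgroup G) : Set G) := ⟨_, rfl⟩
  have hCcomm := comm_of_isCyclic_subgroup C hcyc
  have hZC : Z ≤ C := by rw [hZ]; exact inf_le_left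
  have hZc : ∀ z ∈ Z, ∀ q : G, q * z = z * q := by
    intro z hz q
    have hz' := hz
    rw [hZ] at hz'
    obtain ⟨hzC, hzP⟩ := Subgroup.mem_inf.mp hz'
    have hq : q ∈ C ⊔ (P : Subgroup G) := by rw [hCP]; trivial
    have hle : C ⊔ (P : Subgroup G) ≤ Subgroup.centralizer {z} := by
      apply sup_le
      · intro c hc
        rw [Subgroup.mem_centralizer_iff]
        intro y hy
        rw [Set.mem_singleton_iff] at hy
        rw [hy]
        exact hCcomm z hzC c hc
      · intro x hx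
        rw [Subgroup.mem_centralizer_iff]
        intro y hy
        rw [Set.mem_singleton_iff] at hy
        rw [hy]
        exact ((Subgroup.mem_centralizer_iff.mp hzP) x hx).symm
    exact (Subgroup.mem_centralizer_iff.mp (hle hq) z rfl).symm
  have hZn : Z.Normal := by
    refine ⟨fun z hz g => ?_⟩
    have : g * z * g⁻¹ = z := by rw [hZc z hz g, mul_inv_cancel_right]
    rw [this]
    exact hz
  obtain ⟨E, hE⟩ : ∃ E : Subgroup G, E = Z ⊔ (P : Subgroup G) := ⟨_, rfl⟩
  have hZE : Z ≤ E := by rw [hE]; exact le_sup_left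
  have hPE : (P : Subgroup G) ≤ E := by rw [hE]; exact le_sup_right
  have : IsCyclic Z := Subgroup.isCyclic_of_le hZC
  obtain ⟨z₀, hz₀⟩ := IsCyclic.exists_generator (α := Z)
  have hZz : ∀ y : G, y ∈ Z ↔ y ∈ Subgroup.zpowers (z₀ : G) := by
    intro y
    constructor
    · intro hy
      obtain ⟨n, hn⟩ := Subgroup.mem_zpowers_iff.mp (hz₀ ⟨y, hy⟩)
      refine Subgroup.mem_zpowers_iff.mpr ⟨n, ?_⟩
      have := congrArg Subtype.val hn
      simpa using this
    · intro hy
      obtain ⟨n, rfl⟩ := Subgroup.mem_zpowers_iff.mp hy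
      exact Subgroup.zpow_mem _ z₀.2 n
  refine ⟨P, Z, E, P.isPGroup', hCP, hZ, hZE, ?_, ?_⟩
  · apply top_le_iff.mp
    rw [← hCP]
    exact sup_le_sup_left hPE C
  · refine ⟨⟨(z₀ : G), hZE z₀.2⟩, ?_, ?_, ?_⟩
    · rw [Subgroup.mem_center_iff]
      intro g
      apply Subtype.ext
      exact hZc _ z₀.2 (g : G)
    · rw [← Subgroup.orderOf_coe]
      exact Nat.Coprime.coprime_dvd_left (Subgroup.orderOf_dvd_natCard C (hZC z₀.2)) hcop
    · have h1 : Subgroup.zpowers (⟨(z₀ : G), hZE z₀.2⟩ : E) = Z.subgroupOf E := by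
        ext y
        rw [Subgroup.mem_subgroupOf, hZz]
        constructor
        · intro hy
          obtain ⟨n, rfl⟩ := Subgroup.mem_zpowers_iff.mp hy
          refine Subgroup.mem_zpowers_iff.mpr ⟨n, ?_⟩
          simp
        · intro hy
          obtain ⟨n, hn⟩ := Subgroup.mem_zpowers_iff.mp hy
          refine Subgroup.mem_zpowers_iff.mpr ⟨n, ?_⟩
          apply Subtype.ext
          simpa using hn
      rw [h1]
      show ∃ k, Z.relIndex E = p ^ k
      rw [hE, Subgroup.relIndex_sup_left]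
      obtain ⟨n, hn⟩ := IsPGroup.iff_card.mp P.isPGroup'
      have h2 : Z.relIndex (P : Subgroup G) ∣ p ^ n := by
        rw [← hn]
        exact Subgroup.relIndex_dvd_card Z (P : Subgroup G)
      obtain ⟨j, -, hj⟩ := (Nat.dvd_prime_pow hp).mp h2
      exact ⟨j, hj⟩


/-- In a `p`-quasi-elementary group `Q = C P` with `Z = C_C(P) ≤ E` and `C E = Q`, an
irreducible character whose restriction to `E` contains the principal character and which
is not principal is induced from a proper subgroup containing `C`. -/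
theorem exists_proper_indFun_of_qe [Fintype G] {p : ℕ} (hp : p.Prime)
    (C P Z E : Subgroup G) [hC : C.Normal] (hcyc : IsCyclic C)
    (hcop : Nat.Coprime (Nat.card C) p) (hP : IsPGroup p P) (hCP : C ⊔ P = ⊤)
    (hZ : Z = C ⊓ Subgroup.centralizer (P : Set G)) (hZE : Z ≤ E) (hCE : C ⊔ E = ⊤)
    (χ : G → ℂ) (hχ : Cfsg.IsIrrCharacter G χ) (hχ1 : χ ≠ fun _ => 1)
    [Fintype E] (hne : Cfsg.classInner (fun e : E => χ e) (fun _ : E => (1 : ℂ)) ≠ 0) :
    ∃ (T : Subgroup G) (ψ : T → ℂ), C ≤ T ∧ T ≠ ⊤ ∧ Cfsg.IsIrrCharacter T ψ ∧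
      Cfsg.indFun T ψ = χ := by
  classical
  have := Fact.mk hp
  have hχc := Cfsg.Agent.Helper79.isCharacter_of_irr hχ
  have hCcomm := comm_of_isCyclic_subgroup C hcyc
  have : Fintype C := Fintype.ofFinite C
  have hresc : Cfsg.IsCharacter C (fun a : C => χ a) :=
    Cfsg.Agent.Helper79.isCharacter_restrict hχc C
  have hχ10 : χ 1 ≠ 0 := irr_apply_one_ne_zero hχ
  obtain ⟨lam, hlam, hne'⟩ := Cfsg.Agent.Helper75.exists_irr_constituent hresc
    (by simpa using hχ10)
  have hlam1 : lam 1 = 1 :=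
    irr_apply_one_of_comm (fun a b => Subtype.ext (hCcomm a a.2 b b.2)) hlam
  obtain ⟨T, hT⟩ : ∃ T : Subgroup G, T = inertia C lam := ⟨_, rfl⟩
  have hTmem : ∀ g : G, g ∈ T ↔ Cfsg.Agent.Helper75.conjFun C g lam = lam := by
    intro g
    rw [hT]
    rfl
  have hCT : C ≤ T := by
    intro a ha
    rw [hTmem]
    funext h
    rw [Cfsg.Agent.Helper75.conjFun_apply]
    congr 1
    apply Subtype.ext
    show a * h * a⁻¹ = h
    rw [hCcomm a ha h h.2]
    group
  have : Fintype T := Fintype.ofFinite T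
  obtain ⟨ψ, hψ, hc, hf⟩ := Cfsg.Agent.Helper75.exists_irr_over hCT
    (Cfsg.Agent.Helper79.isCharacter_of_irr hlam) hχc hne'
  have hcorr := (Cfsg.Agent.Helper75.clifford_correspondence hCT hlam hTmem hψ hχ hf hc).1
  refine ⟨T, ψ, hCT, ?_, hψ, hcorr⟩
  intro htop
  apply hχ1
  have hinv : ∀ g : G, Cfsg.Agent.Helper75.conjFun C g lam = lam := fun g => by
    rw [← hTmem, htop]
    trivial
  have hcl := Cfsg.Agent.Helper75.clifford_restrict C hχ hlam hne'
  have hset : {ψ : C → ℂ | ∃ g : G, ψ = Cfsg.Agent.Helper75.conjFun C g lam} = {lam} := by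
    ext ψ
    constructor
    · rintro ⟨g, rfl⟩
      exact hinv g
    · intro h
      rw [Set.mem_singleton_iff] at h
      exact ⟨1, by rw [h, Cfsg.Agent.Helper75.conjFun_one]⟩
  rw [hset, finsum_mem_singleton] at hcl
  obtain ⟨e, he⟩ : ∃ e : ℂ, e = Cfsg.classInner (fun n : C => χ n) lam := ⟨_, rfl⟩
  rw [← he] at hcl
  have he0 : e ≠ 0 := by rw [he]; exact hne'
  have hZC : Z ≤ C := by rw [hZ]; exact inf_le_left
  -- `lam` is trivial on `Z`
  have : Fintype Z := Fintype.ofFinite Z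
  have : Fintype (Cfsg.IrrCharacter E) := Fintype.ofFinite _
  have hZne : Cfsg.classInner (fun n : Z => χ n) (fun _ : Z => (1 : ℂ)) ≠ 0 := by
    obtain ⟨m, k, hm, hk, hsum⟩ := Cfsg.Agent.Helper75.exists_restrict_mults hZE
      (Cfsg.Agent.Helper79.isCharacter_one (G := Z)) hχc
    rw [hsum]
    have hm1 : m (Cfsg.Agent.Helper79.trivIrr E) ≠ 0 := by
      intro h0
      apply hne
      have := hm (Cfsg.Agent.Helper79.trivIrr E)
      rw [h0, Nat.cast_zero] at this
      exact this
    have hk1 : k (Cfsg.Agent.Helper79.trivIrr E) = 1 := by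
      have h1 := hk (Cfsg.Agent.Helper79.trivIrr E)
      have h2 : Cfsg.classInner
          (Cfsg.Agent.Helper75.resTo hZE ((Cfsg.Agent.Helper79.trivIrr E : Cfsg.IrrCharacter E) : E → ℂ))
          (fun _ : Z => (1 : ℂ)) = 1 :=
        Cfsg.Agent.Helper15.irr_inner_self (Cfsg.Agent.Helper79.isIrrCharacter_one (G := Z))
      rw [h2] at h1
      exact_mod_cast h1.symm
    have hle : m (Cfsg.Agent.Helper79.trivIrr E) * k (Cfsg.Agent.Helper79.trivIrr E)
        ≤ ∑ ψ : Cfsg.IrrCharacter E, m ψ * k ψ :=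
      Finset.single_le_sum (f := fun ψ => m ψ * k ψ) (fun _ _ => Nat.zero_le _)
        (Finset.mem_univ _)
    rw [hk1, mul_one] at hle
    have hpos : 0 < ∑ ψ : Cfsg.IrrCharacter E, m ψ * k ψ :=
      lt_of_lt_of_le (Nat.pos_of_ne_zero hm1) hle
    exact_mod_cast hpos.ne'
  obtain ⟨fl, hfl⟩ := Cfsg.Agent.Helper79.isCharacter_linear
    (Cfsg.Agent.Helper79.isCharacter_of_irr hlam) hlam1
  have hlamZirr : Cfsg.IsIrrCharacter Z (fun n : Z => lam ⟨(n : G), hZC n.2⟩) := by
    have h1 := Cfsg.Agent.Helper79.isIrrCharacter_of_hom (fl.comp (Subgroup.inclusion hZC))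
    have h2 : (fun g : Z => (((fl.comp (Subgroup.inclusion hZC)) g : ℂˣ) : ℂ))
        = fun n : Z => lam ⟨(n : G), hZC n.2⟩ := by
      funext n
      rw [hfl]
      rfl
    rwa [h2] at h1
  have hlamZ : (fun n : Z => lam ⟨(n : G), hZC n.2⟩) = fun _ => 1 := by
    by_contra hcon
    apply hZne
    have h1 : (fun n : Z => χ n) = e • (fun n : Z => lam ⟨(n : G), hZC n.2⟩) := by
      funext n
      have := congrFun hcl ⟨(n : G), hZC n.2⟩
      simpa using this
    rw [h1, Cfsg.Agent.Helper15.classInner_smul_left,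
      Cfsg.Agent.Helper15.irr_inner_ne hlamZirr Cfsg.Agent.Helper79.isIrrCharacter_one hcon,
      mul_zero]
  have hlam_one : lam = fun _ => 1 := by
    refine Cfsg.Agent.S0873.result p C P hP hcop hCP lam
      ⟨Cfsg.Agent.Helper79.isCharacter_of_irr hlam, hlam1⟩ ?_ ?_
    · intro g c
      have := congrFun (hinv g) c
      rwa [Cfsg.Agent.Helper75.conjFun_apply] at this
    · intro c hc
      have hcZ : (c : G) ∈ Z := by
        rw [hZ]
        exact Subgroup.mem_inf.mpr ⟨c.2, hc⟩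
      exact congrFun hlamZ ⟨(c : G), hcZ⟩
  have hker : ∀ x ∈ C, χ x = χ 1 := by
    intro x hx
    have h1 := congrFun hcl ⟨x, hx⟩
    have h2 := congrFun hcl 1
    simp only [Pi.smul_apply, smul_eq_mul, hlam_one, mul_one] at h1 h2
    have h2' : χ 1 = e := by simpa using h2
    rw [h2']
    exact h1
  obtain ⟨ψb, hψb, hψbχ⟩ := Cfsg.Agent.Helper79.exists_irr_deflation C hχ hker
  obtain ⟨f, hf'⟩ : ∃ f : E →* G ⧸ C, f = (QuotientGroup.mk' C).comp E.subtype := ⟨_, rfl⟩
  have hfapp : ∀ x : E, f x = ((x : G) : G ⧸ C) := by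
    intro x
    rw [hf']
    rfl
  have hfsurj : Function.Surjective f := by
    intro q
    obtain ⟨g, rfl⟩ := QuotientGroup.mk_surjective q
    have hg : g ∈ ((C ⊔ E : Subgroup G) : Set G) := by
      rw [hCE]
      trivial
    rw [Subgroup.normal_mul] at hg
    obtain ⟨c, hc, e', he', rfl⟩ := Set.mem_mul.mp hg
    refine ⟨⟨e', he'⟩, ?_⟩
    rw [hfapp]
    show ((e' : G) : G ⧸ C) = ((c * e' : G) : G ⧸ C)
    rw [QuotientGroup.mk_mul, (QuotientGroup.eq_one_iff c).mpr hc, one_mul]
  have hirrE : Cfsg.IsIrrCharacter E (fun x : E => χ x) := by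
    have h1 := Cfsg.Agent.Helper79.isIrrCharacter_comp f hfsurj hψb
    have h2 : (fun x : E => ψb (f x)) = fun x : E => χ x := by
      funext x
      rw [hfapp]
      exact hψbχ (x : G)
    rwa [h2] at h1
  have hE1 : (fun x : E => χ x) = fun _ => 1 := by
    by_contra hcon
    apply hne
    exact Cfsg.Agent.Helper15.irr_inner_ne hirrE Cfsg.Agent.Helper79.isIrrCharacter_one hcon
  funext g
  obtain ⟨x, hx⟩ := hfsurj (g : G ⧸ C)
  have h1 : χ g = χ (x : G) := by
    rw [← hψbχ g, ← hψbχ (x : G), ← hx, hfapp]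
  rw [h1]
  exact congrFun hE1 x


/-- In a `p`-quasi-elementary group the principal character is a `ℤ`-combination of
characters induced from `p`-elementary subgroups. -/
theorem one_mem_elemCharSpan_of_qe_aux {p : ℕ} (hp : p.Prime) (n : ℕ) :
    ∀ (Q : Type u) [Group Q] [Fintype Q], Nat.card Q = n →
      ∀ C : Subgroup Q, C.Normal → IsCyclic C → Nat.Coprime (Nat.card C) p →
        (∃ k : ℕ, C.index = p ^ k) → (fun _ : Q => (1 : ℂ)) ∈ elemCharSpan p Q := by
  induction n using Nat.strong_induction_on with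
  | _ n ih =>
    intro Q _ _ hn C hCn hcyc hcop hidx
    obtain ⟨k, hk⟩ := hidx
    classical
    obtain ⟨P, Z, E, hP, hCP, hZ, hZE, hCE, hEl⟩ := exists_qe_structure hp C hcyc hcop hk
    have : Fintype E := Fintype.ofFinite E
    have : Fintype (Cfsg.IrrCharacter Q) := Fintype.ofFinite _
    have hπ : Cfsg.IsCharacter Q (Cfsg.indFun E (fun _ => (1 : ℂ))) :=
      isCharacter_indFun E _ Cfsg.Agent.Helper79.isCharacter_one
    obtain ⟨m, hm⟩ := Cfsg.Agent.Helper4.isCharacter_eq_nat_sum hπ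
    have hmult : ∀ χ : Cfsg.IrrCharacter Q,
        Cfsg.classInner (Cfsg.indFun E (fun _ => (1 : ℂ))) (χ : Q → ℂ) = (m χ : ℂ) := by
      intro χ
      rw [hm, Cfsg.Agent.Helper15.classInner_sum_left, Finset.sum_eq_single χ]
      · rw [Cfsg.Agent.Helper15.classInner_smul_left, Cfsg.Agent.Helper15.irr_inner,
          if_pos rfl, mul_one]
      · intro ψ _ hψ
        rw [Cfsg.Agent.Helper15.classInner_smul_left, Cfsg.Agent.Helper15.irr_inner,
          if_neg hψ, mul_zero]
      · intro h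
        exact absurd (Finset.mem_univ _) h
    have hfrob : ∀ χ : Cfsg.IrrCharacter Q,
        Cfsg.classInner (Cfsg.indFun E (fun _ => (1 : ℂ))) (χ : Q → ℂ)
          = Cfsg.classInner (fun _ : E => (1 : ℂ)) (fun e : E => (χ : Q → ℂ) e) := fun χ =>
      frobenius_reciprocity E _ _
        (Cfsg.Agent.Helper79.isCharacter_isClassFunction (Cfsg.Agent.Helper79.irr_isCharacter χ))
    have hm1 : m (Cfsg.Agent.Helper79.trivIrr Q) = 1 := by
      have h1 := hmult (Cfsg.Agent.Helper79.trivIrr Q)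
      rw [hfrob] at h1
      have h2 : Cfsg.classInner (fun _ : E => (1 : ℂ))
          (fun e : E => ((Cfsg.Agent.Helper79.trivIrr Q : Cfsg.IrrCharacter Q) : Q → ℂ) e) = 1 :=
        Cfsg.Agent.Helper15.irr_inner_self (Cfsg.Agent.Helper79.isIrrCharacter_one (G := E))
      rw [h2] at h1
      exact_mod_cast h1.symm
    have hkey : ∀ χ : Cfsg.IrrCharacter Q, χ ≠ Cfsg.Agent.Helper79.trivIrr Q → m χ ≠ 0 →
        (χ : Q → ℂ) ∈ elemCharSpan p Q := by
      intro χ hχ1 hmχ
      have hne : Cfsg.classInner (fun e : E => (χ : Q → ℂ) e) (fun _ : E => (1 : ℂ)) ≠ 0 := by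
        rw [Cfsg.Agent.Helper15.classInner_conj_symm, ← hfrob, hmult]
        simpa using hmχ
      obtain ⟨T, ψ, hCT, hTtop, hψ, hind⟩ := exists_proper_indFun_of_qe hp C P Z E hcyc hcop hP
        hCP hZ hZE hCE χ χ.2 (fun h => hχ1 (Subtype.ext h)) hne
      have : Fintype T := Fintype.ofFinite T
      have hcardT : Nat.card T < n := by
        rw [← hn]
        have hle := Subgroup.card_le_card_group T
        rcases hle.lt_or_eq with h | h
        · exact h
        · exact absurd (Subgroup.eq_top_of_card_eq T h) hTtop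
      have h1T : (fun _ : T => (1 : ℂ)) ∈ elemCharSpan p T := by
        refine ih (Nat.card T) hcardT T rfl (C.subgroupOf T) inferInstance ?_ ?_ ?_
        · exact (Subgroup.subgroupOfEquivOfLe hCT).isCyclic.mpr hcyc
        · rw [Nat.card_congr (Subgroup.subgroupOfEquivOfLe hCT).toEquiv]
          exact hcop
        · have h2 : C.relIndex T ∣ p ^ k := by
            rw [← hk]
            exact Subgroup.relIndex_dvd_index_of_normal _ _
          obtain ⟨j, -, hj⟩ := (Nat.dvd_prime_pow hp).mp h2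
          exact ⟨j, hj⟩
      have hψmem := mem_elemCharSpan_of_one_mem h1T ψ (Cfsg.Agent.Helper79.isCharacter_of_irr hψ)
      rw [← hind]
      exact indFun_mem_elemCharSpan p T ψ hψmem
    have h1 : (fun _ : Q => (1 : ℂ)) = Cfsg.indFun E (fun _ => (1 : ℂ))
        - ∑ χ ∈ Finset.univ.erase (Cfsg.Agent.Helper79.trivIrr Q), (m χ : ℂ) • (χ : Q → ℂ) := by
      rw [eq_sub_iff_add_eq]
      conv_rhs => rw [hm]
      rw [← Finset.add_sum_erase Finset.univ _ (Finset.mem_univ (Cfsg.Agent.Helper79.trivIrr Q)),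
        hm1, Nat.cast_one, one_smul]
      rfl
    rw [h1]
    apply sub_mem
    · exact AddSubgroup.subset_closure ⟨E, _, hEl, Cfsg.Agent.Helper79.isCharacter_one, rfl⟩
    · apply sum_mem
      intro χ hχ
      rw [Nat.cast_smul_eq_nsmul]
      by_cases h0 : m χ = 0
      · rw [h0, zero_smul]
        exact zero_mem _
      · exact AddSubgroup.nsmul_mem _ (hkey χ (Finset.ne_of_mem_erase hχ) h0) _

/-- **Brauer's induction theorem, local form**: some integer prime to `p` times the principal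
character is a `ℤ`-combination of characters induced from `p`-elementary subgroups. -/
theorem exists_int_mem_elemCharSpan [Fintype G] {p : ℕ} (hp : p.Prime) :
    ∃ m : ℤ, ¬ (p : ℤ) ∣ m ∧ (fun _ : G => (m : ℂ)) ∈ elemCharSpan p G := by
  classical
  have : Fintype (Subgroup G) := Fintype.ofFinite _
  obtain ⟨m, a, hm, ha, hsum⟩ := Cfsg.Agent.Helper15.exists_solomon (G := G) hp
  refine ⟨m, hm, ?_⟩
  rw [hsum]
  apply sum_mem
  intro H _
  rw [Int.cast_smul_eq_zsmul]
  by_cases h0 : a H = 0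
  · rw [h0, zero_smul]
    exact zero_mem _
  · apply AddSubgroup.zsmul_mem
    obtain ⟨C, hCH, hHN, hcyc, hcop, k, hk⟩ := ha H h0
    have : Fintype H := Fintype.ofFinite H
    apply indFun_mem_elemCharSpan p H
    have hn : (C.subgroupOf H).Normal :=
      (Subgroup.normal_subgroupOf_iff_le_normalizer hCH).mpr hHN
    exact one_mem_elemCharSpan_of_qe_aux hp _ H rfl (C.subgroupOf H) hn
      ((Subgroup.subgroupOfEquivOfLe hCH).isCyclic.mpr hcyc)
      (by rw [Nat.card_congr (Subgroup.subgroupOfEquivOfLe hCH).toEquiv]; exact hcop) ⟨k, hk⟩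

/-- **Brauer's induction theorem** for the principal character. -/
theorem one_mem_brauerCharSpan [Fintype G] : (fun _ : G => (1 : ℂ)) ∈ brauerCharSpan G := by
  obtain ⟨I, hI⟩ : ∃ I : AddSubgroup ℤ,
      ∀ m : ℤ, m ∈ I ↔ (fun _ : G => (m : ℂ)) ∈ brauerCharSpan G := by
    have hz : (0 : ℤ) ∈ {m : ℤ | (fun _ : G => (m : ℂ)) ∈ brauerCharSpan G} := by
      show (fun _ : G => ((0 : ℤ) : ℂ)) ∈ brauerCharSpan G
      have h0 : (fun _ : G => ((0 : ℤ) : ℂ)) = 0 := by
        funext g
        simp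
      rw [h0]
      exact zero_mem _
    have hadd : ∀ {a b : ℤ}, a ∈ {m : ℤ | (fun _ : G => (m : ℂ)) ∈ brauerCharSpan G} →
        b ∈ {m : ℤ | (fun _ : G => (m : ℂ)) ∈ brauerCharSpan G} →
        a + b ∈ {m : ℤ | (fun _ : G => (m : ℂ)) ∈ brauerCharSpan G} := by
      intro a b ha hb
      show (fun _ : G => ((a + b : ℤ) : ℂ)) ∈ brauerCharSpan G
      have h0 : (fun _ : G => ((a + b : ℤ) : ℂ))
          = (fun _ : G => (a : ℂ)) + (fun _ : G => (b : ℂ)) := by
        funext g
        simp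
      rw [h0]
      exact add_mem ha hb
    have hneg : ∀ {a : ℤ}, a ∈ {m : ℤ | (fun _ : G => (m : ℂ)) ∈ brauerCharSpan G} →
        -a ∈ {m : ℤ | (fun _ : G => (m : ℂ)) ∈ brauerCharSpan G} := by
      intro a ha
      show (fun _ : G => ((-a : ℤ) : ℂ)) ∈ brauerCharSpan G
      have h0 : (fun _ : G => ((-a : ℤ) : ℂ)) = -(fun _ : G => (a : ℂ)) := by
        funext g
        simp
      rw [h0]
      exact neg_mem ha
    exact ⟨{ carrier := {m | (fun _ : G => (m : ℂ)) ∈ brauerCharSpan G}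
             zero_mem' := hz
             add_mem' := hadd
             neg_mem' := hneg }, fun m => Iff.rfl⟩
  have hIp : ∀ p : ℕ, p.Prime → ∃ m : ℤ, ¬ (p : ℤ) ∣ m ∧ m ∈ I := by
    intro p hp
    obtain ⟨m, hm, hmem⟩ := exists_int_mem_elemCharSpan (G := G) hp
    exact ⟨m, hm, (hI m).mpr (elemCharSpan_le_brauerCharSpan hp hmem)⟩
  obtain ⟨g, hg⟩ := IsAddCyclic.exists_generator (α := I)
  have hdvd : ∀ m ∈ I, (g : ℤ) ∣ m := by
    intro m hm
    obtain ⟨k, hk⟩ := AddSubgroup.mem_zmultiples_iff.mp (hg ⟨m, hm⟩)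
    have h1 := congrArg Subtype.val hk
    refine ⟨k, ?_⟩
    have h2 : ((k • g : I) : ℤ) = k * (g : ℤ) := by simp
    rw [h2] at h1
    rw [mul_comm]
    exact h1.symm
  have hnat : (g : ℤ).natAbs = 1 := by
    by_contra hne
    obtain ⟨p, hp, hpd⟩ := Nat.exists_prime_and_dvd hne
    obtain ⟨m, hm, hmI⟩ := hIp p hp
    apply hm
    exact dvd_trans (Int.natCast_dvd.mpr hpd) (hdvd m hmI)
  have h1 : (1 : ℤ) ∈ I := by
    rcases Int.natAbs_eq (g : ℤ) with h | h
    · rw [hnat] at h
      have h2 : (g : ℤ) = 1 := by simpa using h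
      rw [← h2]
      exact g.2
    · rw [hnat] at h
      have h2 : (g : ℤ) = -1 := by simpa using h
      have h3 := I.neg_mem g.2
      rw [h2] at h3
      simpa using h3
  have h2 := (hI 1).mp h1
  simpa using h2

/-- **Brauer's induction theorem**: every character is a `ℤ`-combination of characters
induced from linear characters of elementary subgroups. -/
theorem brauer_induction [Fintype G] (χ : G → ℂ) (hχ : Cfsg.IsCharacter G χ) :
    ∃ l : List ((E : Subgroup G) × ((E →* ℂˣ) × ℤ)),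
      (∀ t ∈ l, ∃ p : ℕ, p.Prime ∧ Cfsg.IsElementary p t.1) ∧
      χ = (l.map fun t => (t.2.2 : ℂ) • Cfsg.indFun t.1 (fun e => (t.2.1 e : ℂ))).sum :=
  exists_list_of_mem_brauerSpan χ (mem_brauerSpan_of_one_mem one_mem_brauerCharSpan χ hχ)

/-- **Brauer's characterisation of characters**. -/
theorem brauer_characterization [Finite G] (θ : G → ℂ) (hθ : Cfsg.IsClassFunction G θ)
    (hE : ∀ (E : Subgroup G) (p : ℕ), p.Prime → Cfsg.IsElementary p E →
      Cfsg.IsGeneralizedCharacter E (fun e : E => θ e)) :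
    Cfsg.IsGeneralizedCharacter G θ := by
  have : Fintype G := Fintype.ofFinite G
  exact isGeneralizedCharacter_of_one_mem one_mem_brauerCharSpan θ hθ hE

theorem elem_list_neg_sum [Fintype G] (l : List ((E : Subgroup G) × ((E → ℂ) × ℤ))) :
    -(l.map fun t => (t.2.2 : ℂ) • Cfsg.indFun t.1 t.2.1).sum
      = ((l.map (fun t => (⟨t.1, (t.2.1, -t.2.2)⟩ : (E : Subgroup G) × ((E → ℂ) × ℤ)))).map
          fun t => (t.2.2 : ℂ) • Cfsg.indFun t.1 t.2.1).sum := by
  induction l with
  | nil => simp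
  | cons a l ih =>
    simp only [List.map_cons, List.sum_cons, neg_add_rev]
    rw [ih, add_comm]
    congr 1
    simp

theorem exists_list_of_mem_elemCharSpan [Fintype G] {p : ℕ} (f : G → ℂ)
    (hf : f ∈ elemCharSpan p G) :
    ∃ l : List ((E : Subgroup G) × ((E → ℂ) × ℤ)),
      (∀ t ∈ l, Cfsg.IsElementary p t.1 ∧ Cfsg.IsCharacter t.1 t.2.1) ∧
      f = (l.map fun t => (t.2.2 : ℂ) • Cfsg.indFun t.1 t.2.1).sum := by
  induction hf using AddSubgroup.closure_induction with
  | mem x hx =>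
    obtain ⟨E, ψ, hE, hψ, rfl⟩ := hx
    refine ⟨[⟨E, (ψ, 1)⟩], ?_, ?_⟩
    · intro t ht
      rw [List.mem_singleton] at ht
      rw [ht]
      exact ⟨hE, hψ⟩
    · simp
  | zero => exact ⟨[], by simp, by simp⟩
  | add x y _ _ hx hy =>
    obtain ⟨l₁, h₁, rfl⟩ := hx
    obtain ⟨l₂, h₂, rfl⟩ := hy
    refine ⟨l₁ ++ l₂, ?_, by simp⟩
    intro t ht
    rcases List.mem_append.mp ht with h | h
    · exact h₁ t h
    · exact h₂ t h
  | neg x _ hx =>
    obtain ⟨l, h, rfl⟩ := hx
    refine ⟨l.map (fun t => ⟨t.1, (t.2.1, -t.2.2)⟩), ?_, ?_⟩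
    · intro t ht
      obtain ⟨s, hs, rfl⟩ := List.mem_map.mp ht
      exact h s hs
    · exact elem_list_neg_sum l

/-- **Brauer's induction theorem, local form** (list version). -/
theorem brauer_induction_local [Fintype G] (p : ℕ) (hp : p.Prime) :
    ∃ (m : ℤ) (l : List ((E : Subgroup G) × ((E → ℂ) × ℤ))), ¬ (p : ℤ) ∣ m ∧
      (∀ t ∈ l, Cfsg.IsElementary p t.1 ∧ Cfsg.IsCharacter t.1 t.2.1) ∧
      (fun _ : G => (m : ℂ)) = (l.map fun t => (t.2.2 : ℂ) • Cfsg.indFun t.1 t.2.1).sum := by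
  obtain ⟨m, hm, hmem⟩ := exists_int_mem_elemCharSpan (G := G) hp
  obtain ⟨l, hl, hsum⟩ := exists_list_of_mem_elemCharSpan _ hmem
  exact ⟨m, l, hm, hl, hsum⟩

end

end Cfsg.Agent.Helper3
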