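import Mathlib
import Cfsg.Agent.Helper81.CharBasic
import Cfsg.Agent.Helper75.Clifford

/-!
# Representations with equal characters are equivalent
-/

set_option autoImplicit false

namespace Cfsg.Agent.Helper3

open Representation

universe u v w

/-- The inclusion of a subrepresentation as an intertwining map. -/
def subrepIncl {G : Type u} [Group G] {V : Type v} [AddCommGroup V] [Module ℂ V]
    {ρ : Representation ℂ G V} (U : Subrepresentation ρ) : IntertwiningMap U.toRepresentation ρ where
  toLinearMap := U.toSubmodule.subtype
  isIntertwining' g := by ext v; rfl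

theorem subrepIncl_apply {G : Type u} [Group G] {V : Type v} [AddCommGroup V] [Module ℂ V]
    {ρ : Representation ℂ G V} (U : Subrepresentation ρ) (x : U.toSubmodule) :
    subrepIncl U x = (x : V) := rfl

/-- Two representations glued from equivalent complementary pieces are equivalent. -/
theorem equiv_of_isCompl {G : Type u} [Group G] {V : Type v} {W : Type w}
    [AddCommGroup V] [Module ℂ V] [AddCommGroup W] [Module ℂ W]
    (ρ : Representation ℂ G V) (σ : Representation ℂ G W)
    (U₀ U₁ : Subrepresentation ρ) (W₀ W₁ : Subrepresentation σ)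
    (hU : IsCompl U₀.toSubmodule U₁.toSubmodule) (hW : IsCompl W₀.toSubmodule W₁.toSubmodule)
    (e₀ : U₀.toRepresentation.Equiv W₀.toRepresentation)
    (e₁ : U₁.toRepresentation.Equiv W₁.toRepresentation) : Nonempty (ρ.Equiv σ) := by
  let E := Submodule.prodEquivOfIsCompl U₀.toSubmodule U₁.toSubmodule hU
  let F := Submodule.prodEquivOfIsCompl W₀.toSubmodule W₁.toSubmodule hW
  let T : V ≃ₗ[ℂ] W := E.symm ≪≫ₗ (e₀.toLinearEquiv.prodCongr e₁.toLinearEquiv) ≪≫ₗ F
  refine ⟨Representation.Equiv.mk T (fun g => ?_)⟩
  ext v
  obtain ⟨⟨u₀, u₁⟩, rfl⟩ := E.surjective v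
  have h1 : ρ g (E (u₀, u₁)) = E (U₀.toRepresentation g u₀, U₁.toRepresentation g u₁) := by
    simp only [E, Submodule.coe_prodEquivOfIsCompl', map_add]
    rfl
  have h2 : ∀ x : U₀.toSubmodule × U₁.toSubmodule, T (E x) = F (e₀.toLinearEquiv x.1, e₁.toLinearEquiv x.2) := by
    intro x
    simp [T]
  have h3 : ∀ (a : W₀.toSubmodule) (b : W₁.toSubmodule),
      σ g (F (a, b)) = F (W₀.toRepresentation g a, W₁.toRepresentation g b) := by
    intro a b
    simp only [F, Submodule.coe_prodEquivOfIsCompl', map_add]
    rfl
  have h4 : e₀.toLinearEquiv (U₀.toRepresentation g u₀) = W₀.toRepresentation g (e₀.toLinearEquiv u₀) :=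
    IntertwiningMap.isIntertwining _ _ e₀.toIntertwiningMap g u₀
  have h5 : e₁.toLinearEquiv (U₁.toRepresentation g u₁) = W₁.toRepresentation g (e₁.toLinearEquiv u₁) :=
    IntertwiningMap.isIntertwining _ _ e₁.toIntertwiningMap g u₁
  show T (ρ g (E (u₀, u₁))) = σ g (T (E (u₀, u₁)))
  rw [h1, h2, h2, h3, h4, h5]

theorem equiv_of_character_eq_aux {G : Type u} [Group G] [Finite G] (n : ℕ) :
    ∀ (V : Type v) (W : Type w) [AddCommGroup V] [Module ℂ V] [FiniteDimensional ℂ V]
      [AddCommGroup W] [Module ℂ W] [FiniteDimensional ℂ W]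
      (ρ : Representation ℂ G V) (σ : Representation ℂ G W), Module.finrank ℂ V = n →
      ρ.character = σ.character → Nonempty (ρ.Equiv σ) := by
  induction n using Nat.strong_induction_on with
  | _ n ih =>
    intro V W _ _ _ _ _ _ ρ σ hn h
    have hdim : Module.finrank ℂ V = Module.finrank ℂ W := by
      have h1 := congrFun h 1
      rw [char_one, char_one] at h1
      exact_mod_cast h1
    by_cases hV : Subsingleton V
    · have hW : Subsingleton W := by
        rw [← Module.finrank_zero_iff (R := ℂ), ← hdim]
        exact Module.finrank_zero_of_subsingleton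
      refine ⟨Representation.Equiv.mk (LinearEquiv.ofSubsingleton V W) (fun g => ?_)⟩
      ext v
      exact Subsingleton.elim _ _
    · rw [not_subsingleton_iff_nontrivial] at hV
      classical
      have := Fintype.ofFinite G
      let S : Set ℕ := {k | ∃ U : Subrepresentation ρ, U.toSubmodule ≠ ⊥ ∧
        Module.finrank ℂ U.toSubmodule = k}
      have hS : S.Nonempty := ⟨_, ⊤, (top_ne_bot : (⊤ : Submodule ℂ V) ≠ ⊥), rfl⟩
      obtain ⟨U, hU, hUk⟩ := Nat.sInf_mem hS
      have hmin : ∀ U' : Subrepresentation ρ, U'.toSubmodule ≠ ⊥ →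
          Module.finrank ℂ U.toSubmodule ≤ Module.finrank ℂ U'.toSubmodule := fun U' hU' => by
        rw [hUk]; exact Nat.sInf_le ⟨U', hU', rfl⟩
      have hirr := Cfsg.Agent.Helper81.irreducible_of_minimal ρ U hU hmin
      obtain ⟨U₁, hc⟩ := exists_isCompl U
      have hc' : IsCompl U.toSubmodule U₁.toSubmodule :=
        IsCompl.of_eq (congrArg Subrepresentation.toSubmodule hc.inf_eq_bot)
          (congrArg Subrepresentation.toSubmodule hc.sup_eq_top)
      have hnt : Nontrivial U.toSubmodule := (Submodule.nontrivial_iff_ne_bot).mpr hU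
      -- the inclusion is a nonzero intertwining map
      have hincl : subrepIncl U ≠ 0 := by
        intro h0
        obtain ⟨x, hx⟩ := exists_ne (0 : U.toSubmodule)
        apply hx
        have : subrepIncl U x = (0 : IntertwiningMap U.toRepresentation ρ) x := by rw [h0]
        rw [subrepIncl_apply] at this
        exact Subtype.ext this
      have hfr : Module.finrank ℂ (IntertwiningMap U.toRepresentation ρ) ≠ 0 := by
        intro h0
        rw [Module.finrank_zero_iff] at h0
        exact hincl (Subsingleton.elim _ _)
      have hinner : Cfsg.classInner σ.character U.toRepresentation.character ≠ 0 := by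
        rw [← h, Cfsg.Agent.Helper75.classInner_character_eq_finrank]
        exact_mod_cast hfr
      obtain ⟨f, hf⟩ := Cfsg.Agent.Helper75.exists_intertwining_ne_zero σ U.toRepresentation hinner
      have hinj : Function.Injective f :=
        (Representation.IsIrreducible.injective_or_eq_zero (ρ := U.toRepresentation) f).resolve_right hf
      obtain ⟨W₁, hd⟩ := exists_isCompl f.range
      have hd' : IsCompl f.range.toSubmodule W₁.toSubmodule :=
        IsCompl.of_eq (congrArg Subrepresentation.toSubmodule hd.inf_eq_bot)
          (congrArg Subrepresentation.toSubmodule hd.sup_eq_top)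
      let e₀L : U.toSubmodule ≃ₗ[ℂ] f.range.toSubmodule := LinearEquiv.ofInjective f.toLinearMap hinj
      let e₀ : U.toRepresentation.Equiv f.range.toRepresentation :=
        Representation.Equiv.mk e₀L (fun g => by
          ext v
          exact IntertwiningMap.isIntertwining _ _ f g v)
      have hχ0 : U.toRepresentation.character = f.range.toRepresentation.character := char_iso e₀
      have hρ := Cfsg.Agent.Helper81.character_add_of_isCompl ρ U U₁ hc'
      have hσ := Cfsg.Agent.Helper81.character_add_of_isCompl σ f.range W₁ hd'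
      have hχ1 : U₁.toRepresentation.character = W₁.toRepresentation.character := by
        rw [hρ, hσ, hχ0] at h
        exact add_left_cancel h
      have h1 := Submodule.finrank_add_eq_of_isCompl hc'
      have h2 : 0 < Module.finrank ℂ U.toSubmodule := Module.finrank_pos
      obtain ⟨e₁⟩ := ih (Module.finrank ℂ U₁.toSubmodule) (by omega) _ _ U₁.toRepresentation
        W₁.toRepresentation rfl hχ1
      exact equiv_of_isCompl ρ σ U U₁ f.range W₁ hc' hd' e₀ e₁

/-- Complex representations of a finite group with equal characters are equivalent. -/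
theorem equiv_of_character_eq {G : Type u} [Group G] [Finite G] {V : Type v} {W : Type w}
    [AddCommGroup V] [Module ℂ V] [FiniteDimensional ℂ V]
    [AddCommGroup W] [Module ℂ W] [FiniteDimensional ℂ W]
    (ρ : Representation ℂ G V) (σ : Representation ℂ G W) (h : ρ.character = σ.character) :
    Nonempty (ρ.Equiv σ) :=
  equiv_of_character_eq_aux _ V W ρ σ rfl h

end Cfsg.Agent.Helper3
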