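import Mathlib
import Cfsg.Agent.Helper3.Induced
import Cfsg.Agent.Helper3.Frobenius
import Cfsg.Agent.Helper79.Sep

/-!
# Taketa's theorem: M-groups are solvable
-/

set_option autoImplicit false

namespace Cfsg.Agent.Helper3

open scoped ComplexConjugate commutatorElement

section

variable {G : Type*} [Group G] [Fintype G]

theorem indFun_apply_one (H : Subgroup G) (θ : H → ℂ) :
    Cfsg.indFun H θ 1 = (H.index : ℂ) * θ 1 := by
  unfold Cfsg.indFun
  have : ∀ x : G, Cfsg.extendByZero H θ (x⁻¹ * 1 * x) = θ 1 := by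
    intro x
    have e : x⁻¹ * 1 * x = ((1 : H) : G) := by simp
    rw [e, extendByZero_coe]
  simp only [this, Finset.sum_const, Finset.card_univ, nsmul_eq_mul]
  have hH : (Nat.card H : ℂ) ≠ 0 := by exact_mod_cast Nat.card_pos.ne'
  have hidx : (Fintype.card G : ℂ) = (H.index : ℂ) * (Nat.card H : ℂ) := by
    rw [← Nat.card_eq_fintype_card, ← Subgroup.index_mul_card H]
    push_cast
    ring
  rw [hidx]
  field_simp

/-- If `θ` is constant (`= θ 1`) on a normal subgroup `N ≤ H` of `G`, then `N` lies in the kernel of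
the induced function. -/
theorem indFun_eq_of_normal_le (H : Subgroup G) (θ : H → ℂ) (N : Subgroup G) [hN : N.Normal]
    (hNH : N ≤ H) (hθ : ∀ n : H, (n : G) ∈ N → θ n = θ 1) (n : G) (hn : n ∈ N) :
    Cfsg.indFun H θ n = Cfsg.indFun H θ 1 := by
  unfold Cfsg.indFun
  congr 1
  apply Finset.sum_congr rfl
  intro x _
  have h1 : x⁻¹ * n * x ∈ N := by
    have := hN.conj_mem n hn x⁻¹
    simpa using this
  rw [extendByZero_of_mem H θ (hNH h1), hθ ⟨_, hNH h1⟩ h1]
  have e : x⁻¹ * 1 * x = ((1 : H) : G) := by simp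
  rw [e, extendByZero_coe]

/-- The kernel of the permutation character `(1_H)^G` is contained in `H`. -/
theorem mem_of_indFun_one_eq (H : Subgroup G) (g : G)
    (h : Cfsg.indFun H (fun _ => (1 : ℂ)) g = Cfsg.indFun H (fun _ => (1 : ℂ)) 1) : g ∈ H := by
  classical
  by_contra hg
  unfold Cfsg.indFun at h
  have hH : (Nat.card H : ℂ) ≠ 0 := by exact_mod_cast Nat.card_pos.ne'
  have h' := mul_left_cancel₀ (inv_ne_zero hH) h
  have e1 : ∀ x : G, Cfsg.extendByZero H (fun _ => (1 : ℂ)) (x⁻¹ * 1 * x) = 1 := by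
    intro x
    have e : x⁻¹ * 1 * x = ((1 : H) : G) := by simp
    rw [e, extendByZero_coe]
  have e2 : ∀ x : G, Cfsg.extendByZero H (fun _ => (1 : ℂ)) (x⁻¹ * g * x)
      = if x⁻¹ * g * x ∈ H then 1 else 0 := by
    intro x
    by_cases hx : x⁻¹ * g * x ∈ H
    · rw [if_pos hx, extendByZero_of_mem H _ hx]
    · rw [if_neg hx, extendByZero_of_not_mem H _ hx]
  simp only [e1, e2] at h'
  rw [Finset.sum_boole, Finset.sum_const, Finset.card_univ, nsmul_eq_mul, mul_one] at h'
  have h2 : (Finset.univ.filter (fun x : G => x⁻¹ * g * x ∈ H)).card = Fintype.card G := by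
    exact_mod_cast h'
  have h3 : Finset.univ.filter (fun x : G => x⁻¹ * g * x ∈ H) = Finset.univ :=
    Finset.eq_univ_of_card _ h2
  have h4 : (1 : G) ∈ Finset.univ.filter (fun x : G => x⁻¹ * g * x ∈ H) := by
    rw [h3]
    exact Finset.mem_univ _
  simp only [Finset.mem_filter, Finset.mem_univ, true_and, inv_one, one_mul, mul_one] at h4
  exact hg h4

theorem classFunction_apply_eq_sum [Fintype (Cfsg.IrrCharacter G)] (ψ : G → ℂ)
    (hψ : Cfsg.IsClassFunction G ψ) (a : G) :
    ψ a = ∑ θ : Cfsg.IrrCharacter G, Cfsg.classInner ψ θ * (θ : G → ℂ) a := by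
  have hdec := classFunction_eq_sum ψ hψ
  have := congrFun hdec a
  rw [Finset.sum_apply] at this
  simpa using this

/-- An element in the kernel of every irreducible constituent is in the kernel of the character. -/
theorem apply_eq_apply_one_of_constituents (ψ : G → ℂ) (hψ : Cfsg.IsClassFunction G ψ) (g : G)
    (h : ∀ θ : Cfsg.IrrCharacter G, Cfsg.classInner ψ θ ≠ 0 → (θ : G → ℂ) g = (θ : G → ℂ) 1) :
    ψ g = ψ 1 := by
  classical
  have : Fintype (Cfsg.IrrCharacter G) := Fintype.ofFinite _
  rw [classFunction_apply_eq_sum ψ hψ g, classFunction_apply_eq_sum ψ hψ 1]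
  apply Finset.sum_congr rfl
  intro θ _
  by_cases h0 : Cfsg.classInner ψ θ = 0
  · rw [h0]; simp
  · rw [h θ h0]

/-- The irreducible constituents of `(1_H)^G` for a proper subgroup `H` have degree `< |G : H|`. -/
theorem constituent_degree_lt (H : Subgroup G) (hH : H ≠ ⊤) (θ : Cfsg.IrrCharacter G)
    (hθ : Cfsg.classInner (Cfsg.indFun H (fun _ => (1 : ℂ))) (θ : G → ℂ) ≠ 0) (m : ℕ)
    (hm : (θ : G → ℂ) 1 = (m : ℂ)) : m < H.index := by
  classical
  have : Fintype (Cfsg.IrrCharacter G) := Fintype.ofFinite _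
  have : Fintype H := Fintype.ofFinite H
  have hψ : Cfsg.IsCharacter G (Cfsg.indFun H (fun _ => (1 : ℂ))) :=
    isCharacter_indFun H _ Cfsg.Agent.Helper79.isCharacter_one
  have hψcl := indFun_isClassFunction H (fun _ => (1 : ℂ))
  have hnat : ∀ θ' : Cfsg.IrrCharacter G, ∃ n : ℕ,
      Cfsg.classInner (Cfsg.indFun H (fun _ => (1 : ℂ))) (θ' : G → ℂ) = (n : ℂ) := fun θ' =>
    classInner_isCharacter_nat hψ (Cfsg.Agent.Helper79.irr_isCharacter θ')
  choose n hn using hnat
  have hdegs : ∀ θ' : Cfsg.IrrCharacter G, ∃ k : ℕ, 0 < k ∧ (θ' : G → ℂ) 1 = (k : ℂ) := fun θ' =>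
    irr_apply_one_eq_nat θ'.2
  choose deg hdegpos hdeg using hdegs
  have hsum : H.index = ∑ θ' : Cfsg.IrrCharacter G, n θ' * deg θ' := by
    have h1 := classFunction_apply_eq_sum _ hψcl (1 : G)
    rw [indFun_apply_one, mul_one] at h1
    simp only [hn, hdeg] at h1
    exact_mod_cast h1
  have hmdeg : m = deg θ := by
    have : (m : ℂ) = (deg θ : ℂ) := by rw [← hm, hdeg]
    exact_mod_cast this
  have hnθ : 1 ≤ n θ := by
    rw [hn] at hθ
    have : n θ ≠ 0 := by
      intro h0
      apply hθ
      rw [h0]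
      simp
    omega
  have hidx : 2 ≤ H.index := by
    have h1 : H.index ≠ 1 := fun h => hH (Subgroup.index_eq_one.mp h)
    have h0 : H.index ≠ 0 := Subgroup.index_ne_zero_of_finite
    omega
  let triv : Cfsg.IrrCharacter G := ⟨fun _ => 1, Cfsg.Agent.Helper79.isIrrCharacter_one⟩
  by_cases htriv : θ = triv
  · have : deg θ = 1 := by
      have h1 : (θ : G → ℂ) 1 = 1 := by rw [htriv]
      rw [hdeg] at h1
      exact_mod_cast h1
    omega
  · have hntriv : n triv = 1 := by
      have h1 := frobenius_reciprocity H (fun _ => (1 : ℂ)) (fun _ => (1 : ℂ)) (fun _ _ => rfl)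
      have h2 : Cfsg.classInner (fun _ : H => (1 : ℂ)) (fun _ : H => (1 : ℂ)) = 1 := by
        unfold Cfsg.classInner
        simp only [map_one, mul_one, Finset.sum_const, Finset.card_univ, nsmul_eq_mul]
        rw [← Nat.card_eq_fintype_card]
        exact inv_mul_cancel₀ (by exact_mod_cast Nat.card_pos.ne')
      rw [h2] at h1
      have h3 := hn triv
      have h4 : ((triv : Cfsg.IrrCharacter G) : G → ℂ) = fun _ => 1 := rfl
      rw [h4, h1] at h3
      exact_mod_cast h3.symm
    have hdtriv : deg triv = 1 := by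
      have h1 : (triv : G → ℂ) 1 = 1 := rfl
      rw [hdeg] at h1
      exact_mod_cast h1
    have hpair : ∑ θ' ∈ ({triv, θ} : Finset (Cfsg.IrrCharacter G)), n θ' * deg θ'
        ≤ ∑ θ' : Cfsg.IrrCharacter G, n θ' * deg θ' :=
      Finset.sum_le_sum_of_subset (Finset.subset_univ _)
    rw [Finset.sum_pair (fun h => htriv h.symm), ← hsum, hntriv, hdtriv] at hpair
    have : deg θ ≤ n θ * deg θ := Nat.le_mul_of_pos_left _ hnθ
    omega

/-- **Taketa's theorem**: an M-group is solvable. -/
theorem taketa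
    (hM : ∀ χ : G → ℂ, Cfsg.IsIrrCharacter G χ →
      ∃ (H : Subgroup G) (lam : H →* ℂˣ), χ = Cfsg.indFun H (fun h => (lam h : ℂ))) :
    Group.IsSolvable G := by
  classical
  have : Fintype (Cfsg.IrrCharacter G) := Fintype.ofFinite _
  have hdegs : ∀ θ' : Cfsg.IrrCharacter G, ∃ k : ℕ, 0 < k ∧ (θ' : G → ℂ) 1 = (k : ℂ) := fun θ' =>
    irr_apply_one_eq_nat θ'.2
  choose deg hdegpos hdeg using hdegs
  have key : ∀ d : ℕ, ∀ χ : Cfsg.IrrCharacter G, deg χ ≤ d →
      ∀ g ∈ derivedSeries G d, (χ : G → ℂ) g = (χ : G → ℂ) 1 := by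
    intro d
    induction d with
    | zero =>
      intro χ hχ
      have := hdegpos χ
      omega
    | succ d ih =>
      intro χ hχ g hg
      by_cases hle : deg χ ≤ d
      · exact ih χ hle g (derivedSeries_antitone G (Nat.le_succ d) hg)
      · have hdχ : deg χ = d + 1 := by omega
        obtain ⟨H, lam, hχH⟩ := hM χ χ.2
        have hidx : H.index = d + 1 := by
          have h1 := hdeg χ
          rw [hχH, indFun_apply_one] at h1
          simp only [map_one, Units.val_one, mul_one] at h1
          rw [← hdχ]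
          exact_mod_cast h1
        -- the d-th derived subgroup lies in H
        have hDH : derivedSeries G d ≤ H := by
          by_cases hH : H = ⊤
          · rw [hH]; exact le_top
          · intro x hx
            apply mem_of_indFun_one_eq
            apply apply_eq_apply_one_of_constituents _ (indFun_isClassFunction H _)
            intro θ hθ
            have hlt := constituent_degree_lt H hH θ hθ (deg θ) (hdeg θ)
            exact ih θ (by omega) x hx
        -- the (d+1)-th derived subgroup lies in the kernel of lam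
        have hker : derivedSeries G (d + 1) ≤ (lam.ker).map H.subtype := by
          rw [derivedSeries_succ, Subgroup.commutator_le]
          intro a ha b hb
          refine ⟨⁅(⟨a, hDH ha⟩ : H), (⟨b, hDH hb⟩ : H)⁆, ?_, rfl⟩
          show ⁅(⟨a, hDH ha⟩ : H), (⟨b, hDH hb⟩ : H)⁆ ∈ lam.ker
          rw [MonoidHom.mem_ker, map_commutatorElement]
          exact commutatorElement_eq_one_iff_commute.mpr (Commute.all _ _)
        have hNH : derivedSeries G (d + 1) ≤ H := fun x hx => by
          obtain ⟨y, -, rfl⟩ := hker hx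
          exact y.2
        have hN : (derivedSeries G (d + 1)).Normal := derivedSeries_normal G (d + 1)
        rw [hχH]
        apply indFun_eq_of_normal_le H _ (derivedSeries G (d + 1)) hNH _ g hg
        intro n hn
        obtain ⟨y, hy, hyn⟩ := hker hn
        have hyn' : y = n := Subtype.ext hyn
        rw [← hyn']
        have : lam y = 1 := hy
        simp [this]
  refine ⟨⟨∑ χ : Cfsg.IrrCharacter G, deg χ, ?_⟩⟩
  rw [eq_bot_iff]
  intro g hg
  rw [Subgroup.mem_bot]
  have hall : ∀ χ : Cfsg.IrrCharacter G, (χ : G → ℂ) g = (χ : G → ℂ) 1 := fun χ =>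
    key _ χ (Finset.single_le_sum (f := deg) (fun _ _ => Nat.zero_le _) (Finset.mem_univ χ)) g hg
  have hconj := Cfsg.Agent.Helper79.isConj_of_forall_irr_eq hall
  exact isConj_one_left.mp hconj

end

end Cfsg.Agent.Helper3
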