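import Mathlib
import Cfsg.Prelude.Def_Characters
import Cfsg.Agent.Helper3.BrauerPerm
import Cfsg.Agent.Helper3.Integral

/-!
# Consequences of Brauer's permutation lemma: automorphisms, real characters, odd order (helper3)

Everything is in `namespace Cfsg.Agent.Helper3`.
-/

set_option autoImplicit false

namespace Cfsg.Agent.Helper3

open scoped ComplexConjugate

/-- Brauer's permutation lemma for one automorphism. -/
theorem card_fixed_classes_eq {G : Type*} [Group G] [Finite G] (α : G ≃* G) :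
    Nat.card {C : ConjClasses G // ConjClasses.map α.toMonoidHom C = C} =
      Nat.card {χ : Cfsg.IrrCharacter G // (χ : G → ℂ) ∘ α = (χ : G → ℂ)} := by
  let T : Cfsg.IrrCharacter G → Cfsg.IrrCharacter G := fun χ =>
    ⟨fun g => (χ : G → ℂ) (α g), (Cfsg.Agent.Helper79.isIrrCharacter_mulEquiv α).mpr χ.2⟩
  have h := brauer_perm (fun g => α g) T (fun χ g => rfl)
    (fun C => ConjClasses.map α.toMonoidHom C = C) (fun g => by
      show IsConj g (α g) ↔ ConjClasses.mk (α g) = ConjClasses.mk g
      rw [ConjClasses.mk_eq_mk_iff_isConj]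
      exact ⟨IsConj.symm, IsConj.symm⟩)
  rw [← h]
  apply Nat.card_congr
  exact Equiv.subtypeEquivRight (fun χ => by
    constructor
    · intro h; exact congrArg Subtype.val h
    · intro h; exact Subtype.ext h)

/-- The complex conjugate of an irreducible character, as an irreducible character. -/
noncomputable def conjIrr {G : Type*} [Group G] (χ : Cfsg.IrrCharacter G) : Cfsg.IrrCharacter G :=
  ⟨fun g => conj ((χ : G → ℂ) g), Cfsg.Agent.Helper79.isIrrCharacter_conj χ.2⟩

theorem conjIrr_apply {G : Type*} [Group G] (χ : Cfsg.IrrCharacter G) (g : G) :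
    (conjIrr χ : G → ℂ) g = conj ((χ : G → ℂ) g) := rfl

theorem conjIrr_conjIrr {G : Type*} [Group G] (χ : Cfsg.IrrCharacter G) :
    conjIrr (conjIrr χ) = χ := by
  apply Subtype.ext
  funext g
  simp [conjIrr_apply]

theorem conjIrr_eq_iff {G : Type*} [Group G] (χ : Cfsg.IrrCharacter G) :
    conjIrr χ = χ ↔ ∀ g : G, ((χ : G → ℂ) g).im = 0 := by
  constructor
  · intro h g
    have := congrFun (congrArg Subtype.val h) g
    exact Complex.conj_eq_iff_im.mp this
  · intro h
    apply Subtype.ext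
    funext g
    exact Complex.conj_eq_iff_im.mpr (h g)

/-- The number of real-valued irreducible characters equals the number of real classes. -/
theorem card_real_irr_eq {G : Type*} [Group G] [Finite G] :
    Nat.card {χ : Cfsg.IrrCharacter G // ∀ g : G, ((χ : G → ℂ) g).im = 0} =
      Nat.card {C : ConjClasses G // ∀ g : G, ConjClasses.mk g = C → IsConj g g⁻¹} := by
  have h := brauer_perm (fun g : G => g⁻¹) conjIrr (fun χ g => by
      rw [conjIrr_apply]
      exact (Cfsg.Agent.Helper80.isCharacter_inv (Cfsg.Agent.Helper80.isCharacter_of_irr χ.2) g).symm)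
    (fun C => ∀ g : G, ConjClasses.mk g = C → IsConj g g⁻¹) (fun g => by
      constructor
      · intro hg g' hg'
        rw [ConjClasses.mk_eq_mk_iff_isConj] at hg'
        obtain ⟨c, hc⟩ := isConj_iff.mp hg'
        have h1 : IsConj g'⁻¹ g⁻¹ := isConj_iff.mpr ⟨c, by rw [← hc]; group⟩
        exact (hg'.trans hg).trans h1.symm
      · intro h
        exact h g rfl)
  rw [← h]
  apply Nat.card_congr
  exact Equiv.subtypeEquivRight (fun χ => (conjIrr_eq_iff χ).symm)

/-- In a group of odd order, an element conjugate to its inverse is trivial. -/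
theorem eq_one_of_isConj_inv_of_odd {G : Type*} [Group G] [Finite G] (hodd : Odd (Nat.card G))
    {g : G} (h : IsConj g g⁻¹) : g = 1 := by
  obtain ⟨c, hc⟩ := isConj_iff.mp h
  have hoc : Odd (orderOf c) := Odd.of_dvd_nat hodd (orderOf_dvd_natCard c)
  obtain ⟨k, hk⟩ := hoc
  have hc2 : Commute (c ^ 2) g := by
    have h1 : c ^ 2 * g * (c ^ 2)⁻¹ = g := by
      have : c ^ 2 * g * (c ^ 2)⁻¹ = c * (c * g * c⁻¹) * c⁻¹ := by rw [pow_two]; group
      rw [this, hc]
      have : c * g⁻¹ * c⁻¹ = (c * g * c⁻¹)⁻¹ := by group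
      rw [this, hc, inv_inv]
    show c ^ 2 * g = g * c ^ 2
    calc c ^ 2 * g = (c ^ 2 * g * (c ^ 2)⁻¹) * c ^ 2 := by group
      _ = g * c ^ 2 := by rw [h1]
  have hcc : Commute c g := by
    have h1 : Commute ((c ^ 2) ^ (k + 1)) g := hc2.pow_left (k + 1)
    have h2 : (c ^ 2) ^ (k + 1) = c := by
      rw [← pow_mul]
      have : 2 * (k + 1) = orderOf c + 1 := by omega
      rw [this, pow_succ, pow_orderOf_eq_one, one_mul]
    rwa [h2] at h1
  have hg2 : g = g⁻¹ := by
    rw [← hc]
    have : c * g = g * c := hcc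
    rw [this]; group
  have hgg : g ^ 2 = 1 := by
    rw [pow_two]
    nth_rewrite 2 [hg2]
    exact mul_inv_cancel g
  have hog : orderOf g ∣ 2 := orderOf_dvd_of_pow_eq_one hgg
  have hog' : Odd (orderOf g) := Odd.of_dvd_nat hodd (orderOf_dvd_natCard g)
  have : orderOf g = 1 := by
    rcases (Nat.dvd_prime Nat.prime_two).mp hog with h1 | h2
    · exact h1
    · rw [h2] at hog'; exact absurd hog' (by decide)
  exact orderOf_eq_one_iff.mp this

/-- In a group of odd order the only real-valued irreducible character is the principal one. -/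
theorem irr_eq_one_of_real_of_odd {G : Type*} [Group G] [Finite G] (hodd : Odd (Nat.card G))
    (χ : Cfsg.IrrCharacter G) (hreal : ∀ g : G, ((χ : G → ℂ) g).im = 0) :
    (χ : G → ℂ) = fun _ => 1 := by
  have hcard : Nat.card {C : ConjClasses G // ∀ g : G, ConjClasses.mk g = C → IsConj g g⁻¹} = 1 := by
    rw [Nat.card_eq_one_iff_unique]
    constructor
    · constructor
      intro ⟨C, hC⟩ ⟨C', hC'⟩
      apply Subtype.ext
      obtain ⟨g, rfl⟩ := ConjClasses.exists_rep C
      obtain ⟨g', rfl⟩ := ConjClasses.exists_rep C'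
      have h1 := eq_one_of_isConj_inv_of_odd hodd (hC g rfl)
      have h2 := eq_one_of_isConj_inv_of_odd hodd (hC' g' rfl)
      show ConjClasses.mk g = ConjClasses.mk g'
      rw [h1, h2]
    · refine ⟨⟨ConjClasses.mk 1, ?_⟩⟩
      intro g hg
      rw [ConjClasses.mk_eq_mk_iff_isConj] at hg
      have : g = 1 := by
        obtain ⟨c, hc⟩ := isConj_iff.mp hg
        have : g = c⁻¹ * (c * g * c⁻¹) * c := by group
        rw [this, hc]; group
      rw [this]; simp
  rw [← card_real_irr_eq, Nat.card_eq_one_iff_unique] at hcard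
  obtain ⟨hsub, -⟩ := hcard
  have ht : ∀ g : G, ((Cfsg.Agent.Helper80.trivIrr G : G → ℂ) g).im = 0 := by
    intro g; simp
  have := hsub.elim ⟨χ, hreal⟩ ⟨Cfsg.Agent.Helper80.trivIrr G, ht⟩
  have h2 := congrArg (fun x : {χ : Cfsg.IrrCharacter G // ∀ g : G, ((χ : G → ℂ) g).im = 0} =>
    ((x : Cfsg.IrrCharacter G) : G → ℂ)) this
  simp only at h2
  rw [h2]
  rfl

/-- In a group of odd order, `|G| ≡ k(G) mod 16`. -/
theorem card_modEq_card_conjClasses_of_odd {G : Type*} [Group G] [Finite G]
    (hodd : Odd (Nat.card G)) : Nat.card G ≡ Nat.card (ConjClasses G) [MOD 16] := by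
  classical
  have : Fintype G := Fintype.ofFinite G
  have : Fintype (Cfsg.IrrCharacter G) := Fintype.ofFinite _
  set d : Cfsg.IrrCharacter G → ℕ := fun χ => Cfsg.charDegree (χ : G → ℂ) with hd
  have hsum : ∑ χ : Cfsg.IrrCharacter G, d χ ^ 2 = Nat.card G := by
    rw [Nat.card_eq_fintype_card]
    exact Cfsg.Agent.Helper80.irr_sum_charDegree_sq
  have hk : Fintype.card (Cfsg.IrrCharacter G) = Nat.card (ConjClasses G) :=
    Cfsg.Agent.Helper80.card_irr_eq_card_conjClasses
  -- degrees are odd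
  have hdodd : ∀ χ : Cfsg.IrrCharacter G, Odd (d χ) := by
    intro χ
    obtain ⟨n, ρ, hρ, hχ⟩ := χ.2
    have := hρ
    have h1 : d χ = Module.finrank ℂ (Fin n → ℂ) := by
      rw [hd]
      show Cfsg.charDegree (χ : G → ℂ) = _
      rw [← hχ, Cfsg.Agent.Helper80.charDegree_rep_character]
      simp
    rw [h1]
    exact Odd.of_dvd_nat hodd (finrank_dvd_card ρ)
  -- write d² = 8 m + 1
  set m : Cfsg.IrrCharacter G → ℕ := fun χ => d χ ^ 2 / 8 with hm
  have hdm : ∀ χ : Cfsg.IrrCharacter G, d χ ^ 2 = 8 * m χ + 1 := by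
    intro χ
    obtain ⟨j, hj⟩ := hdodd χ
    have h8 : d χ ^ 2 % 8 = 1 := by
      rw [hj]
      have : (2 * j + 1) ^ 2 = 4 * (j * (j + 1)) + 1 := by ring
      rw [this]
      have hev : 2 ∣ j * (j + 1) := (Nat.even_mul_succ_self j).two_dvd
      obtain ⟨t, ht⟩ := hev
      rw [ht]
      omega
    have := Nat.div_add_mod (d χ ^ 2) 8
    show d χ ^ 2 = 8 * (d χ ^ 2 / 8) + 1
    omega
  -- conjugation is an involution on Irr with the principal character as only fixed point
  let t : Cfsg.IrrCharacter G := Cfsg.Agent.Helper80.trivIrr G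
  have hdconj : ∀ χ : Cfsg.IrrCharacter G, d (conjIrr χ) = d χ := by
    intro χ
    have h1 : ((d (conjIrr χ) : ℕ) : ℂ) = ((d χ : ℕ) : ℂ) := by
      rw [hd]
      show ((Cfsg.charDegree (conjIrr χ : G → ℂ) : ℕ) : ℂ) = ((Cfsg.charDegree (χ : G → ℂ) : ℕ) : ℂ)
      rw [← Cfsg.Agent.Helper80.irr_one_eq, ← Cfsg.Agent.Helper80.irr_one_eq, conjIrr_apply,
        Cfsg.Agent.Helper80.irr_one_eq]
      simp
    exact_mod_cast h1
  have hmconj : ∀ χ : Cfsg.IrrCharacter G, m (conjIrr χ) = m χ := by
    intro χ; rw [hm]; simp only [hdconj]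
  have hfix : ∀ χ : Cfsg.IrrCharacter G, conjIrr χ = χ → χ = t := by
    intro χ h
    apply Subtype.ext
    rw [irr_eq_one_of_real_of_odd hodd χ ((conjIrr_eq_iff χ).mp h)]
    rfl
  have htfix : conjIrr t = t := by
    apply Subtype.ext
    funext g
    simp [conjIrr_apply, t]
  have hmt : m t = 0 := by
    have : d t = 1 := by
      have h1 : ((d t : ℕ) : ℂ) = 1 := by
        rw [hd]
        show ((Cfsg.charDegree (t : G → ℂ) : ℕ) : ℂ) = 1
        rw [← Cfsg.Agent.Helper80.irr_one_eq]
        simp [t]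
      exact_mod_cast h1
    rw [hm]; simp [this]
  have hev : (∑ χ ∈ Finset.univ.erase t, (m χ : ZMod 2)) = 0 := by
    apply Finset.sum_involution (fun χ _ => conjIrr χ)
    · intro χ _
      rw [hmconj χ]
      exact CharTwo.add_self_eq_zero _
    · intro χ hχ _ h
      exact (Finset.ne_of_mem_erase hχ) (hfix χ h)
    · intro χ hχ
      rw [Finset.mem_erase]
      refine ⟨?_, Finset.mem_univ _⟩
      intro h
      apply Finset.ne_of_mem_erase hχ
      have := congrArg conjIrr h
      rw [conjIrr_conjIrr, htfix] at this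
      exact this
    · intro χ _
      exact conjIrr_conjIrr χ
  have hev2 : 2 ∣ ∑ χ : Cfsg.IrrCharacter G, m χ := by
    rw [← Finset.add_sum_erase Finset.univ _ (Finset.mem_univ t), hmt, zero_add]
    rw [← ZMod.natCast_eq_zero_iff]
    push_cast
    exact hev
  obtain ⟨j, hj⟩ := hev2
  have hfinal : Nat.card G = Nat.card (ConjClasses G) + 16 * j := by
    rw [← hsum, ← hk]
    have : ∑ χ : Cfsg.IrrCharacter G, d χ ^ 2 = ∑ χ : Cfsg.IrrCharacter G, (8 * m χ + 1) :=
      Finset.sum_congr rfl (fun χ _ => hdm χ)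
    rw [this, Finset.sum_add_distrib, ← Finset.mul_sum, hj]
    simp
    ring
  rw [hfinal]
  show (Nat.card (ConjClasses G) + 16 * j) % 16 = Nat.card (ConjClasses G) % 16
  omega

end Cfsg.Agent.Helper3
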