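import Mathlib
import Cfsg.Agent.Helper81.CharBasic
import Cfsg.Agent.Helper79.Basic

/-!
# Common eigenvectors for abelian subgroups; degree ≤ index of an abelian subgroup
-/

set_option autoImplicit false

namespace Cfsg.Agent.Helper3

open Representation

universe u v

/-- An abelian subgroup of a finite group has a common eigenvector in any nonzero
finite-dimensional complex representation. -/
theorem exists_common_eigenvector {G : Type u} [Group G] [Finite G] {V : Type v} [AddCommGroup V]
    [Module ℂ V] [FiniteDimensional ℂ V] [Nontrivial V] (ρ : Representation ℂ G V)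
    (A : Subgroup G) (hA : ∀ a ∈ A, ∀ b ∈ A, a * b = b * a) :
    ∃ v : V, v ≠ 0 ∧ ∀ a ∈ A, ∃ c : ℂ, ρ a v = c • v := by
  classical
  let ρA : Representation ℂ A V := MonoidHom.comp ρ A.subtype
  let S : Set ℕ := {k | ∃ U : Subrepresentation ρA, U.toSubmodule ≠ ⊥ ∧
    Module.finrank ℂ U.toSubmodule = k}
  have hS : S.Nonempty := ⟨_, ⊤, (top_ne_bot : (⊤ : Submodule ℂ V) ≠ ⊥), rfl⟩
  obtain ⟨U, hU, hUk⟩ := Nat.sInf_mem hS
  have hmin : ∀ U' : Subrepresentation ρA, U'.toSubmodule ≠ ⊥ →
      Module.finrank ℂ U.toSubmodule ≤ Module.finrank ℂ U'.toSubmodule := fun U' hU' => by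
    rw [hUk]; exact Nat.sInf_le ⟨U', hU', rfl⟩
  have hirr := Cfsg.Agent.Helper81.irreducible_of_minimal ρA U hU hmin
  have hcomm : IsMulCommutative A := ⟨⟨fun a b => Subtype.ext (hA a a.2 b b.2)⟩⟩
  have h1 : Module.finrank ℂ U.toSubmodule = 1 :=
    Representation.IsIrreducible.finrank_eq_one_of_isMulCommutative U.toRepresentation
  obtain ⟨v, hv, hspan⟩ := finrank_eq_one_iff'.mp h1
  refine ⟨(v : V), fun h0 => hv (Subtype.ext h0), fun a ha => ?_⟩
  obtain ⟨c, hc⟩ := hspan (U.toRepresentation ⟨a, ha⟩ v)
  refine ⟨c, ?_⟩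
  have := congrArg (Subtype.val) hc
  exact this.symm

/-- The degree of an irreducible complex representation of a finite group is at most the index
of any abelian subgroup. -/
theorem finrank_le_index_of_abelian {G : Type u} [Group G] [Finite G] {V : Type v}
    [AddCommGroup V] [Module ℂ V] [FiniteDimensional ℂ V] (ρ : Representation ℂ G V)
    (hρ : ρ.IsIrreducible) (A : Subgroup G) (hA : ∀ a ∈ A, ∀ b ∈ A, a * b = b * a) :
    Module.finrank ℂ V ≤ A.index := by
  classical
  obtain ⟨hnt, hirr⟩ := (Cfsg.Agent.Helper79.isIrreducible_iff ρ).mp hρ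
  obtain ⟨v, hv, hev⟩ := exists_common_eigenvector ρ A hA
  have := Fintype.ofFinite (G ⧸ A)
  let b : G ⧸ A → V := fun q => ρ q.out v
  let S : Submodule ℂ V := Submodule.span ℂ (Set.range b)
  have hmem : ∀ g : G, ρ g v ∈ S := by
    intro g
    have h1 : (QuotientGroup.mk g : G ⧸ A).out⁻¹ * g ∈ A := by
      rw [← QuotientGroup.eq]
      exact Quotient.out_eq _
    obtain ⟨c, hc⟩ := hev _ h1
    have h2 : ρ g v = c • b (QuotientGroup.mk g) := by
      have : g = (QuotientGroup.mk g : G ⧸ A).out * ((QuotientGroup.mk g : G ⧸ A).out⁻¹ * g) := by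
        group
      conv_lhs => rw [this]
      rw [map_mul, Module.End.mul_apply, hc, map_smul]
    rw [h2]
    exact S.smul_mem c (Submodule.subset_span ⟨_, rfl⟩)
  have hinv : ∀ g : G, ∀ w ∈ S, ρ g w ∈ S := by
    intro g w hw
    induction hw using Submodule.span_induction with
    | mem x hx =>
      obtain ⟨q, rfl⟩ := hx
      have : ρ g (b q) = ρ (g * q.out) v := by
        simp only [b, map_mul, Module.End.mul_apply]
      rw [this]
      exact hmem _
    | zero => simp
    | add x y _ _ hx hy => rw [map_add]; exact S.add_mem hx hy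
    | smul c x _ hx => rw [map_smul]; exact S.smul_mem c hx
  have hS : S = ⊤ := by
    rcases hirr S hinv with h | h
    · exfalso
      apply hv
      have h1 : ρ 1 v ∈ S := hmem 1
      rw [h, map_one] at h1
      simpa using h1
    · exact h
  have h1 : Module.finrank ℂ S ≤ Fintype.card (G ⧸ A) := finrank_range_le_card b
  have h2 : Module.finrank ℂ S = Module.finrank ℂ V := by
    rw [hS]; exact finrank_top ℂ V
  rw [← h2, Subgroup.index, Nat.card_eq_fintype_card]
  exact h1

end Cfsg.Agent.Helper3
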