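import Cfsg.Agent.Helper3.Frobenius

/-!
# A Bessel inequality for class functions with pairwise disjoint supports

`bessel_disjoint`: if the functions `F i` have pairwise disjoint supports not containing `1`,
then `∑ i, ⟨χ, F i⟩² / ⟨F i, F i⟩ + |χ 1|² / |G| ≤ ⟨χ, χ⟩`.
-/

set_option autoImplicit false

namespace Cfsg.Agent.Helper3

open scoped ComplexConjugate

theorem classInner_lin_right {G : Type*} [Group G] [Fintype G] (χ : G → ℂ) {n : ℕ}
    (k : Fin n → ℤ) (α : Fin n → G → ℂ) :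
    Cfsg.classInner χ (fun g => ∑ r, (k r : ℂ) * α r g)
      = ∑ r, (k r : ℂ) * Cfsg.classInner χ (α r) := by
  unfold Cfsg.classInner
  have hk : ∀ r, conj (k r : ℂ) = (k r : ℂ) := fun r => Complex.conj_eq_iff_re.mpr rfl
  simp only [map_sum, map_mul, hk, Finset.mul_sum]
  rw [Finset.sum_comm]
  refine Finset.sum_congr rfl fun r _ => Finset.sum_congr rfl fun g _ => by ring

theorem classInner_lin_left {G : Type*} [Group G] [Fintype G] (ψ : G → ℂ) {n : ℕ}
    (k : Fin n → ℤ) (α : Fin n → G → ℂ) :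
    Cfsg.classInner (fun g => ∑ r, (k r : ℂ) * α r g) ψ
      = ∑ r, (k r : ℂ) * Cfsg.classInner (α r) ψ := by
  unfold Cfsg.classInner
  simp only [Finset.sum_mul, Finset.mul_sum]
  rw [Finset.sum_comm]
  refine Finset.sum_congr rfl fun r _ => Finset.sum_congr rfl fun g _ => by ring

theorem classInner_lin_lin {G : Type*} [Group G] [Fintype G] {n : ℕ}
    (k : Fin n → ℤ) (α : Fin n → G → ℂ) :
    Cfsg.classInner (fun g => ∑ r, (k r : ℂ) * α r g) (fun g => ∑ r, (k r : ℂ) * α r g)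
      = ∑ r, ∑ s, (k r : ℂ) * (k s : ℂ) * Cfsg.classInner (α r) (α s) := by
  rw [classInner_lin_left]
  refine Finset.sum_congr rfl fun r _ => ?_
  rw [classInner_lin_right, Finset.mul_sum]
  refine Finset.sum_congr rfl fun s _ => by ring

theorem sum_norm_sq_of_classInner {G : Type*} [Group G] [Fintype G] (f : G → ℂ) (x : ℝ)
    (hx : Cfsg.classInner f f = (x : ℂ)) : ∑ g, ‖f g‖ ^ 2 = x * (Nat.card G : ℝ) := by
  have hNc : (Nat.card G : ℂ) ≠ 0 := by exact_mod_cast Nat.card_pos.ne'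
  unfold Cfsg.classInner at hx
  have h2 : ∑ g, f g * conj (f g) = ((∑ g, ‖f g‖ ^ 2 : ℝ) : ℂ) := by
    push_cast
    refine Finset.sum_congr rfl fun g _ => ?_
    rw [Complex.mul_conj, Complex.normSq_eq_norm_sq]
    push_cast
    rfl
  rw [h2] at hx
  have h3 : ((∑ g, ‖f g‖ ^ 2 : ℝ) : ℂ) = (x : ℂ) * (Nat.card G : ℂ) := by
    rw [← hx]
    field_simp
  exact_mod_cast h3

theorem bessel_disjoint {G : Type*} [Group G] [Fintype G] {ι : Type*} [Fintype ι]
    (χ : G → ℂ) (F : ι → G → ℂ)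
    (hdisj : ∀ i j, i ≠ j → ∀ g, F i g ≠ 0 → F j g = 0) (h1 : ∀ i, F i 1 = 0)
    (n b : ι → ℝ) (hn : ∀ i, Cfsg.classInner (F i) (F i) = (n i : ℂ))
    (hb : ∀ i, Cfsg.classInner χ (F i) = (b i : ℂ)) (hnpos : ∀ i, 0 < n i)
    (c : ℝ) (hχ : Cfsg.classInner χ χ = (c : ℂ)) :
    ∑ i, b i ^ 2 / n i + ‖χ 1‖ ^ 2 / (Nat.card G : ℝ) ≤ c := by
  classical
  have hN : (0 : ℝ) < (Nat.card G : ℝ) := by exact_mod_cast Nat.card_pos
  have hNc : (Nat.card G : ℂ) ≠ 0 := by exact_mod_cast Nat.card_pos.ne'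
  have hχs := sum_norm_sq_of_classInner χ c hχ
  have hFs := fun i => sum_norm_sq_of_classInner (F i) (n i) (hn i)
  set W : ι → ℝ := fun i => ∑ g, if F i g ≠ 0 then ‖χ g‖ ^ 2 else 0 with hW
  have hcs : ∀ i, b i ^ 2 * (Nat.card G : ℝ) ≤ W i * n i := by
    intro i
    have hb' : ∑ g, χ g * conj (F i g) = (b i : ℂ) * (Nat.card G : ℂ) := by
      have := hb i
      unfold Cfsg.classInner at this
      rw [← this]
      field_simp
    have h2 : |b i| * (Nat.card G : ℝ) ≤ ∑ g, (if F i g ≠ 0 then ‖χ g‖ else 0) * ‖F i g‖ := by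
      have h3 : ‖∑ g, χ g * conj (F i g)‖ = |b i| * (Nat.card G : ℝ) := by
        rw [hb', norm_mul, Complex.norm_real, Complex.norm_natCast, Real.norm_eq_abs]
      rw [← h3]
      refine (norm_sum_le _ _).trans (le_of_eq ?_)
      refine Finset.sum_congr rfl fun g _ => ?_
      rw [norm_mul, RCLike.norm_conj]
      by_cases hg : F i g = 0
      · simp [hg]
      · simp [hg]
    have h4 : (|b i| * (Nat.card G : ℝ)) ^ 2
        ≤ (∑ g, (if F i g ≠ 0 then ‖χ g‖ else 0) * ‖F i g‖) ^ 2 :=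
      pow_le_pow_left₀ (by positivity) h2 2
    have h5 := Finset.sum_mul_sq_le_sq_mul_sq (Finset.univ : Finset G)
      (fun g => if F i g ≠ 0 then ‖χ g‖ else 0) (fun g => ‖F i g‖)
    have h6 : ∑ g, (if F i g ≠ 0 then ‖χ g‖ else 0) ^ 2 = W i := by
      rw [hW]
      refine Finset.sum_congr rfl fun g _ => ?_
      split_ifs <;> simp
    rw [h6, hFs i] at h5
    have h7 : (|b i| * (Nat.card G : ℝ)) ^ 2 = b i ^ 2 * (Nat.card G : ℝ) * (Nat.card G : ℝ) := by
      rw [mul_pow, sq_abs]; ring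
    have h8 : b i ^ 2 * (Nat.card G : ℝ) * (Nat.card G : ℝ)
        ≤ W i * n i * (Nat.card G : ℝ) := by
      calc b i ^ 2 * (Nat.card G : ℝ) * (Nat.card G : ℝ)
          = (|b i| * (Nat.card G : ℝ)) ^ 2 := h7.symm
        _ ≤ _ := h4
        _ ≤ W i * (n i * (Nat.card G : ℝ)) := h5
        _ = W i * n i * (Nat.card G : ℝ) := by ring
    exact le_of_mul_le_mul_right h8 hN
  have hterm : ∀ i, b i ^ 2 / n i ≤ W i / (Nat.card G : ℝ) := by
    intro i
    rw [div_le_div_iff₀ (hnpos i) hN]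
    exact hcs i
  have hsumW : ∑ i, W i ≤ c * (Nat.card G : ℝ) - ‖χ 1‖ ^ 2 := by
    rw [hW]
    rw [Finset.sum_comm]
    have hpt : ∀ g : G, ∑ i, (if F i g ≠ 0 then ‖χ g‖ ^ 2 else 0)
        ≤ if g = 1 then 0 else ‖χ g‖ ^ 2 := by
      intro g
      by_cases hg : g = 1
      · subst hg
        simp [h1]
      · rw [if_neg hg]
        by_cases hex : ∃ i, F i g ≠ 0
        · obtain ⟨i₀, hi₀⟩ := hex
          rw [Finset.sum_eq_single i₀]
          · rw [if_pos hi₀]
          · intro j _ hj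
            rw [if_neg]
            rw [not_not]
            exact hdisj i₀ j (Ne.symm hj) g hi₀
          · intro h; exact absurd (Finset.mem_univ _) h
        · push Not at hex
          have : ∀ i, (if F i g ≠ 0 then ‖χ g‖ ^ 2 else 0) = 0 := by
            intro i; rw [if_neg]; rw [not_not]; exact hex i
          simp only [this, Finset.sum_const_zero]
          positivity
    refine (Finset.sum_le_sum fun g _ => hpt g).trans (le_of_eq ?_)
    rw [← hχs]
    have : ∀ g : G, (if g = 1 then (0 : ℝ) else ‖χ g‖ ^ 2)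
        = ‖χ g‖ ^ 2 - (if g = 1 then ‖χ g‖ ^ 2 else 0) := by
      intro g; split_ifs <;> simp
    simp only [this]
    rw [Finset.sum_sub_distrib, Finset.sum_ite_eq']
    simp
  calc ∑ i, b i ^ 2 / n i + ‖χ 1‖ ^ 2 / (Nat.card G : ℝ)
      ≤ ∑ i, W i / (Nat.card G : ℝ) + ‖χ 1‖ ^ 2 / (Nat.card G : ℝ) := by
        have := Finset.sum_le_sum (fun i (_ : i ∈ Finset.univ) => hterm i)
        linarith
    _ = (∑ i, W i + ‖χ 1‖ ^ 2) / (Nat.card G : ℝ) := by
        rw [← Finset.sum_div, add_div]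
    _ ≤ (c * (Nat.card G : ℝ)) / (Nat.card G : ℝ) := by
        apply div_le_div_of_nonneg_right _ hN.le
        linarith
    _ = c := by field_simp

end Cfsg.Agent.Helper3
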