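import Mathlib
import Cfsg.Prelude.Def_OddOrderLocal
import Cfsg.Prelude.Def_Transfer

/-!
# CALL C9 (helper1, S1376), piece DN: a finite group with a normal `s`-complement for every prime
`s` dividing its order is nilpotent.
-/

set_option autoImplicit false

namespace Cfsg.Agent.Helper3

open Cfsg Subgroup

universe u

variable {G : Type u} [Group G] [Finite G]

/-- A `p`-subgroup lies in every normal subgroup whose index is a power of another prime. -/
theorem c9dn_le {X : Type u} [Group X] [Finite X] {p s : ℕ} (hp : p.Prime) (hs : s.Prime)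
    (hsp : s ≠ p) (P N : Subgroup X) [N.Normal] (hP : IsPGroup p P) (m : ℕ)
    (hN : N.index = s ^ m) : P ≤ N := by
  intro g hg
  obtain ⟨k, hk⟩ := hP ⟨g, hg⟩
  have hk' : g ^ p ^ k = 1 := by
    have := congrArg Subtype.val hk
    simpa using this
  have h1 : orderOf (QuotientGroup.mk' N g) ∣ p ^ k := by
    apply orderOf_dvd_of_pow_eq_one
    rw [← map_pow, hk', map_one]
  have h2 : orderOf (QuotientGroup.mk' N g) ∣ s ^ m := by
    rw [← hN, Subgroup.index]
    exact orderOf_dvd_natCard _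
  have hcop : Nat.Coprime (p ^ k) (s ^ m) :=
    Nat.Coprime.pow _ _ ((Nat.coprime_primes hp hs).mpr (Ne.symm hsp))
  have h3 : orderOf (QuotientGroup.mk' N g) = 1 :=
    Nat.dvd_one.mp (by
      have := Nat.dvd_gcd h1 h2
      rwa [hcop.gcd_eq_one] at this)
  rw [orderOf_eq_one_iff] at h3
  exact (QuotientGroup.eq_one_iff g).mp h3

/-- DN (pure). -/
theorem c9_nil_of_compl {X : Type u} [Group X] [Finite X]
    (h : ∀ s : ℕ, s.Prime → s ∣ Nat.card X → HasNormalPComplement s X) : Group.IsNilpotent X := by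
  classical
  refine ((Group.isNilpotent_of_finite_tfae (G := X)).out 0 3).mpr ?_
  intro p hp P
  have h' : ∀ s : ℕ, ∃ N : Subgroup X, N.Normal ∧ (P : Subgroup X) ≤ N ∧
      (s.Prime → s ∣ Nat.card X → s ≠ p → ¬ s ∣ Nat.card N) := by
    intro s
    by_cases hc : s.Prime ∧ s ∣ Nat.card X ∧ s ≠ p
    · obtain ⟨hs, hdvd, hsp⟩ := hc
      obtain ⟨S, N, hNn, hcompl⟩ := h s hs hdvd
      haveI : Fact s.Prime := ⟨hs⟩
      obtain ⟨m, hm⟩ := IsPGroup.iff_card.mp S.isPGroup'
      refine ⟨N, hNn, ?_, fun _ _ _ hsN => ?_⟩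
      · haveI := hNn
        refine c9dn_le hp.out hs hsp _ N P.isPGroup' m ?_
        rw [hcompl.symm.index_eq_card, hm]
      · have h1 : (Nat.card (S : Subgroup X)).Coprime (S : Subgroup X).index :=
          S.card_coprime_index
        rw [hcompl.index_eq_card] at h1
        have h2 : s ∣ Nat.card (S : Subgroup X) := S.dvd_card_of_dvd_card hdvd
        have h3 := Nat.dvd_gcd h2 hsN
        rw [h1.gcd_eq_one] at h3
        exact hs.one_lt.ne' (Nat.dvd_one.mp h3)
    · exact ⟨⊤, inferInstance, le_top, fun h1 h2 h3 => absurd ⟨h1, h2, h3⟩ hc⟩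
  choose N hNn hPN hN using h'
  have hTn : (⨅ s, N s).Normal := Subgroup.normal_iInf_normal hNn
  have hPT : (P : Subgroup X) ≤ ⨅ s, N s := le_iInf hPN
  have hTp : IsPGroup p (⨅ s, N s : Subgroup X) := by
    have hpos : Nat.card (⨅ s, N s : Subgroup X) ≠ 0 := Nat.card_pos.ne'
    have := Nat.eq_prime_pow_of_unique_prime_dvd hpos (p := p) (fun {d} hd hdvd => by
      by_contra hdp
      have h1 : d ∣ Nat.card X := hdvd.trans (Subgroup.card_subgroup_dvd_card _)
      have h2 : Nat.card (⨅ s, N s : Subgroup X) ∣ Nat.card (N d) :=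
        Subgroup.card_dvd_of_le (iInf_le N d)
      exact hN d hd h1 hdp (hdvd.trans h2))
    exact IsPGroup.of_card this
  have hEq : (⨅ s, N s : Subgroup X) = P := P.is_maximal' hTp hPT
  rw [← hEq]
  exact hTn

end Cfsg.Agent.Helper3
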