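import Mathlib

/-!
# The numerical contradiction in Peterfalvi's Theorem (7.1)
-/

set_option autoImplicit false

namespace Cfsg.Agent.Helper3

open Finset

/-- Core numerical lemma: the weights `1/e i` of the classes other than `m` cannot exceed what the
Bessel inequality (`hA`) and the norm inequality (`hB`) allow. -/
theorem p71_num_core {ι : Type*} [Fintype ι] [DecidableEq ι] (m : ι) (t e : ι → ℕ)
    (cz cq : ι → ℤ) (g ρ σ : ℚ) (he : ∀ i, 0 < e i) (ht : ∀ i, 0 < t i) (hg : 0 < g)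
    (hP : ∀ i, i ≠ m → cz i ≠ 0 ∨ cq i ≠ 0)
    (hA : ∑ i ∈ univ.erase m, (t i : ℚ) * (cz i : ℚ) ^ 2 / ((t i : ℚ) * e i + 1) + g
      ≤ (e m : ℚ) / ((t m : ℚ) * e m + 1))
    (hB : ∑ i ∈ univ.erase m, (t i : ℤ) * cq i ^ 2 ≤ (e m : ℤ) - 1)
    (hC : 1 - g - 1 / (e m : ℚ) < ∑ i ∈ univ.erase m, 1 / (e i : ℚ))
    (hρ : 1 ≤ ρ) (hσ : 0 ≤ σ)
    (hρi : ∀ i, i ≠ m → cz i ≠ 0 → (t i : ℚ) * e i + 1 ≤ ρ * ((t i : ℚ) * e i))
    (hσi : ∀ i, i ≠ m → cz i = 0 → 1 ≤ σ * ((t i : ℚ) * e i))
    (hfin : 1 / (e m : ℚ) + ρ * ((e m : ℚ) / ((t m : ℚ) * e m + 1)) + σ * ((e m : ℚ) - 1) ≤ 1) :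
    False := by
  have hterm : ∀ i ∈ univ.erase m, 1 / (e i : ℚ)
      ≤ ρ * ((t i : ℚ) * (cz i : ℚ) ^ 2 / ((t i : ℚ) * e i + 1)) + σ * ((t i : ℚ) * (cq i : ℚ) ^ 2) := by
    intro i hi
    have him : i ≠ m := ne_of_mem_erase hi
    have hei : (0 : ℚ) < e i := by exact_mod_cast he i
    have hti : (0 : ℚ) < t i := by exact_mod_cast ht i
    have hte : (0 : ℚ) < (t i : ℚ) * e i := mul_pos hti hei
    have hρ0 : (0 : ℚ) ≤ ρ := le_trans zero_le_one hρ
    by_cases hz : cz i = 0
    · have hq : cq i ≠ 0 := by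
        rcases hP i him with h | h
        · exact absurd hz h
        · exact h
      have hq1 : (1 : ℚ) ≤ (cq i : ℚ) ^ 2 := by
        have : (1 : ℤ) ≤ cq i ^ 2 := by
          have := sq_nonneg (cq i)
          have h2 : cq i ^ 2 ≠ 0 := pow_ne_zero 2 hq
          omega
        exact_mod_cast this
      have h1 := hσi i him hz
      rw [hz]
      have h3 : 1 / (e i : ℚ) ≤ σ * (t i : ℚ) := by
        rw [div_le_iff₀ hei]
        linarith
      have h4 : σ * (t i : ℚ) ≤ σ * ((t i : ℚ) * (cq i : ℚ) ^ 2) := by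
        apply mul_le_mul_of_nonneg_left _ hσ
        nlinarith
      simp only [Int.cast_zero, ne_eq, OfNat.ofNat_ne_zero, not_false_eq_true, zero_pow, mul_zero,
        zero_div, zero_add]
      linarith
    · have hz1 : (1 : ℚ) ≤ (cz i : ℚ) ^ 2 := by
        have : (1 : ℤ) ≤ cz i ^ 2 := by
          have := sq_nonneg (cz i)
          have h2 : cz i ^ 2 ≠ 0 := pow_ne_zero 2 hz
          omega
        exact_mod_cast this
      have h1 := hρi i him hz
      have ha : (0 : ℚ) < (t i : ℚ) * e i + 1 := by linarith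
      have h3 : 1 / (e i : ℚ) ≤ ρ * ((t i : ℚ) / ((t i : ℚ) * e i + 1)) := by
        rw [div_le_iff₀ hei, mul_assoc, div_mul_eq_mul_div, ← mul_div_assoc, le_div_iff₀ ha]
        linarith
      have h4 : ρ * ((t i : ℚ) / ((t i : ℚ) * e i + 1))
          ≤ ρ * ((t i : ℚ) * (cz i : ℚ) ^ 2 / ((t i : ℚ) * e i + 1)) := by
        apply mul_le_mul_of_nonneg_left _ hρ0
        apply div_le_div_of_nonneg_right _ ha.le
        nlinarith
      have h5 : 0 ≤ σ * ((t i : ℚ) * (cq i : ℚ) ^ 2) := by positivity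
      linarith
  have hsum := Finset.sum_le_sum hterm
  rw [Finset.sum_add_distrib, ← Finset.mul_sum, ← Finset.mul_sum] at hsum
  have hB' : ∑ i ∈ univ.erase m, (t i : ℚ) * (cq i : ℚ) ^ 2 ≤ (e m : ℚ) - 1 := by
    have := hB
    have h2 : ((∑ i ∈ univ.erase m, (t i : ℤ) * cq i ^ 2 : ℤ) : ℚ) ≤ (((e m : ℤ) - 1 : ℤ) : ℚ) := by
      exact_mod_cast this
    push_cast at h2
    exact h2
  have hρ0 : (0 : ℚ) ≤ ρ := le_trans zero_le_one hρ
  have h6 : ρ * ∑ i ∈ univ.erase m, (t i : ℚ) * (cz i : ℚ) ^ 2 / ((t i : ℚ) * e i + 1)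
      ≤ ρ * ((e m : ℚ) / ((t m : ℚ) * e m + 1) - g) :=
    mul_le_mul_of_nonneg_left (by linarith) hρ0
  have h7 : σ * ∑ i ∈ univ.erase m, (t i : ℚ) * (cq i : ℚ) ^ 2 ≤ σ * ((e m : ℚ) - 1) :=
    mul_le_mul_of_nonneg_left hB' hσ
  have h8 : ρ * g ≥ g := by nlinarith
  nlinarith

/-- The final numerical contradiction. -/
theorem p71_num_final {ι : Type*} [Fintype ι] [DecidableEq ι] (m : ι) (t e : ι → ℕ)
    (cz cq : ι → ℤ) (g : ℚ) (he3 : 3 ≤ e m) (hmin : ∀ i, e m ≤ e i) (ht2 : ∀ i, 2 ≤ t i)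
    (hteven : ∀ i, Even (t i)) (heodd : ∀ i, Odd (e i))
    (hdist : ∀ i j, i ≠ j → t i * e i ≠ t j * e j) (hg : 0 < g)
    (hP : ∀ i, i ≠ m → cz i ≠ 0 ∨ cq i ≠ 0)
    (hA : ∑ i ∈ univ.erase m, (t i : ℚ) * (cz i : ℚ) ^ 2 / ((t i : ℚ) * e i + 1) + g
      ≤ (e m : ℚ) / ((t m : ℚ) * e m + 1))
    (hB : ∑ i ∈ univ.erase m, (t i : ℤ) * cq i ^ 2 ≤ (e m : ℤ) - 1)
    (hC : 1 - g - 1 / (e m : ℚ) < ∑ i ∈ univ.erase m, 1 / (e i : ℚ)) : False := by
  have he : ∀ i, 0 < e i := fun i => by have := hmin i; omega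
  have ht : ∀ i, 0 < t i := fun i => by have := ht2 i; omega
  have hem : (3 : ℚ) ≤ e m := by exact_mod_cast he3
  -- general lower bound t i * e i ≥ 2 * e m
  have hlow : ∀ i, 2 * e m ≤ t i * e i := fun i => Nat.mul_le_mul (ht2 i) (hmin i)
  by_cases htm : 4 ≤ t m
  · -- t m ≥ 4
    have htmq : (4 : ℚ) ≤ t m := by exact_mod_cast htm
    refine p71_num_core m t e cz cq g ((2 * (e m : ℚ) + 1) / (2 * e m)) (1 / (2 * (e m : ℚ)))
      he ht hg hP hA hB hC ?_ ?_ ?_ ?_ ?_
    · rw [le_div_iff₀ (by linarith)]; linarith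
    · positivity
    · intro i _ _
      have h1 : (2 * (e m : ℚ)) ≤ (t i : ℚ) * e i := by exact_mod_cast hlow i
      rw [div_mul_eq_mul_div, le_div_iff₀ (by linarith)]
      nlinarith
    · intro i _ _
      have h1 : (2 * (e m : ℚ)) ≤ (t i : ℚ) * e i := by exact_mod_cast hlow i
      rw [div_mul_eq_mul_div, one_mul, le_div_iff₀ (by linarith)]
      linarith
    · have h1 : (0 : ℚ) < (t m : ℚ) * e m + 1 := by positivity
      have h2 : (e m : ℚ) / ((t m : ℚ) * e m + 1) ≤ (e m : ℚ) / (4 * e m + 1) := by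
        apply div_le_div_of_nonneg_left (by linarith) (by linarith)
        nlinarith
      have h3 : (2 * (e m : ℚ) + 1) / (2 * e m) * ((e m : ℚ) / (4 * e m + 1))
          = (2 * (e m : ℚ) + 1) / (2 * (4 * e m + 1)) := by
        field_simp
      have h4 : (0 : ℚ) ≤ (2 * (e m : ℚ) + 1) / (2 * e m) := by positivity
      have h5 := mul_le_mul_of_nonneg_left h2 h4
      rw [h3] at h5
      have h6 : 1 / (e m : ℚ) + (2 * (e m : ℚ) + 1) / (2 * (4 * e m + 1))
          + 1 / (2 * (e m : ℚ)) * ((e m : ℚ) - 1) ≤ 1 := by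
        rw [div_add_div _ _ (by linarith) (by linarith), div_mul_eq_mul_div,
          div_add_div _ _ (by positivity) (by linarith), div_le_one (by positivity)]
        have hx0 : (0 : ℚ) ≤ e m := by linarith
        have hx3 : (0 : ℚ) ≤ (e m : ℚ) - 3 := by linarith
        nlinarith [mul_nonneg (mul_nonneg hx0 hx0) hx3, mul_nonneg hx0 hx3]
      linarith
  · -- t m = 2
    have htm2 : t m = 2 := by
      have h1 := ht2 m
      obtain ⟨k, hk⟩ := hteven m
      omega
    have htmq : (t m : ℚ) = 2 := by exact_mod_cast htm2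
    -- all other classes have t i * e i ≥ 2 e m + 4
    have hlow2 : ∀ i, i ≠ m → 2 * e m + 4 ≤ t i * e i := by
      intro i him
      have h1 := hdist i m him
      rw [htm2] at h1
      have h2 := ht2 i
      have h3 := hmin i
      by_cases hti : 4 ≤ t i
      · have : 4 * e m ≤ t i * e i := Nat.mul_le_mul hti h3
        omega
      · have hti2 : t i = 2 := by
          obtain ⟨k, hk⟩ := hteven i
          omega
        rw [hti2] at h1 ⊢
        have h4 : e i ≠ e m := fun hc => h1 (by rw [hc])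
        obtain ⟨a, ha⟩ := heodd i
        obtain ⟨b, hb⟩ := heodd m
        omega
    by_cases he5 : 5 ≤ e m
    · have hem5 : (5 : ℚ) ≤ e m := by exact_mod_cast he5
      refine p71_num_core m t e cz cq g ((2 * (e m : ℚ) + 5) / (2 * e m + 4))
        (1 / (2 * (e m : ℚ) + 4)) he ht hg hP hA hB hC ?_ ?_ ?_ ?_ ?_
      · rw [le_div_iff₀ (by linarith)]; linarith
      · positivity
      · intro i him _
        have h1 : (2 * (e m : ℚ) + 4) ≤ (t i : ℚ) * e i := by exact_mod_cast hlow2 i him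
        rw [div_mul_eq_mul_div, le_div_iff₀ (by linarith)]
        nlinarith
      · intro i him _
        have h1 : (2 * (e m : ℚ) + 4) ≤ (t i : ℚ) * e i := by exact_mod_cast hlow2 i him
        rw [div_mul_eq_mul_div, one_mul, le_div_iff₀ (by linarith)]
        linarith
      · rw [htmq]
        have h3 : (2 * (e m : ℚ) + 5) / (2 * e m + 4) * ((e m : ℚ) / (2 * e m + 1))
            = (2 * (e m : ℚ) + 5) * e m / ((2 * e m + 4) * (2 * e m + 1)) := by
          field_simp
        rw [h3, div_add_div _ _ (by linarith) (by positivity), div_mul_eq_mul_div,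
          div_add_div _ _ (by positivity) (by linarith), div_le_one (by positivity)]
        have hx0 : (0 : ℚ) ≤ e m := by linarith
        have hx5 : (0 : ℚ) ≤ (e m : ℚ) - 5 := by linarith
        nlinarith [mul_nonneg (mul_nonneg hx0 hx0) hx5, mul_nonneg hx0 hx5, sq_nonneg (e m : ℚ)]
    · -- e m = 3
      have hem3 : e m = 3 := by
        obtain ⟨b, hb⟩ := heodd m
        omega
      have hemq : (e m : ℚ) = 3 := by exact_mod_cast hem3
      have hlow3 : ∀ i, i ≠ m → 10 ≤ t i * e i := by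
        intro i him
        have := hlow2 i him
        omega
      by_cases hq : ∃ q, q ≠ m ∧ t q * e q = 10 ∧ cz q = 0
      · obtain ⟨q, hqm, hq10, hqz⟩ := hq
        have hlow4 : ∀ i, i ≠ m → i ≠ q → 12 ≤ t i * e i := by
          intro i him hiq
          have h1 := hlow3 i him
          have h2 := hdist i q hiq
          rw [hq10] at h2
          obtain ⟨k, hk⟩ := hteven i
          have h3 : t i * e i = 2 * (k * e i) := by rw [hk]; ring
          omega
        refine p71_num_core m t e cz cq g (13 / 12) (1 / 10) he ht hg hP hA hB hC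
          (by norm_num) (by norm_num) ?_ ?_ ?_
        · intro i him hz
          have hiq : i ≠ q := fun hc => hz (hc ▸ hqz)
          have h1 : (12 : ℚ) ≤ (t i : ℚ) * e i := by exact_mod_cast hlow4 i him hiq
          linarith
        · intro i him _
          have h1 : (10 : ℚ) ≤ (t i : ℚ) * e i := by exact_mod_cast hlow3 i him
          linarith
        · rw [htmq, hemq]; norm_num
      · push Not at hq
        refine p71_num_core m t e cz cq g (11 / 10) (1 / 12) he ht hg hP hA hB hC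
          (by norm_num) (by norm_num) ?_ ?_ ?_
        · intro i him _
          have h1 : (10 : ℚ) ≤ (t i : ℚ) * e i := by exact_mod_cast hlow3 i him
          linarith
        · intro i him hz
          have h1 := hlow3 i him
          have h2 : t i * e i ≠ 10 := fun hc => hq i him hc hz
          obtain ⟨k, hk⟩ := hteven i
          have h3 : t i * e i = 2 * (k * e i) := by rw [hk]; ring
          have h4 : 12 ≤ t i * e i := by omega
          have h5 : (12 : ℚ) ≤ (t i : ℚ) * e i := by exact_mod_cast h4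
          linarith
        · rw [htmq, hemq]; norm_num

end Cfsg.Agent.Helper3
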