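import Cfsg.Agent.Helper3.ExcCore
import Cfsg.Agent.Helper3.P71Num

/-!
# Final step of the exceptional-character argument (abstract form)

From an `ExcSystem` (integer coefficient matrices of the functions `α i r`), a Bessel-type
inequality for integer combinations with pairwise disjoint supports, and the counting
inequality, we derive a contradiction.  All of this is arithmetic in `ℤ` and `ℚ`.
-/

set_option autoImplicit false

namespace Cfsg.Agent.Helper3

open Finset

/-- The quadratic form of the Gram matrix `e + δ`. -/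
def excNorm {n : ℕ} (e : ℤ) (k : Fin n → ℤ) : ℤ :=
  ∑ r, ∑ s, k r * k s * (e + if r = s then 1 else 0)

theorem excNorm_eq {n : ℕ} (e : ℤ) (k : Fin n → ℤ) :
    excNorm e k = e * (∑ r, k r) ^ 2 + ∑ r, k r ^ 2 := by
  unfold excNorm
  have h1 : ∀ r, ∑ s, k r * k s * (e + if r = s then 1 else 0)
      = e * k r * (∑ s, k s) + k r ^ 2 := by
    intro r
    have h2 : ∀ s, k r * k s * (e + if r = s then 1 else 0)
        = e * k r * k s + (if r = s then k r * k s else 0) := by
      intro s; split_ifs <;> ring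
    simp only [h2]
    rw [Finset.sum_add_distrib, ← Finset.mul_sum, Finset.sum_ite_eq]
    simp only [Finset.mem_univ, if_true]
    ring
  simp only [h1]
  rw [Finset.sum_add_distrib, ← Finset.sum_mul, ← Finset.mul_sum]
  ring

theorem excNorm_const_one {n : ℕ} (e : ℤ) :
    excNorm e (fun _ : Fin n => (1 : ℤ)) = e * (n : ℤ) ^ 2 + n := by
  rw [excNorm_eq]
  simp

theorem sum_fin_ind {n : ℕ} (r₀ : Fin n) (u v : ℤ) :
    ∑ r : Fin n, (u - v * (if r = r₀ then 1 else 0)) = n * u - v := by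
  rw [Finset.sum_sub_distrib, ← Finset.mul_sum, Finset.sum_ite_eq']
  simp

theorem sum_fin_ind_mul {n : ℕ} (r₀ : Fin n) (u v c d : ℤ) :
    ∑ r : Fin n, (u - v * (if r = r₀ then 1 else 0)) * (c - d * (if r = r₀ then 1 else 0))
      = n * (u * c) - (u * d + v * c - v * d) := by
  have h1 : ∀ r : Fin n, (u - v * (if r = r₀ then 1 else 0)) * (c - d * (if r = r₀ then 1 else 0))
      = u * c - (u * d + v * c - v * d) * (if r = r₀ then 1 else 0) := by
    intro r; split_ifs <;> ring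
  simp only [h1]
  exact sum_fin_ind r₀ (u * c) (u * d + v * c - v * d)

theorem ExcSystem.final {𝕀 : Type*} [Fintype 𝕀] [DecidableEq 𝕀] {ι : Type*} [Fintype ι]
    [DecidableEq ι] [Nonempty ι]
    {conj' : 𝕀 → 𝕀} {one : 𝕀} {t : ι → ℕ} {en : ι → ℕ}
    {A : (i : ι) → Fin (t i) → 𝕀 → ℤ} {ε : ι → ℤ} {X : (i : ι) → Fin (t i) → 𝕀}
    {σ : (i : ι) → Fin (t i) → Fin (t i)}
    (h : ExcSystem conj' one t (fun i => (en i : ℤ)) A ε X σ)
    (he3 : ∀ i, 3 ≤ en i) (heodd : ∀ i, Odd (en i))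
    (hdist : ∀ i j, i ≠ j → t i * en i ≠ t j * en j)
    (g : ℚ) (hg : 0 < g)
    (hBessel : ∀ (Y : 𝕀) (k : (i : ι) → Fin (t i) → ℤ),
      (∀ i, 0 < excNorm (en i : ℤ) (k i)) →
      ∑ i, ((∑ r, k i r * A i r Y : ℤ) : ℚ) ^ 2 / (excNorm (en i : ℤ) (k i) : ℚ) + g ≤ 1)
    (hC : ∀ m, 1 - g - 1 / (en m : ℚ) < ∑ i ∈ univ.erase m, 1 / (en i : ℚ)) : False := by
  classical
  obtain ⟨m, -, hmin⟩ := Finset.exists_min_image (univ : Finset ι) en ⟨Classical.arbitrary ι, mem_univ _⟩
  have hmin' : ∀ i, en m ≤ en i := fun i => hmin i (mem_univ _)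
  have ht2 := h.two_le
  have r0 : ∀ i, 0 < t i := fun i => by have := ht2 i; omega
  set r₀ : Fin (t m) := ⟨0, r0 m⟩ with hr₀
  obtain ⟨cm, hcm⟩ := h.exists_self_coeff m
  have hcross : ∀ i, ∃ c : ℤ, i ≠ m → ∀ (r : Fin (t m)) (s : Fin (t i)), A m r (X i s) = c := by
    intro i
    by_cases him : i = m
    · exact ⟨0, fun h' => absurd him h'⟩
    · obtain ⟨c, hc⟩ := h.exists_cross_coeff him
      exact ⟨c, fun _ => hc⟩
  choose cq hcq using hcross
  set cz : ι → ℤ := fun i => A i ⟨0, r0 i⟩ (X m r₀) with hcz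
  have hczc : ∀ i, i ≠ m → ∀ r : Fin (t i), A i r (X m r₀) = cz i := by
    intro i him r
    exact h.const_off i (X m r₀) (fun r' => h.X_ne_of_ne (Ne.symm him) r₀ r') r ⟨0, r0 i⟩
  have hP : ∀ i, i ≠ m → cz i ≠ 0 ∨ cq i ≠ 0 := by
    intro i him
    have hodd := h.odd_cross him r₀ (⟨0, r0 i⟩ : Fin (t i))
    rw [hcq i him r₀ ⟨0, r0 i⟩] at hodd
    by_contra hcon
    push Not at hcon
    have : cq i + cz i = 0 := by rw [hcon.1, hcon.2]; rfl
    have hodd' : Odd (cq i + cz i) := hodd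
    rw [this] at hodd'
    exact absurd hodd' (by decide)
  -- κ ≥ 0
  have hεm := h.eps m
  have htm2 : (2 : ℤ) ≤ (t m : ℤ) := by exact_mod_cast ht2 m
  have hκ : 0 ≤ (t m : ℤ) * cm ^ 2 - 2 * ε m * cm := by
    rcases hεm with h1 | h1 <;> rw [h1]
    · rcases le_or_gt cm 0 with hc | hc
      · nlinarith [sq_nonneg cm]
      · nlinarith [sq_nonneg cm]
    · rcases le_or_gt 0 cm with hc | hc
      · nlinarith [sq_nonneg cm]
      · nlinarith [sq_nonneg cm]
  have hB : ∑ i ∈ univ.erase m, (t i : ℤ) * cq i ^ 2 ≤ (en m : ℤ) - 1 := by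
    have := h.norm_le m r₀ cm cq (fun s => hcm r₀ s) (fun i him s => hcq i him r₀ s)
    linarith
  -- the Bessel inequality with the chosen test vectors
  set a : ℤ := (t m : ℤ) * (en m : ℤ) + 1 with ha
  set u : ℤ := cm + ε m * (en m : ℤ) with hu
  set v : ℤ := ε m * a with hv
  set k : (i : ι) → Fin (t i) → ℤ := fun i r =>
    if i = m then u - v * (if (r : ℕ) = 0 then 1 else 0) else 1 with hk
  have hεsq := h.eps_sq m
  have hkm : k m = fun r : Fin (t m) => u - v * (if r = r₀ then 1 else 0) := by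
    funext r
    simp only [hk, if_true]
    have : ((r : ℕ) = 0) ↔ r = r₀ := by
      rw [hr₀, Fin.ext_iff]
    simp only [this]
  have hki : ∀ i, i ≠ m → k i = fun _ => (1 : ℤ) := by
    intro i him
    funext r
    simp only [hk, if_neg him]
  set κ : ℤ := (t m : ℤ) * cm ^ 2 - 2 * ε m * cm with hκdef
  have hem3 : (3 : ℤ) ≤ (en m : ℤ) := by exact_mod_cast he3 m
  have hnormm : excNorm (en m : ℤ) (k m) = a * (κ + a - en m) := by
    rw [excNorm_eq, hkm, sum_fin_ind]
    have h2 : ∀ r : Fin (t m), (u - v * (if r = r₀ then 1 else 0)) ^ 2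
        = (u - v * (if r = r₀ then 1 else 0)) * (u - v * (if r = r₀ then 1 else 0)) := fun r => sq _
    simp only [h2]
    rw [sum_fin_ind_mul]
    have e1 : ε m * ε m = 1 := hεsq
    rw [hv, hu, hκdef, ha]
    have e2 : ε m ^ 2 = 1 := by rw [sq]; exact e1
    ring_nf
    rw [e2]
    ring
  have hinm : ∑ r, k m r * A m r (X m r₀) = κ + a - en m := by
    rw [hkm]
    have h2 : ∀ r : Fin (t m), (u - v * (if r = r₀ then 1 else 0)) * A m r (X m r₀)
        = (u - v * (if r = r₀ then 1 else 0)) * (cm - ε m * (if r = r₀ then 1 else 0)) := by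
      intro r; rw [hcm r r₀]
    simp only [h2]
    rw [sum_fin_ind_mul]
    have e1 : ε m * ε m = 1 := hεsq
    have e2 : ε m ^ 2 = 1 := by rw [sq]; exact e1
    rw [hv, hu, hκdef, ha]
    ring_nf
    rw [e2]
    ring
  have hapos : 0 < a := by rw [ha]; positivity
  have hκa : 0 < κ + a - en m := by
    have : (en m : ℤ) ≤ (t m : ℤ) * (en m : ℤ) := by nlinarith
    rw [ha]; linarith
  have hnormi : ∀ i, i ≠ m → excNorm (en i : ℤ) (k i) = (t i : ℤ) * ((t i : ℤ) * en i + 1) := by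
    intro i him
    rw [hki i him, excNorm_const_one]
    ring
  have hini : ∀ i, i ≠ m → ∑ r, k i r * A i r (X m r₀) = (t i : ℤ) * cz i := by
    intro i him
    rw [hki i him]
    simp only [one_mul]
    rw [Finset.sum_congr rfl (fun r _ => hczc i him r)]
    simp
  have hpos : ∀ i, 0 < excNorm (en i : ℤ) (k i) := by
    intro i
    by_cases him : i = m
    · subst him
      rw [hnormm]
      exact mul_pos hapos hκa
    · rw [hnormi i him]
      have : 0 < (t i : ℤ) := by exact_mod_cast r0 i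
      positivity
  have hbes := hBessel (X m r₀) k hpos
  rw [← Finset.add_sum_erase univ _ (mem_univ m)] at hbes
  rw [hnormm, hinm] at hbes
  have hsum : ∑ i ∈ univ.erase m, ((∑ r, k i r * A i r (X m r₀) : ℤ) : ℚ) ^ 2 /
        (excNorm (en i : ℤ) (k i) : ℚ)
      = ∑ i ∈ univ.erase m, (t i : ℚ) * (cz i : ℚ) ^ 2 / ((t i : ℚ) * en i + 1) := by
    refine Finset.sum_congr rfl ?_
    intro i hi
    have him : i ≠ m := Finset.ne_of_mem_erase hi
    rw [hnormi i him, hini i him]
    have htq : (0 : ℚ) < (t i : ℚ) := by exact_mod_cast r0 i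
    have heq : (0 : ℚ) ≤ (en i : ℚ) := by positivity
    push_cast
    field_simp
  rw [hsum] at hbes
  have haq : (0 : ℚ) < (a : ℚ) := by exact_mod_cast hapos
  have hκaq : (0 : ℚ) < ((κ + a - en m : ℤ) : ℚ) := by exact_mod_cast hκa
  have hterm : ((κ + a - en m : ℤ) : ℚ) ^ 2 / ((a * (κ + a - en m) : ℤ) : ℚ)
      = ((κ + a - en m : ℤ) : ℚ) / (a : ℚ) := by
    push_cast
    push_cast at hκaq
    field_simp
  rw [hterm] at hbes
  have hκq : (0 : ℚ) ≤ (κ : ℚ) := by exact_mod_cast hκ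
  have hA : ∑ i ∈ univ.erase m, (t i : ℚ) * (cz i : ℚ) ^ 2 / ((t i : ℚ) * en i + 1) + g
      ≤ (en m : ℚ) / ((t m : ℚ) * en m + 1) := by
    have haeq : (a : ℚ) = (t m : ℚ) * en m + 1 := by rw [ha]; push_cast; ring
    rw [← haeq]
    have h3 : ((κ + a - en m : ℤ) : ℚ) / (a : ℚ) = 1 - ((en m : ℚ) - κ) / a := by
      push_cast
      field_simp
      ring
    rw [h3] at hbes
    have h4 : ((en m : ℚ) - κ) / a ≤ (en m : ℚ) / a := by
      apply div_le_div_of_nonneg_right _ haq.le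
      linarith
    linarith
  exact p71_num_final m t en cz cq g (he3 m) hmin' ht2 h.even heodd hdist hg hP hA hB (hC m)

end Cfsg.Agent.Helper3
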