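import Mathlib
import Cfsg.Agent.Helper3.Exceptional

/-!
# Exceptional characters from Gram data (abstract form)

`exceptional_of_gram`: a family of characters `F i` of `G` of equal degree whose differences have
the Gram matrix of a family of differences of orthonormal vectors is, up to a common sign, a
family of differences of distinct irreducible characters.
-/

set_option autoImplicit false

namespace Cfsg.Agent.Helper3

open scoped ComplexConjugate

/-- **Exceptional characters, abstract form.** -/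
theorem exceptional_of_gram {G : Type*} [Group G] [Fintype G] (n : ℕ) (hn : 2 ≤ n)
    (F : Fin n → (G → ℂ)) (hchar : ∀ i, Cfsg.IsCharacter G (F i))
    (hinner : ∀ k l : Fin n, Cfsg.classInner (F k - F ⟨0, by omega⟩) (F l - F ⟨0, by omega⟩)
      = (if k = l then 1 else 0) - (if k = (⟨0, by omega⟩ : Fin n) then 1 else 0)
        - (if (⟨0, by omega⟩ : Fin n) = l then 1 else 0) + 1)
    (hdeg : ∀ i j, F i 1 = F j 1) :
    ∃ ε : ℂ, (ε = 1 ∨ ε = -1) ∧ ∃ θ : Fin n → Cfsg.IrrCharacter G,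
      Function.Injective θ ∧ ∀ i j, F i - F j = ε • ((θ i : G → ℂ) - (θ j : G → ℂ)) := by
  classical
  set i0 : Fin n := ⟨0, by omega⟩ with hi0
  have hcl : ∀ i, Cfsg.IsClassFunction G (F i) := fun i =>
    Cfsg.Agent.Helper79.isCharacter_isClassFunction (hchar i)
  have hex : ∀ k : Fin n, ∃ X Y : Cfsg.IrrCharacter G, k ≠ i0 →
      (X ≠ Y ∧ F k - F i0 = (X : G → ℂ) - (Y : G → ℂ)) := by
    intro k
    by_cases hk : k = i0
    · exact ⟨⟨_, Cfsg.Agent.Helper79.isIrrCharacter_one⟩, ⟨_, Cfsg.Agent.Helper79.isIrrCharacter_one⟩,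
        fun h => absurd hk h⟩
    · have h := exists_irr_sub_of_norm_two (F k - F i0) ?_ ?_ ?_ ?_
      · obtain ⟨X, Y, h1, h2⟩ := h
        exact ⟨X, Y, fun _ => ⟨h1, h2⟩⟩
      · intro g h
        show F k (h * g * h⁻¹) - F i0 (h * g * h⁻¹) = F k g - F i0 g
        rw [hcl k g h, hcl i0 g h]
      · intro θ
        obtain ⟨a, ha⟩ := classInner_isCharacter_nat (hchar k) (Cfsg.Agent.Helper79.irr_isCharacter θ)
        obtain ⟨b, hb⟩ := classInner_isCharacter_nat (hchar i0) (Cfsg.Agent.Helper79.irr_isCharacter θ)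
        refine ⟨(a : ℤ) - (b : ℤ), ?_⟩
        rw [classInner_sub_left, ha, hb]
        push_cast
        ring
      · rw [hinner k k, if_pos rfl, if_neg hk, if_neg (show ¬ i0 = k from fun h => hk h.symm)]
        norm_num
      · show F k 1 - F i0 1 = 0
        rw [hdeg k i0, sub_self]
  choose X Y hXYF using hex
  have hXY : ∀ k : Fin n, k ≠ i0 → X k ≠ Y k := fun k hk => (hXYF k hk).1
  have hF : ∀ k : Fin n, k ≠ i0 → F k - F i0 = (X k : G → ℂ) - (Y k : G → ℂ) :=
    fun k hk => (hXYF k hk).2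
  have hP : ∀ k l : Fin n, k ≠ i0 → l ≠ i0 → k ≠ l →
      (X k = X l ∧ Y k ≠ Y l) ∨ (X k ≠ X l ∧ Y k = Y l) := by
    intro k l hk hl hkl
    have h := hinner k l
    rw [hF k hk, hF l hl, classInner_sub_sub, classInner_irr, classInner_irr, classInner_irr,
      classInner_irr, if_neg hkl, if_neg hk, if_neg (show ¬ i0 = l from fun h => hl h.symm)] at h
    have hk' := hXY k hk
    have hl' := hXY l hl
    by_cases h1 : X k = X l <;> by_cases h2 : Y k = Y l
    · exfalso
      have h3 : X k ≠ Y l := fun h => hk' (h.trans h2.symm)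
      have h4 : Y k ≠ X l := fun h => hk' (h1.trans h.symm)
      rw [if_pos h1, if_pos h2, if_neg h3, if_neg h4] at h
      norm_num at h
    · exact Or.inl ⟨h1, h2⟩
    · exact Or.inr ⟨h1, h2⟩
    · exfalso
      rw [if_neg h1, if_neg h2] at h
      by_cases h3 : X k = Y l <;> by_cases h4 : Y k = X l
      · rw [if_pos h3, if_pos h4] at h; norm_num at h
      · rw [if_pos h3, if_neg h4] at h; norm_num at h
      · rw [if_neg h3, if_pos h4] at h; norm_num at h
      · rw [if_neg h3, if_neg h4] at h; norm_num at h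
  have hdiff : ∀ i j : Fin n, F i - F j = (F i - F i0) - (F j - F i0) := by
    intro i j
    abel
  rcases coherent_choice hn X Y hXY hP with ⟨Θ, hΘinj, hΘ⟩ | ⟨Θ, hΘinj, hΘ⟩
  · replace hΘ : ∀ k : Fin n, k ≠ i0 → X k = Θ k ∧ Y k = Θ i0 := hΘ
    refine ⟨1, Or.inl rfl, Θ, hΘinj, ?_⟩
    intro i j
    rw [hdiff, one_smul]
    by_cases hi : i = i0 <;> by_cases hj : j = i0
    · rw [hi, hj]; simp
    · rw [hi, hF j hj, (hΘ j hj).1, (hΘ j hj).2]; simp
    · rw [hj, hF i hi, (hΘ i hi).1, (hΘ i hi).2]; simp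
    · rw [hF i hi, hF j hj, (hΘ i hi).1, (hΘ i hi).2, (hΘ j hj).1, (hΘ j hj).2]; simp
  · replace hΘ : ∀ k : Fin n, k ≠ i0 → Y k = Θ k ∧ X k = Θ i0 := hΘ
    refine ⟨-1, Or.inr rfl, Θ, hΘinj, ?_⟩
    intro i j
    rw [hdiff, neg_one_smul]
    by_cases hi : i = i0 <;> by_cases hj : j = i0
    · rw [hi, hj]; simp
    · rw [hi, hF j hj, (hΘ j hj).1, (hΘ j hj).2]; simp
    · rw [hj, hF i hi, (hΘ i hi).1, (hΘ i hi).2]; simp
    · rw [hF i hi, hF j hj, (hΘ i hi).1, (hΘ i hi).2, (hΘ j hj).1, (hΘ j hj).2]; simp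

end Cfsg.Agent.Helper3
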