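import Cfsg.Agent.Helper3.TIConj
import Cfsg.Agent.Helper3.ExcGram
import Cfsg.Agent.Helper3.Taketa
import Cfsg.Agent.Helper19.FpfConj

/-!
# Exceptional characters induced from a TI Frobenius kernel (linear characters only)

For a TI-subgroup `H` of a group `G` of odd order, with `N = N_G(H) > H` acting on `H` in the
Frobenius way, we choose representatives `f r` of the `N`-orbits on the non-trivial linear
characters of `H` and study the functions `α r = Ind (1 - f r)`.  `exists_tiData` collects what the
endgame of Peterfalvi (7.1) needs.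
-/

set_option autoImplicit false
set_option linter.style.haveILetI false

namespace Cfsg.Agent.Helper3

open scoped ComplexConjugate

universe u

variable {G : Type u} [Group G]

/-- The action of `N_G(H)` on the non-trivial linear characters of `H`. -/
@[reducible] def tiActNT (H : Subgroup G) :
    MulAction (Subgroup.normalizer (H : Set G)) {f : H →* ℂˣ // f ≠ 1} where
  smul x f := ⟨f.1.comp (tiConj H x), tiConj_comp_ne_one H x f.1 f.2⟩
  one_smul f := by
    apply Subtype.ext
    show f.1.comp (tiConj H 1) = f.1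
    rw [tiConj_one]; rfl
  mul_smul x y f := by
    apply Subtype.ext
    show f.1.comp (tiConj H (x * y)) = (f.1.comp (tiConj H y)).comp (tiConj H x)
    rw [tiConj_mul]; rfl

/-- Orbit representatives of `N_G(H)` on the non-trivial linear characters of `H`. -/
theorem exists_orbit_reps [Finite G] (H : Subgroup G)
    (hfrob : ∀ h ∈ H, h ≠ 1 →
      Subgroup.normalizer (H : Set G) ⊓ Subgroup.centralizer ({h} : Set G) ≤ H)
    (hHN : H ≤ Subgroup.normalizer (H : Set G)) :
    ∃ (t : ℕ) (f : Fin t → (H →* ℂˣ)),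
      (∀ r, f r ≠ 1) ∧
      (∀ r s, ∀ x : Subgroup.normalizer (H : Set G), (f s).comp (tiConj H x) = f r → r = s) ∧
      (∀ φ : H →* ℂˣ, φ ≠ 1 →
        ∃ r, ∃ x : Subgroup.normalizer (H : Set G), (f r).comp (tiConj H x) = φ) ∧
      t * (Nat.card (Subgroup.normalizer (H : Set G)) / Nat.card H) + 1
        = (commutator H).index := by
  classical
  letI := tiActNT H
  haveI : Finite (H →* ℂˣ) := Cfsg.Agent.Helper80.finite_hom
  haveI : Fintype {f : H →* ℂˣ // f ≠ 1} := Fintype.ofFinite _
  haveI : Fintype (Subgroup.normalizer (H : Set G)) := Fintype.ofFinite _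
  haveI : Fintype (Quotient (MulAction.orbitRel (Subgroup.normalizer (H : Set G))
      {f : H →* ℂˣ // f ≠ 1})) := Fintype.ofFinite _
  haveI : ∀ b : {f : H →* ℂˣ // f ≠ 1},
      Fintype (MulAction.stabilizer (Subgroup.normalizer (H : Set G)) b) :=
    fun b => Fintype.ofFinite _
  have hclass := MulAction.card_eq_sum_card_group_div_card_stabilizer
    (Subgroup.normalizer (H : Set G)) {f : H →* ℂˣ // f ≠ 1}
  have hstab : ∀ b : {f : H →* ℂˣ // f ≠ 1},
      Fintype.card (MulAction.stabilizer (Subgroup.normalizer (H : Set G)) b) = Nat.card H := by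
    intro b
    have e1 : MulAction.stabilizer (Subgroup.normalizer (H : Set G)) b
        = H.subgroupOf (Subgroup.normalizer (H : Set G)) := by
      ext x
      rw [MulAction.mem_stabilizer_iff, Subgroup.mem_subgroupOf]
      constructor
      · intro hx
        have : b.1.comp (tiConj H x) = b.1 := congrArg Subtype.val hx
        exact tiConj_stab H hfrob x b.1 b.2 this
      · intro hx
        apply Subtype.ext
        exact tiConj_comp_of_mem H x hx b.1
    rw [← Nat.card_eq_fintype_card, e1]
    exact Nat.card_congr (Subgroup.subgroupOfEquivOfLe hHN).toEquiv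
  simp only [hstab] at hclass
  rw [Finset.sum_const, Finset.card_univ, smul_eq_mul, ← Nat.card_eq_fintype_card,
    ← Nat.card_eq_fintype_card, ← Nat.card_eq_fintype_card] at hclass
  have hΛ : Nat.card {f : H →* ℂˣ // f ≠ 1} + 1 = (commutator H).index := by
    rw [← Cfsg.Agent.Helper80.card_hom, ← Finite.card_option]
    exact Nat.card_congr (Equiv.optionSubtypeNe (1 : H →* ℂˣ))
  set eqv := Fintype.equivFin (Quotient (MulAction.orbitRel (Subgroup.normalizer (H : Set G))
      {f : H →* ℂˣ // f ≠ 1})) with heqv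
  refine ⟨Fintype.card (Quotient (MulAction.orbitRel (Subgroup.normalizer (H : Set G))
      {f : H →* ℂˣ // f ≠ 1})), fun r => ((eqv.symm r).out).1, ?_, ?_, ?_, ?_⟩
  · intro r
    exact ((eqv.symm r).out).2
  · intro r s x hx
    have h1 : x • (eqv.symm s).out = (eqv.symm r).out := Subtype.ext hx
    have h2 : (Quotient.mk'' (eqv.symm r).out : Quotient (MulAction.orbitRel
        (Subgroup.normalizer (H : Set G)) {f : H →* ℂˣ // f ≠ 1}))
        = Quotient.mk'' (eqv.symm s).out := by
      apply Quotient.sound'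
      show (MulAction.orbitRel _ _).r _ _
      rw [MulAction.orbitRel_apply]
      exact ⟨x, h1⟩
    rw [Quotient.out_eq', Quotient.out_eq'] at h2
    exact eqv.symm.injective h2
  · intro φ hφ
    set b : {f : H →* ℂˣ // f ≠ 1} := ⟨φ, hφ⟩ with hb
    refine ⟨eqv (Quotient.mk'' b), ?_⟩
    beta_reduce
    rw [Equiv.symm_apply_apply]
    have h1 : (MulAction.orbitRel (Subgroup.normalizer (H : Set G))
        {f : H →* ℂˣ // f ≠ 1}).r (Quotient.mk'' b : Quotient (MulAction.orbitRel
        (Subgroup.normalizer (H : Set G)) {f : H →* ℂˣ // f ≠ 1})).out b :=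
      Quotient.mk_out' b
    rw [MulAction.orbitRel_apply] at h1
    obtain ⟨y, hy⟩ := h1
    refine ⟨y⁻¹, ?_⟩
    have h2 : y⁻¹ • (Quotient.mk'' b : Quotient (MulAction.orbitRel
        (Subgroup.normalizer (H : Set G)) {f : H →* ℂˣ // f ≠ 1})).out = b := by
      rw [← hy, inv_smul_smul]
    exact congrArg Subtype.val h2
  · rw [← hΛ, hclass, Nat.card_eq_fintype_card (α := Quotient _)]

/-- The kernel of a Frobenius-type action is not perfect (Thompson). -/
theorem ti_commutator_index [Finite G] (H : Subgroup G) (hH1 : H ≠ ⊥)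
    (hfrob : ∀ h ∈ H, h ≠ 1 →
      Subgroup.normalizer (H : Set G) ⊓ Subgroup.centralizer ({h} : Set G) ≤ H)
    (hHN : H < Subgroup.normalizer (H : Set G)) : 2 ≤ (commutator H).index := by
  obtain ⟨x, hxN, hxH⟩ := SetLike.exists_of_lt hHN
  have hx1 : x ≠ 1 := fun h => hxH (h ▸ H.one_mem)
  obtain ⟨p, j, hp, hpow, hne⟩ := Cfsg.Agent.Helper19.exists_pow_prime_order hx1
  have hzN : x ^ j ∈ Subgroup.normalizer (H : Set G) := Subgroup.pow_mem _ hxN j
  have hcomm_pow : x ^ j * x = x * x ^ j := by
    rw [← pow_succ, ← pow_succ']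
  have hzH : x ^ j ∉ H := by
    intro hz
    apply hxH
    apply hfrob (x ^ j) hz hne
    refine ⟨hxN, ?_⟩
    show x ∈ Subgroup.centralizer ({x ^ j} : Set G)
    rw [Subgroup.mem_centralizer_iff]
    intro z hz'
    rw [Set.mem_singleton_iff] at hz'
    rw [hz']
    exact hcomm_pow
  have hnil : Group.IsNilpotent H := by
    apply Cfsg.Agent.Helper19.isNilpotent_of_fpf_conj H (x ^ j) hp
    · intro y hy
      exact (Subgroup.mem_normalizer_iff.mp hzN y).mp hy
    · exact hpow
    · rw [eq_bot_iff]
      intro y hy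
      rw [Subgroup.mem_bot]
      by_contra hy1
      apply hzH
      apply hfrob y hy.1 hy1
      refine ⟨hzN, ?_⟩
      show x ^ j ∈ Subgroup.centralizer ({y} : Set G)
      rw [Subgroup.mem_centralizer_iff]
      intro z hz'
      rw [Set.mem_singleton_iff] at hz'
      rw [hz']
      have h2 : y ∈ Subgroup.centralizer ({x ^ j} : Set G) := hy.2
      rw [Subgroup.mem_centralizer_iff] at h2
      exact (h2 (x ^ j) rfl).symm
  haveI : Nontrivial H := (Subgroup.nontrivial_iff_ne_bot H).mpr hH1
  have hlt := Group.IsSolvable.commutator_lt_top_of_nontrivial H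
  have h1 : (commutator H).index ≠ 1 := fun h => hlt.ne (Subgroup.index_eq_one.mp h)
  have h0 : (commutator H).index ≠ 0 := Subgroup.index_ne_zero_of_finite
  omega

open Classical in
/-- Counting the elements of a subgroup inside a larger subgroup. -/
theorem sum_ite_mem_of_le (H N : Subgroup G) [Fintype N] (hHN : H ≤ N) :
    ∑ x : N, (if (x : G) ∈ H then (1 : ℂ) else 0) = (Nat.card H : ℂ) := by
  rw [Finset.sum_boole, ← Fintype.card_subtype]
  congr 1
  rw [← Nat.card_eq_fintype_card]
  exact Nat.card_congr (Subgroup.subgroupOfEquivOfLe hHN).toEquiv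

/-- The complex conjugate of a linear character is its inverse. -/
theorem conj_hom_apply {H : Type*} [Group H] [Finite H] (f : H →* ℂˣ) (h : H) :
    conj ((f h : ℂˣ) : ℂ) = (((f⁻¹ : H →* ℂˣ) h : ℂˣ) : ℂ) := by
  have h1 : ((f h : ℂˣ) : ℂ) ^ Nat.card H = 1 := by
    rw [← Units.val_pow_eq_pow_val, ← map_pow, pow_card_eq_one', map_one, Units.val_one]
  have h2 : ‖((f h : ℂˣ) : ℂ)‖ = 1 := Complex.norm_eq_one_of_pow_eq_one h1 Nat.card_pos.ne'
  rw [MonoidHom.inv_apply, Units.val_inv_eq_inv_val, Complex.inv_eq_conj h2]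

/-- The data attached to one TI Frobenius kernel `H` in the endgame of Peterfalvi (7.1):
`t` functions `α r` (induced from `1 - f r` for orbit representatives `f r` of the non-trivial
linear characters of `H`), with Gram matrix `e + δ`, supported on the conjugates of `H \ {1}`,
differences `± (X s - X r)` of irreducible characters, closed under complex conjugation. -/
structure TIData {G : Type u} [Group G] [Fintype G] (H : Subgroup G) (t e : ℕ)
    (α : Fin t → G → ℂ) (ε : ℤ) (X : Fin t → Cfsg.IrrCharacter G) (σ : Fin t → Fin t) :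
    Prop where
  card_norm : Nat.card (Subgroup.normalizer (H : Set G)) = e * Nat.card H
  three_le : 3 ≤ e
  odd_e : Odd e
  dvd : (t * e + 1) ∣ Nat.card H
  two_le : 2 ≤ t
  even_t : Even t
  supp : ∀ r g, α r g ≠ 0 → g ≠ 1 ∧ ∃ y : G, y * g * y⁻¹ ∈ H
  int : ∀ r (Y : Cfsg.IrrCharacter G), ∃ n : ℤ, Cfsg.classInner (α r) (Y : G → ℂ) = (n : ℂ)
  cls : ∀ r, Cfsg.IsClassFunction G (α r)
  gram : ∀ r s, Cfsg.classInner (α r) (α s) = (e : ℂ) + if r = s then 1 else 0
  triv : ∀ r, Cfsg.classInner (α r) (fun _ => (1 : ℂ)) = 1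
  eps : ε = 1 ∨ ε = -1
  inj : Function.Injective X
  diff : ∀ r s, α r - α s = (ε : ℂ) • ((X s : G → ℂ) - (X r : G → ℂ))
  cconj : ∀ r g, conj (α r g) = α (σ r) g

theorem exists_tiData [Fintype G] (hodd : Odd (Nat.card G)) (H : Subgroup G) (hH1 : H ≠ ⊥)
    (hHN : H < Subgroup.normalizer (H : Set G)) (hTI : Cfsg.IsTISubset (H : Set G))
    (hfrob : ∀ h ∈ H, h ≠ 1 →
      Subgroup.normalizer (H : Set G) ⊓ Subgroup.centralizer ({h} : Set G) ≤ H) :
    ∃ (t e : ℕ) (α : Fin t → G → ℂ) (ε : ℤ) (X : Fin t → Cfsg.IrrCharacter G)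
      (σ : Fin t → Fin t), TIData H t e α ε X σ := by
  classical
  haveI : Fintype H := Fintype.ofFinite _
  haveI : Fintype (Subgroup.normalizer (H : Set G)) := Fintype.ofFinite _
  obtain ⟨t, f, hf1, hfdist, hfcov, hcount⟩ := exists_orbit_reps H hfrob hHN.le
  have hdvdHN : Nat.card H ∣ Nat.card (Subgroup.normalizer (H : Set G)) :=
    Subgroup.card_dvd_of_le hHN.le
  set e := Nat.card (Subgroup.normalizer (H : Set G)) / Nat.card H with he
  have hcardN : Nat.card (Subgroup.normalizer (H : Set G)) = e * Nat.card H :=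
    (Nat.div_mul_cancel hdvdHN).symm
  have hHpos : 0 < Nat.card H := Nat.card_pos
  have hNG : Nat.card (Subgroup.normalizer (H : Set G)) ∣ Nat.card G :=
    Subgroup.card_subgroup_dvd_card _
  have hoddN : Odd (Nat.card (Subgroup.normalizer (H : Set G))) := hodd.of_dvd_nat hNG
  have hodde : Odd e := hoddN.of_dvd_nat (Dvd.intro _ hcardN.symm)
  have hoddH : Odd (Nat.card H) := hoddN.of_dvd_nat hdvdHN
  have he2 : 2 ≤ e := by
    by_contra hcon
    have h1 : e ≤ 1 := by omega
    have h2 : Nat.card (Subgroup.normalizer (H : Set G)) ≤ Nat.card H := by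
      rw [hcardN]
      calc e * Nat.card H ≤ 1 * Nat.card H := Nat.mul_le_mul_right _ h1
        _ = Nat.card H := one_mul _
    exact hHN.ne (Subgroup.eq_of_le_of_card_ge hHN.le h2)
  have he3 : 3 ≤ e := by
    obtain ⟨k, hk⟩ := hodde
    omega
  have ha2 := ti_commutator_index H hH1 hfrob hHN
  have hadvd : (commutator H).index ∣ Nat.card H := Subgroup.index_dvd_card _
  have haodd : Odd (t * e + 1) := by rw [hcount]; exact hoddH.of_dvd_nat hadvd
  have hteven : Even t := by
    have h1 : Even (t * e) := by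
      obtain ⟨k, hk⟩ := haodd
      exact ⟨k, by omega⟩
    rcases Nat.even_mul.mp h1 with h | h
    · exact h
    · exact absurd h (Nat.not_even_iff_odd.mpr hodde)
  have ht2 : 2 ≤ t := by
    have ht1 : t ≠ 0 := by
      rintro rfl
      omega
    obtain ⟨k, hk⟩ := hteven
    omega
  -- the functions
  set one : G → ℂ := Cfsg.indFun H (fun _ => (1 : ℂ)) with hone
  set Fc : Fin t → G → ℂ := fun r => Cfsg.indFun H (fun h => ((f r h : ℂˣ) : ℂ)) with hFc
  set α : Fin t → G → ℂ := fun r => Cfsg.indFun H (fun h => 1 - ((f r h : ℂˣ) : ℂ)) with hα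
  have hαeq : ∀ r, α r = one - Fc r := fun r =>
    indFun_sub H (fun _ => (1 : ℂ)) (fun h => ((f r h : ℂˣ) : ℂ))
  have honechar : Cfsg.IsCharacter G one :=
    isCharacter_indFun H _ (Cfsg.Agent.Helper79.isCharacter_of_irr
      (Cfsg.Agent.Helper79.isIrrCharacter_one))
  have hFchar : ∀ r, Cfsg.IsCharacter G (Fc r) := fun r =>
    isCharacter_indFun H _ (Cfsg.Agent.Helper79.isCharacter_of_irr
      (Cfsg.Agent.Helper79.isIrrCharacter_of_hom (f r)))
  have hHc : (Nat.card H : ℂ) ≠ 0 := by exact_mod_cast hHpos.ne'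
  -- Gram matrix
  have hgram : ∀ r s, Cfsg.classInner (α r) (α s) = (e : ℂ) + if r = s then 1 else 0 := by
    intro r s
    have h0 : (fun h : H => 1 - ((f r h : ℂˣ) : ℂ)) 1 = 0 := by simp
    rw [hα]
    beta_reduce
    rw [classInner_indFun_TI_sub H hTI _ _ h0]
    have hterm : ∀ x : Subgroup.normalizer (H : Set G),
        Cfsg.classInner (fun h : H => 1 - ((f r h : ℂˣ) : ℂ))
          (fun h : H => 1 - ((f s (tiConj H x h) : ℂˣ) : ℂ))
        = 1 + if f r = (f s).comp (tiConj H x) then 1 else 0 :=
      fun x => classInner_one_sub_hom (f r) ((f s).comp (tiConj H x)) (hf1 r)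
        (tiConj_comp_ne_one H x (f s) (hf1 s))
    simp only [hterm]
    rw [Finset.sum_add_distrib, Finset.sum_const, Finset.card_univ, nsmul_eq_mul, mul_one,
      ← Nat.card_eq_fintype_card, hcardN]
    by_cases hrs : r = s
    · subst hrs
      rw [if_pos rfl]
      have h2 : ∀ x : Subgroup.normalizer (H : Set G),
          (if f r = (f r).comp (tiConj H x) then (1 : ℂ) else 0)
            = if (x : G) ∈ H then 1 else 0 := by
        intro x
        by_cases hx : (x : G) ∈ H
        · rw [if_pos hx, if_pos (tiConj_comp_of_mem H x hx (f r)).symm]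
        · rw [if_neg hx, if_neg]
          intro h3
          exact hx (tiConj_stab H hfrob x (f r) (hf1 r) h3.symm)
      simp only [h2]
      rw [sum_ite_mem_of_le H _ hHN.le]
      push_cast
      field_simp
    · rw [if_neg hrs]
      have h2 : ∀ x : Subgroup.normalizer (H : Set G),
          (if f r = (f s).comp (tiConj H x) then (1 : ℂ) else 0) = 0 := by
        intro x
        rw [if_neg]
        intro h3
        exact hrs (hfdist r s x h3.symm)
      simp only [h2, Finset.sum_const_zero]
      push_cast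
      field_simp
      ring
  -- inner product with the trivial character
  have htriv : ∀ r, Cfsg.classInner (α r) (fun _ => (1 : ℂ)) = 1 := by
    intro r
    have hcl : Cfsg.IsClassFunction G (fun _ : G => (1 : ℂ)) := fun _ _ => rfl
    rw [hα]
    beta_reduce
    rw [frobenius_reciprocity H _ _ hcl]
    have o := Cfsg.Agent.Helper80.hom_orthogonality (f r) (1 : H →* ℂˣ)
    rw [if_neg (hf1 r)] at o
    simp only [MonoidHom.one_apply, Units.val_one, map_one, mul_one] at o
    unfold Cfsg.classInner
    simp only [map_one, mul_one]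
    rw [Finset.sum_sub_distrib, o, Finset.sum_const, Finset.card_univ, nsmul_eq_mul, mul_one,
      ← Nat.card_eq_fintype_card, sub_zero]
    field_simp
  -- support
  have hsupp : ∀ r g, α r g ≠ 0 → g ≠ 1 ∧ ∃ y : G, y * g * y⁻¹ ∈ H := by
    intro r g hg
    constructor
    · rintro rfl
      apply hg
      rw [hα]
      exact indFun_apply_one_of_zero H _ (by simp)
    · by_contra hcon
      push Not at hcon
      apply hg
      rw [hα]
      exact indFun_eq_zero_of_not_conj H _ g hcon
  -- integrality
  have hint : ∀ r (Y : Cfsg.IrrCharacter G),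
      ∃ n : ℤ, Cfsg.classInner (α r) (Y : G → ℂ) = (n : ℂ) := by
    intro r Y
    obtain ⟨n1, hn1⟩ := classInner_isCharacter_nat honechar
      (Cfsg.Agent.Helper79.isCharacter_of_irr Y.2)
    obtain ⟨n2, hn2⟩ := classInner_isCharacter_nat (hFchar r)
      (Cfsg.Agent.Helper79.isCharacter_of_irr Y.2)
    refine ⟨(n1 : ℤ) - n2, ?_⟩
    rw [hαeq, classInner_sub_left, hn1, hn2]
    push_cast
    ring
  -- exceptional characters
  have hinner : ∀ k l : Fin t, Cfsg.classInner (Fc k - Fc ⟨0, by omega⟩) (Fc l - Fc ⟨0, by omega⟩)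
      = (if k = l then 1 else 0) - (if k = (⟨0, by omega⟩ : Fin t) then 1 else 0)
        - (if (⟨0, by omega⟩ : Fin t) = l then 1 else 0) + 1 := by
    intro k l
    have e1 : ∀ k : Fin t, Fc k - Fc ⟨0, by omega⟩ = α ⟨0, by omega⟩ - α k := by
      intro k
      rw [hαeq, hαeq]
      abel
    rw [e1 k, e1 l, classInner_sub_sub, hgram, hgram, hgram, hgram, if_pos rfl]
    ring
  have hdeg : ∀ i j, Fc i 1 = Fc j 1 := by
    intro i j
    rw [hFc]
    beta_reduce
    rw [indFun_apply_one, indFun_apply_one]
    simp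
  obtain ⟨εc, hεc, θ, hθinj, hθ⟩ := exceptional_of_gram t ht2 Fc hFchar hinner hdeg
  -- conjugation
  have hconj : ∀ r, ∃ s, ∀ g, conj (α r g) = α s g := by
    intro r
    have hne : (f r)⁻¹ ≠ 1 := by
      intro h
      apply hf1 r
      ext h'
      have h3 := congrArg (fun φ : H →* ℂˣ => φ h') h
      simpa [MonoidHom.inv_apply] using h3
    obtain ⟨s, x, hsx⟩ := hfcov (f r)⁻¹ hne
    refine ⟨s, fun g => ?_⟩
    rw [hα]
    beta_reduce
    rw [conj_indFun, ← indFun_tiConj H x (fun h => 1 - ((f s h : ℂˣ) : ℂ))]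
    congr 2
    funext h
    rw [map_sub, map_one, conj_hom_apply, ← hsx]
    rfl
  choose σ hσ using hconj
  refine ⟨t, e, α, if εc = 1 then 1 else -1, θ, σ, ?_⟩
  have hεcast : (((if εc = 1 then 1 else -1 : ℤ)) : ℂ) = εc := by
    rcases hεc with h | h
    · rw [if_pos h, h]; simp
    · rw [if_neg (by rw [h]; norm_num), h]; simp
  exact
    { card_norm := hcardN
      three_le := he3
      odd_e := hodde
      dvd := by rw [hcount]; exact hadvd
      two_le := ht2
      even_t := hteven
      supp := hsupp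
      int := hint
      cls := fun r => indFun_isClassFunction H _
      gram := hgram
      triv := htriv
      eps := by split_ifs <;> simp
      inj := hθinj
      diff := by
        intro r s
        rw [hεcast, ← hθ s r, hαeq, hαeq]
        abel
      cconj := hσ }

end Cfsg.Agent.Helper3
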