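import Cfsg.Agent.Helper1.CNOdd
import Cfsg.Agent.Helper25.CN2
import Cfsg.Agent.Helper25.Frob
import Cfsg.Agent.S1477
import Cfsg.Agent.S1473
import Cfsg.Agent.Helper11.FrobThm
import Cfsg.Agent.S1526
import Cfsg.Agent.S1527

/-!
# The CN-theorem for odd order (Feit–Hall–Thompson): final assembly

* `cn_sylow_ti`: in a minimal simple CN-group of odd order distinct Sylow `p`-subgroups meet
  trivially (from helper1's `cnodd_no_bad_subgroup` and a maximal Sylow intersection).
* `cn_maxNilp_ti`: maximal nilpotent subgroups are TI.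
* `cn_minSimple_false`: there is no minimal simple CN-group of odd order (via S1526).
* `cn_solvable`: CN-groups of odd order are solvable.
-/

set_option autoImplicit false
set_option linter.style.haveILetI false

namespace Cfsg.Agent.Helper3

open Cfsg.Agent.Helper25
open scoped commutatorElement

universe u

theorem mem_normalizer_of_map_conj_eq {G : Type*} [Group G] {H : Subgroup G} {g : G}
    (h : H.map (MulAut.conj g).toMonoidHom = H) : g ∈ Subgroup.normalizer (H : Set G) := by
  rw [Subgroup.mem_normalizer_iff]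
  intro x
  constructor
  · intro hx
    rw [← h]
    exact conj_mem_map_conj' g hx
  · intro hx
    rw [← h, mem_map_conj_iff'] at hx
    have e : g⁻¹ * (g * x * g⁻¹) * g = x := by group
    rw [e] at hx
    exact hx

theorem card_lt_card_of_lt' {G : Type*} [Group G] [Finite G] {H K : Subgroup G} (h : H < K) :
    Nat.card H < Nat.card K := by
  by_contra hcon
  push Not at hcon
  exact h.ne (Subgroup.eq_of_le_of_card_ge h.le hcon)

/-- In a minimal simple CN-group of odd order, distinct Sylow `p`-subgroups meet trivially. -/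
theorem cn_sylow_ti {G : Type u} [Group G] [Finite G] (hG : Cfsg.IsMinSimpleOddOrder G)
    (hCN : Cfsg.IsCNGroup G) (p : ℕ) [Fact p.Prime] (P₁ P₂ : Sylow p G) (hne : P₁ ≠ P₂) :
    (P₁ : Subgroup G) ⊓ (P₂ : Subgroup G) = ⊥ := by
  by_contra hD0
  have hne' : {q : Sylow p G × Sylow p G | q.1 ≠ q.2}.Nonempty := ⟨(P₁, P₂), hne⟩
  obtain ⟨⟨Q₁, Q₂⟩, hQne, hmax⟩ := Set.exists_max_image _
    (fun q : Sylow p G × Sylow p G =>
      Nat.card ((q.1 : Subgroup G) ⊓ (q.2 : Subgroup G) : Subgroup G)) (Set.toFinite _) hne'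
  have hQne' : Q₁ ≠ Q₂ := hQne
  set D : Subgroup G := (Q₁ : Subgroup G) ⊓ (Q₂ : Subgroup G) with hDdef
  have hD1 : D ≠ ⊥ := by
    have h1 : 1 < Nat.card ((P₁ : Subgroup G) ⊓ (P₂ : Subgroup G) : Subgroup G) :=
      (Subgroup.one_lt_card_iff_ne_bot _).mpr hD0
    have h2 := hmax (P₁, P₂) hne
    have h3 : 1 < Nat.card D := lt_of_lt_of_le h1 h2
    exact (Subgroup.one_lt_card_iff_ne_bot _).mp h3
  have hDp : IsPGroup p D := Q₁.isPGroup'.to_le inf_le_left
  have hDlt₁ : D < (Q₁ : Subgroup G) := by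
    refine lt_of_le_of_ne inf_le_left ?_
    intro h
    apply hQne'
    have hle : (Q₁ : Subgroup G) ≤ Q₂ := by rw [← h]; exact inf_le_right
    exact Sylow.ext (Q₁.is_maximal' Q₂.isPGroup' hle).symm
  have hDlt₂ : D < (Q₂ : Subgroup G) := by
    refine lt_of_le_of_ne inf_le_right ?_
    intro h
    apply hQne'
    have hle : (Q₂ : Subgroup G) ≤ Q₁ := by rw [← h]; exact inf_le_left
    exact Sylow.ext (Q₂.is_maximal' Q₁.isPGroup' hle)
  set L : Subgroup G := Subgroup.normalizer (D : Set G) with hLdef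
  obtain ⟨hodd, hsimp, hnc, hsolv⟩ := id hG
  haveI := hsimp
  have hLtop : L ≠ ⊤ := by
    intro h
    have hDn : D.Normal := Subgroup.normalizer_eq_top_iff.mp h
    rcases hDn.eq_bot_or_eq_top with h1 | h1
    · exact hD1 h1
    · rw [h1] at hDlt₁
      exact not_top_lt hDlt₁
  have hDL : D ≤ L := Subgroup.le_normalizer
  have hcore : Cfsg.pCore p ↥L ≠ ⊥ := by
    intro hbot
    have hn : (D.subgroupOf L).Normal := Subgroup.normal_in_normalizer
    have hle := Cfsg.Agent.Helper1.le_pCore' hn (hDp.comap_subtype (K := L))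
    rw [hbot, le_bot_iff, Subgroup.subgroupOf_eq_bot] at hle
    have : D ≤ ⊥ := hle le_rfl hDL
    exact hD1 (le_bot_iff.mp this)
  obtain ⟨T⟩ : Nonempty (Sylow p ↥L) := inferInstance
  have hTn := Cfsg.Agent.Helper1.cnodd_no_bad_subgroup hG hCN p L hLtop hcore T
  haveI := Sylow.unique_of_normal T hTn
  have hall : ∀ Q : Subgroup G, IsPGroup p Q → Q ≤ L → Q ≤ (T : Subgroup ↥L).map L.subtype := by
    intro Q hQ hQL x hx
    obtain ⟨T', hT'⟩ := (hQ.comap_subtype (K := L)).exists_le_sylow
    rw [Subsingleton.elim T' T] at hT'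
    exact ⟨⟨x, hQL hx⟩, hT' (Subgroup.mem_subgroupOf.mpr hx), rfl⟩
  obtain ⟨R, hR⟩ := (T.isPGroup'.map L.subtype).exists_le_sylow
  have key : ∀ Q : Sylow p G, D < (Q : Subgroup G) →
      Nat.card ((R : Subgroup G) ⊓ (Q : Subgroup G) : Subgroup G) ≤ Nat.card D → False := by
    intro Q hDQ hcard
    obtain ⟨x, hxQ, hxn, hxD⟩ :=
      Cfsg.Agent.Helper11.exists_mem_normalizer_not_mem_of_lt_pGroup Q.isPGroup' hDQ
    have hNp : IsPGroup p ((Q : Subgroup G) ⊓ L : Subgroup G) := Q.isPGroup'.to_le inf_le_left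
    have hNR : (Q : Subgroup G) ⊓ L ≤ (R : Subgroup G) := (hall _ hNp inf_le_right).trans hR
    have hDle : D ≤ (R : Subgroup G) ⊓ (Q : Subgroup G) :=
      le_inf ((le_inf hDQ.le hDL).trans hNR) hDQ.le
    have hxRQ : x ∈ (R : Subgroup G) ⊓ (Q : Subgroup G) := ⟨hNR ⟨hxQ, hxn⟩, hxQ⟩
    have hlt : D < (R : Subgroup G) ⊓ (Q : Subgroup G) :=
      lt_of_le_of_ne hDle (fun h => hxD (h ▸ hxRQ))
    exact absurd (card_lt_card_of_lt' hlt) (not_lt.mpr hcard)
  have hR1 : R = Q₁ := by
    by_contra h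
    exact key Q₁ hDlt₁ (hmax (R, Q₁) h)
  have hR2 : R = Q₂ := by
    by_contra h
    exact key Q₂ hDlt₂ (hmax (R, Q₂) h)
  exact hQne' (hR1.symm.trans hR2)

/-- In a minimal simple CN-group of odd order, maximal nilpotent subgroups are TI. -/
theorem cn_maxNilp_ti {G : Type u} [Group G] [Finite G] (hG : Cfsg.IsMinSimpleOddOrder G)
    (hCN : Cfsg.IsCNGroup G) (H : Subgroup G) (hH : IsMaxNilp H) (hH1 : H ≠ ⊥) :
    ∀ g : G, H.map (MulAut.conj g).toMonoidHom ≠ H →
      H ⊓ H.map (MulAut.conj g).toMonoidHom = ⊥ := by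
  by_cases hpp : IsPrimePow (Nat.card H)
  · obtain ⟨p, k, hp, hk, hcard⟩ := (isPrimePow_nat_iff _).mp hpp
    haveI : Fact p.Prime := ⟨hp⟩
    have hHp : IsPGroup p H := IsPGroup.of_card hcard.symm
    obtain ⟨P, hP⟩ := hHp.exists_le_sylow
    have hPH : (P : Subgroup G) = H := hH.2 P P.isPGroup'.isNilpotent hP
    intro g hg
    have hmap : H.map (MulAut.conj g).toMonoidHom = ((g • P : Sylow p G) : Subgroup G) := by
      ext x
      rw [sylow_mem_smul_iff, mem_map_conj_iff', hPH]
    have hne : P ≠ g • P := by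
      intro h
      apply hg
      rw [hmap, ← h, hPH]
    have := cn_sylow_ti hG hCN p P (g • P) hne
    rw [hmap, ← hPH]
    exact this
  · have hc1 : Nat.card H ≠ 1 := by
      intro h
      exact hH1 (Subgroup.card_eq_one.mp h)
    exact (Cfsg.Agent.S1477.result hCN H hH.1 hH.2).2.1 hpp hc1

theorem isNilpotent_zpowers {G : Type*} [Group G] (g : G) :
    Group.IsNilpotent (Subgroup.zpowers g) := by
  letI : CommGroup (Subgroup.zpowers g) := IsCyclic.commGroup
  exact CommGroup.isNilpotent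

/-- There is no minimal simple CN-group of odd order. -/
theorem cn_minSimple_false {G : Type u} [Group G] [Finite G] (hG : Cfsg.IsMinSimpleOddOrder G)
    (hCN : Cfsg.IsCNGroup G) : False := by
  classical
  obtain ⟨hodd, hsimp, hnc, hsolv⟩ := id hG
  haveI := hsimp
  -- maximal nilpotent subgroups are proper and nontrivial
  have hnotnil : ¬ Group.IsNilpotent G := by
    intro h
    have hs : Group.IsSolvable G := inferInstance
    -- a solvable simple group is commutative
    have hcomm : commutator G ≠ ⊤ := by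
      intro htop
      have := Group.IsSolvable.commutator_lt_top_of_nontrivial G
      exact this.ne htop
    rcases (inferInstance : (commutator G).Normal).eq_bot_or_eq_top with h1 | h1
    · apply hnc
      refine ⟨⟨fun a b => ?_⟩⟩
      have h2 : ⁅a, b⁆ ∈ commutator G :=
        Subgroup.commutator_mem_commutator (Subgroup.mem_top a) (Subgroup.mem_top b)
      rw [h1, Subgroup.mem_bot] at h2
      exact commutatorElement_eq_one_iff_mul_comm.mp h2
    · exact hcomm h1
  have hMtop : ∀ H : Subgroup G, IsMaxNilp H → H ≠ ⊤ := by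
    intro H hH htop
    apply hnotnil
    have := hH.1
    rw [htop] at this
    exact Group.nilpotent_of_mulEquiv (Subgroup.topEquiv : (⊤ : Subgroup G) ≃* G)
  have hMbot : ∀ H : Subgroup G, IsMaxNilp H → H ≠ ⊥ := by
    intro H hH hbot
    obtain ⟨x, hx⟩ := exists_ne (1 : G)
    have h1 := hH.2 (Subgroup.zpowers x) (isNilpotent_zpowers x) (by rw [hbot]; exact bot_le)
    rw [hbot] at h1
    have : x ∈ (⊥ : Subgroup G) := by rw [← h1]; exact Subgroup.mem_zpowers x
    exact hx (Subgroup.mem_bot.mp this)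
  have hTI : ∀ H : Subgroup G, IsMaxNilp H → ∀ g : G, H.map (MulAut.conj g).toMonoidHom ≠ H →
      H ⊓ H.map (MulAut.conj g).toMonoidHom = ⊥ :=
    fun H hH => cn_maxNilp_ti hG hCN H hH (hMbot H hH)
  have hTI' : ∀ H : Subgroup G, IsMaxNilp H → Cfsg.IsTISubset (H : Set G) := by
    intro H hH g hg x hx hgx
    have hne : H.map (MulAut.conj g).toMonoidHom ≠ H := fun h =>
      hg (mem_normalizer_of_map_conj_eq h)
    have h1 : g * x * g⁻¹ ∈ H ⊓ H.map (MulAut.conj g).toMonoidHom :=
      ⟨hgx, conj_mem_map_conj' g hx⟩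
    rw [hTI H hH g hne, Subgroup.mem_bot] at h1
    calc x = g⁻¹ * (g * x * g⁻¹) * g := by group
      _ = 1 := by rw [h1]; group
  have hcent : ∀ H : Subgroup G, IsMaxNilp H → ∀ x ∈ H, x ≠ 1 →
      Subgroup.centralizer ({x} : Set G) ≤ H :=
    fun H hH => (Cfsg.Agent.S1477.result hCN H hH.1 hH.2).2.2 (hTI H hH)
  have hlt : ∀ H : Subgroup G, IsMaxNilp H → H < Subgroup.normalizer (H : Set G) := by
    intro H hH
    refine lt_of_le_of_ne Subgroup.le_normalizer ?_
    intro hNH
    have hFC : Cfsg.IsFrobeniusComplement H := by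
      rw [Cfsg.Agent.Helper71.isFrobeniusComplement_iff]
      refine ⟨hMbot H hH, hMtop H hH, ?_⟩
      intro g hg y hy hgy
      have hgN : g⁻¹ ∉ Subgroup.normalizer (H : Set G) := by
        rw [← hNH]
        intro h'
        exact hg (by simpa using H.inv_mem h')
      exact hTI' H hH g⁻¹ hgN y hy (by simpa using hgy)
    obtain ⟨N, -, hNn, hcompl⟩ := Cfsg.Agent.Helper11.frobenius_kernel_subgroup H hFC
    have hcard := hcompl.card_mul_card
    rcases hNn.eq_bot_or_eq_top with h1 | h1
    · rw [h1, Subgroup.card_bot, one_mul] at hcard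
      exact hMtop H hH (Subgroup.eq_top_of_card_eq H hcard)
    · rw [h1, Subgroup.card_top] at hcard
      have hGpos : 0 < Nat.card G := Nat.card_pos
      have : Nat.card H = 1 := by
        have h2 : Nat.card G * Nat.card H = Nat.card G * 1 := by rw [hcard, mul_one]
        exact Nat.eq_of_mul_eq_mul_left hGpos h2
      exact hMbot H hH (Subgroup.card_eq_one.mp this)
  -- classes indexed by the orders
  have hfin : {n : ℕ | ∃ H : Subgroup G, IsMaxNilp H ∧ Nat.card H = n}.Finite := by
    apply (Set.finite_Iic (Nat.card G)).subset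
    rintro n ⟨H, -, rfl⟩
    exact Subgroup.card_le_card_group H
  haveI : Fintype {n : ℕ | ∃ H : Subgroup G, IsMaxNilp H ∧ Nat.card H = n} := hfin.fintype
  have hrep : ∀ n : {n : ℕ | ∃ H : Subgroup G, IsMaxNilp H ∧ Nat.card H = n},
      ∃ H : Subgroup G, IsMaxNilp H ∧ Nat.card H = n.1 := fun n => n.2
  choose rep hrepM hrepc using hrep
  have hgt1 : ∀ H : Subgroup G, IsMaxNilp H → 1 < Nat.card H :=
    fun H hH => (Subgroup.one_lt_card_iff_ne_bot H).mpr (hMbot H hH)
  have hconj : ∀ H₁ H₂ : Subgroup G, IsMaxNilp H₁ → IsMaxNilp H₂ → Nat.card H₁ = Nat.card H₂ →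
      ∃ u : G, H₂ = H₁.map (MulAut.conj u).toMonoidHom := by
    intro H₁ H₂ h1 h2 hc
    rcases isMaxNilp_conj_or_coprime hCN H₁ H₂ h1 h2 with h | h
    · exact h
    · exfalso
      rw [hc, Nat.coprime_self] at h
      have := hgt1 H₂ h2
      omega
  have hcover : ∀ g : G, g ≠ 1 → ∃ H : Subgroup G, IsMaxNilp H ∧ g ∈ H := by
    intro g _
    obtain ⟨H, hgH, hH⟩ := exists_isMaxNilp_ge (Subgroup.zpowers g) (isNilpotent_zpowers g)
    exact ⟨H, hH, hgH (Subgroup.mem_zpowers g)⟩
  have hcoverrep : ∀ g : G, g ≠ 1 → ∃ n : {n : ℕ | ∃ H : Subgroup G, IsMaxNilp H ∧ Nat.card H = n},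
      ∃ u : G, u * g * u⁻¹ ∈ rep n := by
    intro g hg
    obtain ⟨H, hH, hgH⟩ := hcover g hg
    refine ⟨⟨Nat.card H, H, hH, rfl⟩, ?_⟩
    obtain ⟨u, hu⟩ := hconj H (rep ⟨Nat.card H, H, hH, rfl⟩) hH (hrepM _)
      (hrepc ⟨Nat.card H, H, hH, rfl⟩).symm
    refine ⟨u, ?_⟩
    rw [hu]
    exact conj_mem_map_conj' u hgH
  by_cases hι : 2 ≤ Fintype.card {n : ℕ | ∃ H : Subgroup G, IsMaxNilp H ∧ Nat.card H = n}
  · refine Cfsg.Agent.S1526.result hodd hι
      (fun n => Subgroup.normalizer ((rep n : Subgroup G) : Set G)) rep ?_ ?_ ?_ ?_ ?_ ?_ ?_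
    · exact fun n => hlt _ (hrepM n)
    · exact fun n => hMbot _ (hrepM n)
    · intro n x hx h hh
      exact (Subgroup.mem_normalizer_iff.mp hx h).mp hh
    · intro n h hh hh1
      exact inf_le_right.trans (hcent _ (hrepM n) h hh hh1)
    · intro n n' hnn'
      rcases isMaxNilp_conj_or_coprime hCN (rep n) (rep n') (hrepM n) (hrepM n') with h | h
      · exfalso
        obtain ⟨u, hu⟩ := h
        apply hnn'
        apply Subtype.ext
        rw [← hrepc n, ← hrepc n', hu]
        exact (Subgroup.card_map_of_injective (MulAut.conj u).injective).symm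
      · exact h
    · exact fun n => ⟨hTI' _ (hrepM n), rfl⟩
    · intro g hg
      obtain ⟨n, u, hu⟩ := hcoverrep g hg
      exact ⟨n, u, hu⟩
  · -- a single conjugacy class of maximal nilpotent subgroups: counting
    obtain ⟨x₀, hx₀⟩ := exists_ne (1 : G)
    obtain ⟨n₀, -, -⟩ := hcoverrep x₀ hx₀
    have hsub : Subsingleton {n : ℕ | ∃ H : Subgroup G, IsMaxNilp H ∧ Nat.card H = n} := by
      rw [← Fintype.card_le_one_iff_subsingleton]
      omega
    have hcount := Cfsg.Agent.S1527.result (ι := Unit)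
      (fun _ => rep n₀)
      (fun i j hij => absurd (Subsingleton.elim i j) hij)
      (fun _ => hTI' _ (hrepM n₀))
      (fun g hg => by
        obtain ⟨n, u, hu⟩ := hcoverrep g hg
        rw [hsub.elim n n₀] at hu
        exact ⟨(), u, hu⟩)
    simp only [Finset.univ_unique, Finset.sum_singleton] at hcount
    have hidx := Subgroup.index_mul_card (Subgroup.normalizer ((rep n₀ : Subgroup G) : Set G))
    have hltc := card_lt_card_of_lt' (hlt _ (hrepM n₀))
    have ha1 := hgt1 _ (hrepM n₀)
    have hGpos : 0 < Nat.card G := Nat.card_pos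
    generalize (Subgroup.normalizer ((rep n₀ : Subgroup G) : Set G)).index = I at hidx hcount
    generalize Nat.card (Subgroup.normalizer ((rep n₀ : Subgroup G) : Set G)) = nn at hidx hltc
    generalize Nat.card (rep n₀) = aa at hcount hltc ha1
    have hIpos : 0 < I := by
      rcases Nat.eq_zero_or_pos I with h0 | h0
      · rw [h0, zero_mul] at hidx
        omega
      · exact h0
    obtain ⟨a', rfl⟩ : ∃ a', aa = a' + 1 := ⟨aa - 1, by omega⟩
    obtain ⟨d, rfl⟩ : ∃ d, nn = a' + 1 + d + 1 := ⟨nn - (a' + 1) - 1, by omega⟩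
    have h5 : Nat.card G = I * a' + I * d + 2 * I := by rw [← hidx]; ring
    have h6 : Nat.card G - 1 = I * a' := by rw [hcount]; simp
    generalize I * a' = P at h5 h6
    generalize I * d = Q at h5
    omega

theorem cn_solvable_aux : ∀ (n : ℕ) (G : Type u) [Group G] [Finite G], Nat.card G = n →
    Odd (Nat.card G) → Cfsg.IsCNGroup G → Group.IsSolvable G := by
  intro n
  induction n using Nat.strong_induction_on with
  | _ n ih =>
  intro G _ _ hn hodd hCN
  by_contra hns
  have hproper : ∀ K : Subgroup G, K ≠ ⊤ → Group.IsSolvable K := by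
    intro K hK
    have hlt : Nat.card K < Nat.card G := by
      by_contra hcon
      push Not at hcon
      exact hK (Subgroup.eq_top_of_card_eq K (le_antisymm (Subgroup.card_le_card_group K) hcon))
    exact ih (Nat.card K) (hn ▸ hlt) K rfl
      (hodd.of_dvd_nat (Subgroup.card_subgroup_dvd_card K)) (isCNGroup_subgroup hCN K)
  have hnt : Nontrivial G := by
    by_contra h
    rw [not_nontrivial_iff_subsingleton] at h
    apply hns
    exact Group.isSolvable_of_comm (fun a b => Subsingleton.elim _ _)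
  have hsimple : IsSimpleGroup G := by
    refine { exists_pair_ne := hnt.exists_pair_ne, eq_bot_or_eq_top_of_normal := ?_ }
    intro N hN
    by_contra hcon
    push Not at hcon
    obtain ⟨hNbot, hNtop⟩ := hcon
    haveI := hN
    haveI hNs : Group.IsSolvable N := hproper N hNtop
    have hcard := Subgroup.card_eq_card_quotient_mul_card_subgroup N
    have hN1 : 1 < Nat.card N := (Subgroup.one_lt_card_iff_ne_bot N).mpr hNbot
    have hqpos : 0 < Nat.card (G ⧸ N) := Nat.card_pos
    have hqlt : Nat.card (G ⧸ N) < Nat.card G := by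
      rw [hcard]
      nlinarith
    haveI : Group.IsSolvable (G ⧸ N) :=
      ih (Nat.card (G ⧸ N)) (hn ▸ hqlt) (G ⧸ N) rfl
        (hodd.of_dvd_nat (Dvd.intro _ hcard.symm)) (Cfsg.Agent.S1473.result hCN N hNs)
    exact hns (Group.isSolvable_of_ker_le_range N.subtype (QuotientGroup.mk' N) (by simp))
  have hnc : ¬ IsMulCommutative G := by
    intro h
    apply hns
    exact Group.isSolvable_of_comm (fun a b => h.is_comm.comm a b)
  exact cn_minSimple_false ⟨hodd, hsimple, hnc, hproper⟩ hCN

/-- **Feit–Hall–Thompson**: a CN-group of odd order is solvable. -/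
theorem cn_solvable {G : Type u} [Group G] [Finite G] (hodd : Odd (Nat.card G))
    (hCN : Cfsg.IsCNGroup G) : Group.IsSolvable G :=
  cn_solvable_aux (Nat.card G) G rfl hodd hCN

end Cfsg.Agent.Helper3
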