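import Mathlib
import Cfsg.Prelude.Def_GeometricClasses
import Cfsg.Prelude.Def_LieClassical
import Cfsg.Agent.Helper69.E4Def
import Cfsg.Agent.Helper69.E4UDef
import Cfsg.Agent.Helper97.UForm

set_option autoImplicit false

namespace Cfsg.Agent.Helper3
open Cfsg.Agent.Helper69 Cfsg.Agent.Helper97
open scoped Matrix

/-! ### CANON -/

theorem e4u_canon {F : Type*} [Field F] (σ : F ≃+* F) (D J : Matrix (Fin 4) (Fin 4) F)
    (hJ : J.det ≠ 0)
    (hadj : ∀ δ : F, δ * σ δ = 1 → ∃ n₀ : Matrix (Fin 4) (Fin 4) F,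
      n₀ * D = D * n₀ ∧ n₀ᵀ * J * n₀.map σ = J ∧ n₀.det = δ)
    (y y' B B' : Matrix (Fin 4) (Fin 4) F) (hy : y * B = B * D) (hB : Bᵀ * B.map σ = J)
    (hy' : y' * B' = B' * D) (hB' : B'ᵀ * B'.map σ = J) :
    ∃ g : Matrix (Fin 4) (Fin 4) F, gᵀ * g.map σ = 1 ∧ g.det = 1 ∧ y * g = g * y' := by
  have hmap : ∀ M N : Matrix (Fin 4) (Fin 4) F, (M * N).map σ = M.map σ * N.map σ :=
    fun M N => Matrix.map_mul (f := (σ : F →+* F))
  have hdetmap : ∀ M : Matrix (Fin 4) (Fin 4) F, (M.map σ).det = σ M.det :=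
    fun M => (RingEquiv.map_det σ M).symm
  have hdB : B.det * σ B.det = J.det := by
    have h1 := congrArg Matrix.det hB
    rw [Matrix.det_mul, Matrix.det_transpose, hdetmap] at h1
    exact h1
  have hdB' : B'.det * σ B'.det = J.det := by
    have h1 := congrArg Matrix.det hB'
    rw [Matrix.det_mul, Matrix.det_transpose, hdetmap] at h1
    exact h1
  have hB0 : B.det ≠ 0 := by
    intro h0
    rw [h0, zero_mul] at hdB
    exact hJ hdB.symm
  have hB'0 : B'.det ≠ 0 := by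
    intro h0
    rw [h0, zero_mul] at hdB'
    exact hJ hdB'.symm
  have hσB0 : σ B.det ≠ 0 := by
    intro h0
    rw [h0, mul_zero] at hdB
    exact hJ hdB.symm
  have hδ : (B'.det / B.det) * σ (B'.det / B.det) = 1 := by
    rw [map_div₀, div_mul_div_comm, hdB', hdB, div_self hJ]
  obtain ⟨n₀, hn1, hn2, hn3⟩ := hadj _ hδ
  obtain ⟨C, hCdef⟩ : ∃ C : Matrix (Fin 4) (Fin 4) F, C = B'⁻¹ := ⟨_, rfl⟩
  have hBC : B' * C = 1 := by
    rw [hCdef]
    exact Matrix.mul_nonsing_inv B' (Ne.isUnit hB'0)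
  have hCB : C * B' = 1 := by
    rw [hCdef]
    exact Matrix.nonsing_inv_mul B' (Ne.isUnit hB'0)
  have hdC : B'.det * C.det = 1 := by
    have h1 := congrArg Matrix.det hBC
    rw [Matrix.det_mul, Matrix.det_one] at h1
    exact h1
  refine ⟨B * n₀ * C, ?_, ?_, ?_⟩
  · calc (B * n₀ * C)ᵀ * (B * n₀ * C).map σ
        = Cᵀ * (n₀ᵀ * (Bᵀ * B.map σ) * n₀.map σ) * C.map σ := by
          simp only [Matrix.transpose_mul, hmap, Matrix.mul_assoc]
      _ = Cᵀ * (B'ᵀ * B'.map σ) * C.map σ := by rw [hB, hn2, hB']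
      _ = (B' * C)ᵀ * (B' * C).map σ := by
          simp only [Matrix.transpose_mul, hmap, Matrix.mul_assoc]
      _ = 1 := by
          rw [hBC, Matrix.transpose_one, Matrix.one_mul]
          exact Matrix.map_one σ (map_zero σ) (map_one σ)
  · rw [Matrix.det_mul, Matrix.det_mul, hn3]
    have h1 : C.det = (B'.det)⁻¹ := eq_inv_of_mul_eq_one_right hdC
    rw [h1]
    field_simp
  · have h1 : C * y' = D * C := by
      calc C * y' = C * y' * (B' * C) := by rw [hBC, Matrix.mul_one]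
        _ = C * (y' * B') * C := by simp only [Matrix.mul_assoc]
        _ = C * B' * D * C := by rw [hy']; simp only [Matrix.mul_assoc]
        _ = D * C := by rw [hCB, Matrix.one_mul]
    calc y * (B * n₀ * C) = y * B * n₀ * C := by simp only [Matrix.mul_assoc]
      _ = B * (D * n₀) * C := by rw [hy]; simp only [Matrix.mul_assoc]
      _ = B * (n₀ * D) * C := by rw [hn1]
      _ = B * n₀ * (D * C) := by simp only [Matrix.mul_assoc]
      _ = B * n₀ * C * y' := by rw [← h1]; simp only [Matrix.mul_assoc]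

end Cfsg.Agent.Helper3
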