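import Mathlib
import Cfsg.Prelude.Def_GeometricClasses
import Cfsg.Prelude.Def_Classical
import Cfsg.Agent.Helper98.ELPDefs

set_option autoImplicit false

/-!
# Sub-CALL ELP (helper98), piece GEN (helper3, double, self-contained): every Siegel element lies
in `Ω` when `card n ≥ 3`.
-/

namespace Cfsg.Agent.Helper3.ELP

open Matrix Cfsg.Agent.Helper98.ELP
open scoped MatrixGroups

variable {n : Type} [Fintype n] [DecidableEq n] {F : Type*} [Field F]

/-- the Siegel element is an isometry -/
theorem elp3_sieg_iso (T : Matrix n n F) : sieg T ∈ Cfsg.isometryGroup F (qp n F) := by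
  intro v _
  show qp n F (siegM T *ᵥ v) = qp n F v
  have hinl : ∀ i, (siegM T *ᵥ v) (.inl i)
      = v (.inl i) + ((T - Tᵀ) *ᵥ (fun j => v (.inr j))) i := by
    intro i
    simp only [siegM, Matrix.fromBlocks_mulVec, Sum.elim_inl, Matrix.one_mulVec, Pi.add_apply,
      Function.comp_apply]
    rfl
  have hinr : ∀ i, (siegM T *ᵥ v) (.inr i) = v (.inr i) := by
    intro i
    simp only [siegM, Matrix.fromBlocks_mulVec, Sum.elim_inr, Matrix.one_mulVec,
      Matrix.zero_mulVec, zero_add, Function.comp_apply]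
  unfold qp
  simp only [hinl, hinr, add_mul, Finset.sum_add_distrib]
  have h0 : ∑ i, ((T - Tᵀ) *ᵥ (fun j => v (.inr j))) i * v (.inr i) = 0 := by
    have e : ∑ i, ((T - Tᵀ) *ᵥ (fun j => v (.inr j))) i * v (.inr i)
        = ((T - Tᵀ) *ᵥ (fun j => v (.inr j))) ⬝ᵥ (fun j => v (.inr j)) := rfl
    rw [e, Matrix.sub_mulVec, sub_dotProduct, Matrix.mulVec_transpose,
      ← Matrix.dotProduct_mulVec, dotProduct_comm, sub_self]
  rw [h0, add_zero]

/-- the Levi element is an isometry -/
theorem elp3_levi_iso (A : GL n F) : levi A ∈ Cfsg.isometryGroup F (qp n F) := by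
  intro v _
  show qp n F (Matrix.fromBlocks (A : Matrix n n F) 0 0 ((A⁻¹ : GL n F) : Matrix n n F)ᵀ *ᵥ v)
    = qp n F v
  have hinl : ∀ i, (Matrix.fromBlocks (A : Matrix n n F) 0 0
      ((A⁻¹ : GL n F) : Matrix n n F)ᵀ *ᵥ v) (.inl i)
      = ((A : Matrix n n F) *ᵥ (fun j => v (.inl j))) i := by
    intro i
    simp only [Matrix.fromBlocks_mulVec, Sum.elim_inl, Matrix.zero_mulVec, add_zero]
    rfl
  have hinr : ∀ i, (Matrix.fromBlocks (A : Matrix n n F) 0 0
      ((A⁻¹ : GL n F) : Matrix n n F)ᵀ *ᵥ v) (.inr i)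
      = (((A⁻¹ : GL n F) : Matrix n n F)ᵀ *ᵥ (fun j => v (.inr j))) i := by
    intro i
    simp only [Matrix.fromBlocks_mulVec, Sum.elim_inr, Matrix.zero_mulVec, zero_add]
    rfl
  unfold qp
  simp only [hinl, hinr]
  have e : ∑ i, ((A : Matrix n n F) *ᵥ (fun j => v (.inl j))) i
      * (((A⁻¹ : GL n F) : Matrix n n F)ᵀ *ᵥ (fun j => v (.inr j))) i
      = ((A : Matrix n n F) *ᵥ (fun j => v (.inl j)))
        ⬝ᵥ (((A⁻¹ : GL n F) : Matrix n n F)ᵀ *ᵥ (fun j => v (.inr j))) := rfl
  have e' : ∑ i, v (.inl i) * v (.inr i)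
      = (fun j => v (.inl j)) ⬝ᵥ (fun j => v (.inr j)) := rfl
  rw [e, e', Matrix.mulVec_transpose, dotProduct_comm, ← Matrix.dotProduct_mulVec,
    Matrix.mulVec_mulVec, ← Units.val_mul, inv_mul_cancel, Units.val_one, Matrix.one_mulVec,
    dotProduct_comm]

/-- conjugation of a Siegel element by a Levi element -/
theorem elp3_levi_conj (A : GL n F) (T : Matrix n n F) :
    levi A * sieg T * (levi A)⁻¹ = sieg ((A : Matrix n n F) * T * (A : Matrix n n F)ᵀ) := by
  apply Units.ext
  rw [Units.val_mul, Units.val_mul, levi_coe, levi_inv_coe, sieg_coe, sieg_coe]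
  simp only [siegM, Matrix.fromBlocks_multiply, Matrix.mul_zero, Matrix.zero_mul, add_zero,
    zero_add, Matrix.mul_one, ← Matrix.transpose_mul]
  rw [← Units.val_mul, mul_inv_cancel, Units.val_one, Matrix.transpose_one]
  congr 1
  simp only [Matrix.transpose_mul, Matrix.transpose_transpose, Matrix.mul_sub, Matrix.sub_mul,
    Matrix.mul_assoc]

/-- the commutator of a Levi and a Siegel element lies in `Ω` -/
theorem elp3_comm_mem (A : GL n F) (T : Matrix n n F) :
    sieg ((A : Matrix n n F) * T * (A : Matrix n n F)ᵀ - T) ∈ Cfsg.Geo.omegaGL (qp n F) := by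
  have hmem : ∀ a b : ↥(Cfsg.isometryGroup F (qp n F)),
      a * b * a⁻¹ * b⁻¹ ∈ Cfsg.Omega F (qp n F) := by
    intro a b
    have h := Subgroup.commutator_mem_commutator (Subgroup.mem_top a) (Subgroup.mem_top b)
    rw [commutatorElement_def] at h
    exact h
  have h := hmem ⟨levi A, elp3_levi_iso A⟩ ⟨sieg T, elp3_sieg_iso T⟩
  have e : sieg ((A : Matrix n n F) * T * (A : Matrix n n F)ᵀ - T)
      = levi A * sieg T * (levi A)⁻¹ * (sieg T)⁻¹ := by
    rw [elp3_levi_conj, sieg_inv, sieg_mul, sub_eq_add_neg]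
  rw [e]
  exact Subgroup.mem_map.mpr ⟨_, h, rfl⟩

/-- conjugating `single b c 1` by a transvection -/
theorem elp3_single_conj (a b c : n) (hab : a ≠ b) (hbc : b ≠ c) (l : F) :
    ∃ A : GL n F, (A : Matrix n n F) * Matrix.single b c (1 : F) * (A : Matrix n n F)ᵀ
      - Matrix.single b c (1 : F) = Matrix.single a c l := by
  refine ⟨⟨Matrix.transvection a b l, Matrix.transvection a b (-l), ?_, ?_⟩, ?_⟩
  · rw [Matrix.transvection_mul_transvection_same a b hab, add_neg_cancel,
      Matrix.transvection_zero]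
  · rw [Matrix.transvection_mul_transvection_same a b hab, neg_add_cancel,
      Matrix.transvection_zero]
  · show Matrix.transvection a b l * Matrix.single b c (1 : F) * (Matrix.transvection a b l)ᵀ
      - Matrix.single b c (1 : F) = Matrix.single a c l
    unfold Matrix.transvection
    rw [Matrix.transpose_add, Matrix.transpose_one, Matrix.transpose_single, Matrix.add_mul,
      Matrix.one_mul, Matrix.single_mul_single_same, mul_one, Matrix.mul_add, Matrix.mul_one,
      Matrix.add_mul, Matrix.single_mul_single_of_ne _ _ _ _ hbc.symm,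
      Matrix.single_mul_single_of_ne _ _ _ _ hbc.symm]
    abel

/-- the Siegel element only depends on `T - Tᵀ` -/
theorem elp3_sieg_congr (S T : Matrix n n F) (h : S - Sᵀ = T - Tᵀ) : sieg S = sieg T := by
  apply Units.ext
  rw [sieg_coe, sieg_coe]
  unfold siegM
  rw [h]

/-- GEN -/
theorem sieg_mem_omega (h3 : 3 ≤ Fintype.card n) (T : Matrix n n F) :
    sieg T ∈ Cfsg.Geo.omegaGL (qp n F) := by
  classical
  have hsingle : ∀ (a c : n) (l : F), sieg (Matrix.single a c l) ∈ Cfsg.Geo.omegaGL (qp n F) := by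
    intro a c l
    by_cases hac : a = c
    · subst hac
      have e : sieg (Matrix.single a a l) = sieg (0 : Matrix n n F) := by
        apply elp3_sieg_congr
        rw [Matrix.transpose_single, sub_self, Matrix.transpose_zero, sub_self]
      rw [e, sieg_zero]
      exact one_mem _
    · obtain ⟨b, hba, hbc⟩ : ∃ b : n, b ≠ a ∧ b ≠ c := by
        by_contra hcon
        push Not at hcon
        have hle : Fintype.card n ≤ 2 := by
          calc Fintype.card n = (Finset.univ : Finset n).card := Finset.card_univ.symm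
            _ ≤ ({a, c} : Finset n).card := by
                apply Finset.card_le_card
                intro b _
                by_cases hb : b = a
                · simp [hb]
                · simp [hcon b hb]
            _ ≤ 2 := Finset.card_le_two
        omega
      obtain ⟨A, hA⟩ := elp3_single_conj a b c (Ne.symm hba) hbc l
      have h := elp3_comm_mem A (Matrix.single b c (1 : F))
      rw [hA] at h
      exact h
  have hsum : ∀ (α : Type) (s : Finset α) (f : α → Matrix n n F),
      (∀ i ∈ s, sieg (f i) ∈ Cfsg.Geo.omegaGL (qp n F)) →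
      sieg (∑ i ∈ s, f i) ∈ Cfsg.Geo.omegaGL (qp n F) := by
    intro α s f hf
    apply Finset.sum_induction f (fun M => sieg M ∈ Cfsg.Geo.omegaGL (qp n F))
    · intro M N hM hN
      rw [← sieg_mul]
      exact mul_mem hM hN
    · rw [sieg_zero]
      exact one_mem _
    · exact hf
  rw [Matrix.matrix_eq_sum_single T]
  apply hsum
  intro a _
  apply hsum
  intro c _
  exact hsingle a c (T a c)

end Cfsg.Agent.Helper3.ELP
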