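import Mathlib

/-!
# Families of exceptional characters: the integral core

An `ExcSystem` records the integer matrix of multiplicities of several families of generalized
characters `α i r` (the classes `i` having pairwise orthogonal families) in a finite set `𝕀` of
"irreducible characters" carrying a fixed-point-free (off `one`) involution.  We derive the
parity relation between the cross coefficients and the norm inequality.
-/

set_option autoImplicit false

namespace Cfsg.Agent.Helper3

structure ExcSystem {𝕀 : Type*} [Fintype 𝕀] [DecidableEq 𝕀] {ι : Type*}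
    (conj' : 𝕀 → 𝕀) (one : 𝕀) (t : ι → ℕ) (e : ι → ℤ)
    (A : (i : ι) → Fin (t i) → 𝕀 → ℤ) (ε : ι → ℤ) (X : (i : ι) → Fin (t i) → 𝕀)
    (σ : (i : ι) → Fin (t i) → Fin (t i)) : Prop where
  conj_conj : ∀ Y, conj' (conj' Y) = Y
  conj_one : conj' one = one
  conj_fix : ∀ Y, conj' Y = Y → Y = one
  two_le : ∀ i, 2 ≤ t i
  even : ∀ i, Even (t i)
  eps : ∀ i, ε i = 1 ∨ ε i = -1
  inj : ∀ i, Function.Injective (X i)
  gram_same : ∀ i r s, ∑ Y, A i r Y * A i s Y = e i + if r = s then 1 else 0
  gram_diff : ∀ i j, i ≠ j → ∀ r s, ∑ Y, A i r Y * A j s Y = 0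
  triv : ∀ i r, A i r one = 1
  diff : ∀ i r s Y, A i r Y - A i s Y
    = ε i * ((if Y = X i s then 1 else 0) - (if Y = X i r then 1 else 0))
  conj_eq : ∀ i r Y, A i (σ i r) (conj' Y) = A i r Y

namespace ExcSystem

variable {𝕀 : Type*} [Fintype 𝕀] [DecidableEq 𝕀] {ι : Type*}
  {conj' : 𝕀 → 𝕀} {one : 𝕀} {t : ι → ℕ} {e : ι → ℤ}
  {A : (i : ι) → Fin (t i) → 𝕀 → ℤ} {ε : ι → ℤ} {X : (i : ι) → Fin (t i) → 𝕀}
  {σ : (i : ι) → Fin (t i) → Fin (t i)}

theorem eps_sq (h : ExcSystem conj' one t e A ε X σ) (i : ι) : ε i * ε i = 1 := by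
  rcases h.eps i with h1 | h1 <;> rw [h1] <;> norm_num

theorem eps_ne (h : ExcSystem conj' one t e A ε X σ) (i : ι) : ε i ≠ 0 := by
  rcases h.eps i with h1 | h1 <;> rw [h1] <;> norm_num

theorem exists_ne (h : ExcSystem conj' one t e A ε X σ) (i : ι) (r : Fin (t i)) :
    ∃ s : Fin (t i), s ≠ r := by
  have h2 := h.two_le i
  by_cases hr : r = ⟨0, by omega⟩
  · refine ⟨⟨1, by omega⟩, ?_⟩
    rw [hr]
    intro hc
    have := congrArg Fin.val hc
    simp at this
  · exact ⟨⟨0, by omega⟩, fun hc => hr hc.symm⟩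

theorem sum_diff_mul (h : ExcSystem conj' one t e A ε X σ) (i : ι) (r r' : Fin (t i))
    (g : 𝕀 → ℤ) :
    ∑ Y, (A i r Y - A i r' Y) * g Y = ε i * (g (X i r') - g (X i r)) := by
  have h1 : ∀ Y, (A i r Y - A i r' Y) * g Y
      = ε i * ((if Y = X i r' then g Y else 0) - (if Y = X i r then g Y else 0)) := by
    intro Y
    rw [h.diff i r r' Y]
    split_ifs <;> ring
  simp_rw [h1]
  rw [← Finset.mul_sum, Finset.sum_sub_distrib, Finset.sum_ite_eq', Finset.sum_ite_eq']
  simp

/-- No exceptional character is the principal one. -/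
theorem X_ne_one (h : ExcSystem conj' one t e A ε X σ) (i : ι) (r : Fin (t i)) :
    X i r ≠ one := by
  intro hX
  obtain ⟨s, hs⟩ := h.exists_ne i r
  have h1 := h.diff i r s one
  rw [h.triv, h.triv, sub_self, if_pos hX.symm] at h1
  have h2 : X i s ≠ one := fun hc => hs (h.inj i (hc.trans hX.symm))
  rw [if_neg (fun hc => h2 hc.symm)] at h1
  have := h.eps_ne i
  have h3 : ε i * (0 - 1) = -ε i := by ring
  rw [h3] at h1
  omega

/-- Exceptional characters of different classes are different. -/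
theorem X_ne_of_ne (h : ExcSystem conj' one t e A ε X σ) {i j : ι} (hij : i ≠ j)
    (r : Fin (t i)) (s : Fin (t j)) : X i r ≠ X j s := by
  intro hX
  obtain ⟨r', hr'⟩ := h.exists_ne i r
  obtain ⟨s', hs'⟩ := h.exists_ne j s
  have h1 := h.sum_diff_mul i r r' (fun Y => A j s Y - A j s' Y)
  have h0 : ∑ Y, (A i r Y - A i r' Y) * (A j s Y - A j s' Y) = 0 := by
    have : ∀ Y, (A i r Y - A i r' Y) * (A j s Y - A j s' Y)
        = A i r Y * A j s Y - A i r Y * A j s' Y - A i r' Y * A j s Y + A i r' Y * A j s' Y := by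
      intro Y; ring
    simp_rw [this]
    rw [Finset.sum_add_distrib, Finset.sum_sub_distrib, Finset.sum_sub_distrib,
      h.gram_diff i j hij, h.gram_diff i j hij, h.gram_diff i j hij, h.gram_diff i j hij]
    ring
  rw [h0] at h1
  rw [h.diff j s s' (X i r'), h.diff j s s' (X i r)] at h1
  have e1 : X i r ≠ X j s' := fun hc => hs' (h.inj j (hc.symm.trans hX))
  have e2 : X i r' ≠ X j s := fun hc => hr' (h.inj i (hc.trans hX.symm))
  rw [if_neg e1, if_pos hX, if_neg e2] at h1
  have hi := h.eps i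
  have hj := h.eps j
  by_cases e3 : X i r' = X j s'
  · rw [if_pos e3] at h1
    rcases hi with hi | hi <;> rcases hj with hj | hj <;> rw [hi, hj] at h1 <;> norm_num at h1
  · rw [if_neg e3] at h1
    rcases hi with hi | hi <;> rcases hj with hj | hj <;> rw [hi, hj] at h1 <;> norm_num at h1

/-- Off the exceptional characters of the class, the multiplicity does not depend on the member
of the family. -/
theorem const_off (h : ExcSystem conj' one t e A ε X σ) (i : ι) (Y : 𝕀)
    (hY : ∀ r, Y ≠ X i r) (r s : Fin (t i)) : A i r Y = A i s Y := by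
  have h1 := h.diff i r s Y
  rw [if_neg (hY s), if_neg (hY r)] at h1
  have h2 : ε i * ((0 : ℤ) - 0) = 0 := by ring
  rw [h2] at h1
  omega

/-- The multiplicities of the exceptional characters of a class in its own family. -/
theorem exists_self_coeff (h : ExcSystem conj' one t e A ε X σ) (i : ι) :
    ∃ c : ℤ, ∀ r s : Fin (t i), A i r (X i s) = c - ε i * (if r = s then 1 else 0) := by
  have h2 := h.two_le i
  set r₀ : Fin (t i) := ⟨0, by omega⟩ with hr₀
  have step1 : ∀ r r' s : Fin (t i), A i r (X i s) + ε i * (if r = s then 1 else 0)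
      = A i r' (X i s) + ε i * (if r' = s then 1 else 0) := by
    intro r r' s
    have h1 := h.diff i r r' (X i s)
    have e1 : (X i s = X i r') ↔ (r' = s) := ⟨fun hc => (h.inj i hc).symm, fun hc => by rw [hc]⟩
    have e2 : (X i s = X i r) ↔ (r = s) := ⟨fun hc => (h.inj i hc).symm, fun hc => by rw [hc]⟩
    simp only [e1, e2] at h1
    linarith
  have step2 : ∀ r s s' : Fin (t i), A i r (X i s) + ε i * (if r = s then 1 else 0)
      = A i r (X i s') + ε i * (if r = s' then 1 else 0) := by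
    intro r s s'
    have h1 := h.sum_diff_mul i s s' (fun Y => A i r Y)
    have h0 : ∑ Y, (A i s Y - A i s' Y) * A i r Y
        = (if s = r then 1 else 0) - (if s' = r then 1 else 0) := by
      have : ∀ Y, (A i s Y - A i s' Y) * A i r Y = A i s Y * A i r Y - A i s' Y * A i r Y := by
        intro Y; ring
      simp_rw [this]
      rw [Finset.sum_sub_distrib, h.gram_same, h.gram_same]
      ring
    rw [h0] at h1
    have h3 : ε i * ((if s = r then (1 : ℤ) else 0) - (if s' = r then 1 else 0))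
        = A i r (X i s') - A i r (X i s) := by
      rw [h1, ← mul_assoc, h.eps_sq, one_mul]
    have e1 : (s = r) ↔ (r = s) := eq_comm
    have e2 : (s' = r) ↔ (r = s') := eq_comm
    simp only [e1, e2] at h3
    linarith
  refine ⟨A i r₀ (X i r₀) + ε i, fun r s => ?_⟩
  have h3 := step1 r r₀ s
  have h4 := step2 r₀ s r₀
  rw [if_pos rfl] at h4
  linarith

/-- The multiplicity of the exceptional characters of a class `i` in the family of another
class `m`. -/
theorem exists_cross_coeff (h : ExcSystem conj' one t e A ε X σ) {i m : ι} (him : i ≠ m) :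
    ∃ c : ℤ, ∀ (r : Fin (t m)) (s : Fin (t i)), A m r (X i s) = c := by
  have h2 := h.two_le i
  have h2' := h.two_le m
  set r₀ : Fin (t m) := ⟨0, by omega⟩ with hr₀
  set s₀ : Fin (t i) := ⟨0, by omega⟩ with hs₀
  refine ⟨A m r₀ (X i s₀), fun r s => ?_⟩
  have h1 : A m r (X i s) = A m r₀ (X i s) :=
    h.const_off m (X i s) (fun r' => h.X_ne_of_ne him s r') r r₀
  rw [h1]
  have h3 := h.sum_diff_mul i s s₀ (fun Y => A m r₀ Y)
  have h0 : ∑ Y, (A i s Y - A i s₀ Y) * A m r₀ Y = 0 := by
    have : ∀ Y, (A i s Y - A i s₀ Y) * A m r₀ Y = A i s Y * A m r₀ Y - A i s₀ Y * A m r₀ Y := by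
      intro Y; ring
    simp_rw [this]
    rw [Finset.sum_sub_distrib, h.gram_diff i m him, h.gram_diff i m him, sub_self]
  rw [h0] at h3
  have h4 := h.eps_ne i
  have h5 : A m r₀ (X i s₀) - A m r₀ (X i s) = 0 := by
    rcases mul_eq_zero.mp h3.symm with h6 | h6
    · exact absurd h6 h4
    · exact h6
  omega

/-- The conjugate of an exceptional character is exceptional for the same class. -/
theorem conj_X (h : ExcSystem conj' one t e A ε X σ) (i : ι) (r : Fin (t i)) :
    conj' (X i r) = X i (σ i r) := by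
  obtain ⟨s, hs⟩ := h.exists_ne i r
  have h1 := h.diff i (σ i r) (σ i s) (conj' (X i r))
  rw [h.conj_eq, h.conj_eq, h.diff i r s (X i r), if_pos rfl,
    if_neg (fun hc => hs (h.inj i hc).symm)] at h1
  have h4 := h.eps_ne i
  by_contra hne
  rw [if_neg hne] at h1
  have h5 : ε i * ((0 : ℤ) - 1) = ε i * ((if conj' (X i r) = X i (σ i s) then 1 else 0) - 0) := h1
  have h6 := mul_left_cancel₀ h4 h5
  split_ifs at h6 <;> omega

theorem conj_off (h : ExcSystem conj' one t e A ε X σ) (i : ι) (Y : 𝕀)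
    (hY : ∀ r, Y ≠ X i r) (r : Fin (t i)) : A i r (conj' Y) = A i r Y := by
  have h1 := h.conj_eq i r (conj' Y)
  rw [h.conj_conj] at h1
  rw [← h1]
  exact h.const_off i Y hY (σ i r) r

/-- **Parity**: the two cross coefficients between two classes have odd sum. -/
theorem odd_cross (h : ExcSystem conj' one t e A ε X σ) {i m : ι} (him : i ≠ m)
    (r : Fin (t m)) (s : Fin (t i)) : Odd (A m r (X i s) + A i s (X m r)) := by
  classical
  obtain ⟨cm, hcm⟩ := h.exists_self_coeff m
  obtain ⟨ci, hci⟩ := h.exists_self_coeff i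
  obtain ⟨cq, hcq⟩ := h.exists_cross_coeff him
  obtain ⟨cz, hcz⟩ := h.exists_cross_coeff (Ne.symm him)
  rw [hcq r s, hcz s r]
  set Um : Finset 𝕀 := Finset.univ.image (X m) with hUm
  set Ui : Finset 𝕀 := Finset.univ.image (X i) with hUi
  set f : 𝕀 → ℤ := fun Y => A m r Y * A i s Y with hf
  have hdis : Disjoint Um Ui := by
    rw [Finset.disjoint_left]
    intro Y hY1 hY2
    rw [hUm, Finset.mem_image] at hY1
    rw [hUi, Finset.mem_image] at hY2
    obtain ⟨a, -, ha⟩ := hY1
    obtain ⟨b, -, hb⟩ := hY2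
    exact h.X_ne_of_ne him b a (hb.trans ha.symm)
  have hone : one ∉ Um ∪ Ui := by
    rw [Finset.mem_union, hUm, hUi, Finset.mem_image, Finset.mem_image]
    rintro (⟨a, -, ha⟩ | ⟨a, -, ha⟩)
    · exact h.X_ne_one m a ha
    · exact h.X_ne_one i a ha
  set P : Finset 𝕀 := insert one (Um ∪ Ui) with hP
  have htot : ∑ Y, f Y = 0 := h.gram_diff m i (Ne.symm him) r s
  have hsplit : ∑ Y ∈ P, f Y + ∑ Y ∈ Pᶜ, f Y = 0 := by
    rw [Finset.sum_add_sum_compl, htot]
  have hPsum : ∑ Y ∈ P, f Y = 1 + cz * ((t m : ℤ) * cm - ε m) + cq * ((t i : ℤ) * ci - ε i) := by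
    rw [hP, Finset.sum_insert hone, Finset.sum_union hdis, hUm, hUi,
      Finset.sum_image (fun a _ b _ hab => h.inj m hab),
      Finset.sum_image (fun a _ b _ hab => h.inj i hab)]
    have e1 : f one = 1 := by rw [hf]; simp only; rw [h.triv, h.triv]; norm_num
    have e2 : ∑ x : Fin (t m), f (X m x) = cz * ((t m : ℤ) * cm - ε m) := by
      have : ∀ x : Fin (t m), f (X m x) = cz * cm - (if r = x then cz * ε m else 0) := by
        intro x
        rw [hf]; simp only
        rw [hcm r x, hcz s x]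
        split_ifs <;> ring
      simp_rw [this]
      rw [Finset.sum_sub_distrib, Finset.sum_ite_eq, Finset.sum_const, Finset.card_univ,
        Fintype.card_fin, if_pos (Finset.mem_univ _), nsmul_eq_mul]
      ring
    have e3 : ∑ x : Fin (t i), f (X i x) = cq * ((t i : ℤ) * ci - ε i) := by
      have : ∀ x : Fin (t i), f (X i x) = cq * ci - (if s = x then cq * ε i else 0) := by
        intro x
        rw [hf]; simp only
        rw [hci s x, hcq r x]
        split_ifs <;> ring
      simp_rw [this]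
      rw [Finset.sum_sub_distrib, Finset.sum_ite_eq, Finset.sum_const, Finset.card_univ,
        Fintype.card_fin, if_pos (Finset.mem_univ _), nsmul_eq_mul]
      ring
    rw [e1, e2, e3]
    ring
  have hmemc : ∀ Y, Y ∈ Pᶜ ↔ (Y ≠ one ∧ (∀ a, Y ≠ X m a) ∧ (∀ a, Y ≠ X i a)) := by
    intro Y
    rw [Finset.mem_compl, hP, Finset.mem_insert, Finset.mem_union, hUm, hUi, Finset.mem_image,
      Finset.mem_image]
    constructor
    · intro hY
      refine ⟨fun hc => hY (Or.inl hc), fun a hc => hY (Or.inr (Or.inl ⟨a, Finset.mem_univ _, hc.symm⟩)),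
        fun a hc => hY (Or.inr (Or.inr ⟨a, Finset.mem_univ _, hc.symm⟩))⟩
    · rintro ⟨h1, h2, h3⟩ (hc | ⟨a, -, hc⟩ | ⟨a, -, hc⟩)
      · exact h1 hc
      · exact h2 a hc.symm
      · exact h3 a hc.symm
  have hrest : ∑ Y ∈ Pᶜ, ((f Y : ℤ) : ZMod 2) = 0 := by
    apply Finset.sum_involution (fun Y _ => conj' Y)
    · intro Y hY
      rw [hmemc] at hY
      have e1 : f (conj' Y) = f Y := by
        rw [hf]; simp only
        rw [h.conj_off m Y hY.2.1 r, h.conj_off i Y hY.2.2 s]
      rw [e1]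
      exact CharTwo.add_self_eq_zero _
    · intro Y hY _ hc
      rw [hmemc] at hY
      exact hY.1 (h.conj_fix Y hc)
    · intro Y hY
      rw [hmemc] at hY ⊢
      refine ⟨?_, ?_, ?_⟩
      · intro hc
        apply hY.1
        rw [← h.conj_conj Y, hc, h.conj_one]
      · intro a hc
        apply hY.2.1 (σ m a)
        rw [← h.conj_conj Y, hc, h.conj_X]
      · intro a hc
        apply hY.2.2 (σ i a)
        rw [← h.conj_conj Y, hc, h.conj_X]
    · intro Y _
      exact h.conj_conj Y
  have hz : ((1 + cz * ((t m : ℤ) * cm - ε m) + cq * ((t i : ℤ) * ci - ε i) : ℤ) : ZMod 2) = 0 := by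
    have h1 := congrArg (fun z : ℤ => (z : ZMod 2)) hsplit
    simp only [Int.cast_add, Int.cast_sum, Int.cast_zero] at h1
    rw [hrest, add_zero, ← Int.cast_sum, hPsum] at h1
    exact h1
  have htm : ((t m : ℕ) : ZMod 2) = 0 := by
    obtain ⟨k, hk⟩ := h.even m
    rw [hk]; push_cast
    exact CharTwo.add_self_eq_zero _
  have hti : ((t i : ℕ) : ZMod 2) = 0 := by
    obtain ⟨k, hk⟩ := h.even i
    rw [hk]; push_cast
    exact CharTwo.add_self_eq_zero _
  have hεm : ((ε m : ℤ) : ZMod 2) = 1 := by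
    rcases h.eps m with h1 | h1 <;> rw [h1] <;> simp
  have hεi : ((ε i : ℤ) : ZMod 2) = 1 := by
    rcases h.eps i with h1 | h1 <;> rw [h1] <;> simp
  push_cast at hz
  rw [htm, hti, hεm, hεi] at hz
  have h3 : ((cq + cz : ℤ) : ZMod 2) = 1 := by
    push_cast
    have : (1 : ZMod 2) + (cz : ZMod 2) * (0 * (cm : ZMod 2) - 1) + (cq : ZMod 2) * (0 * (ci : ZMod 2) - 1)
        = 1 - ((cq : ZMod 2) + (cz : ZMod 2)) := by ring
    rw [this] at hz
    exact (sub_eq_zero.mp hz).symm
  exact (ZMod.intCast_eq_one_iff_odd).mp h3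

/-- **Norm inequality**: the cross coefficients of the other classes in the family of `m`. -/
theorem norm_le [Fintype ι] [DecidableEq ι] (h : ExcSystem conj' one t e A ε X σ) (m : ι)
    (r : Fin (t m)) (cm : ℤ) (cq : ι → ℤ)
    (hcm : ∀ s : Fin (t m), A m r (X m s) = cm - ε m * (if r = s then 1 else 0))
    (hcq : ∀ i, i ≠ m → ∀ s : Fin (t i), A m r (X i s) = cq i) :
    ∑ i ∈ Finset.univ.erase m, (t i : ℤ) * cq i ^ 2 + ((t m : ℤ) * cm ^ 2 - 2 * ε m * cm)
      ≤ e m - 1 := by
  classical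
  have hnorm := h.gram_same m r r
  rw [if_pos rfl] at hnorm
  set p : (Σ i : ι, Fin (t i)) → 𝕀 := fun q => X q.1 q.2 with hp
  have hpinj : Function.Injective p := by
    rintro ⟨i, a⟩ ⟨j, b⟩ hab
    by_cases hij : i = j
    · subst hij
      have hab' : a = b := h.inj i hab
      rw [hab']
    · exact absurd hab (h.X_ne_of_ne hij a b)
  set Im : Finset 𝕀 := Finset.univ.image p with hIm
  have hone : one ∉ Im := by
    rw [hIm, Finset.mem_image]
    rintro ⟨⟨i, a⟩, -, ha⟩
    exact h.X_ne_one i a ha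
  have hle : ∑ Y ∈ insert one Im, A m r Y * A m r Y ≤ ∑ Y, A m r Y * A m r Y :=
    Finset.sum_le_sum_of_subset_of_nonneg (Finset.subset_univ _) (fun Y _ _ => mul_self_nonneg _)
  rw [Finset.sum_insert hone, hIm, Finset.sum_image (fun a _ b _ hab => hpinj hab), h.triv,
    Fintype.sum_sigma, hnorm] at hle
  have hsplit : ∑ i : ι, ∑ s : Fin (t i), A m r (p ⟨i, s⟩) * A m r (p ⟨i, s⟩)
      = ∑ s : Fin (t m), A m r (X m s) * A m r (X m s)
        + ∑ i ∈ Finset.univ.erase m, ∑ s : Fin (t i), A m r (X i s) * A m r (X i s) := by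
    rw [← Finset.add_sum_erase Finset.univ _ (Finset.mem_univ m)]
  rw [hsplit] at hle
  have e1 : ∑ s : Fin (t m), A m r (X m s) * A m r (X m s)
      = (t m : ℤ) * cm ^ 2 - 2 * ε m * cm + 1 := by
    have : ∀ s : Fin (t m), A m r (X m s) * A m r (X m s)
        = cm ^ 2 - (if r = s then (2 * ε m * cm - ε m * ε m) else 0) := by
      intro s
      rw [hcm s]
      split_ifs <;> ring
    simp_rw [this]
    rw [Finset.sum_sub_distrib, Finset.sum_ite_eq, Finset.sum_const, Finset.card_univ,
      Fintype.card_fin, if_pos (Finset.mem_univ _), nsmul_eq_mul, h.eps_sq]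
    ring
  have e2 : ∑ i ∈ Finset.univ.erase m, ∑ s : Fin (t i), A m r (X i s) * A m r (X i s)
      = ∑ i ∈ Finset.univ.erase m, (t i : ℤ) * cq i ^ 2 := by
    apply Finset.sum_congr rfl
    intro i hi
    have him : i ≠ m := Finset.ne_of_mem_erase hi
    have : ∀ s : Fin (t i), A m r (X i s) * A m r (X i s) = cq i ^ 2 := by
      intro s
      rw [hcq i him s]
      ring
    simp_rw [this]
    rw [Finset.sum_const, Finset.card_univ, Fintype.card_fin, nsmul_eq_mul]
  rw [e1, e2] at hle
  linarith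

end ExcSystem

end Cfsg.Agent.Helper3
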