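import Mathlib
import Cfsg.Prelude.Def_Characters
import Cfsg.Prelude.Def_OddOrderChar
import Cfsg.Agent.Helper3.IndFun
import Cfsg.Agent.Helper3.Induced
import Cfsg.Agent.Helper3.Frobenius
import Cfsg.Agent.Helper4.GenChar1
import Cfsg.Agent.Helper15.CharInner
import Cfsg.Agent.Helper25.Sib1
import Cfsg.Agent.Helper75.InnerLin
import Cfsg.Agent.Helper79.Basic
import Cfsg.Agent.Helper80.CharOrtho
import Cfsg.Agent.Helper81.BlockDefect

/-!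
# Feit's theorem on Zassenhaus groups: abstract character theory

* `fz_coh_const` : if the irreducible characters of `N` non-trivial on `H ≤ N` form a coherent set
  (for induction to `G`), then all but at most that many irreducible characters of `G` are constant
  on `H ∖ {1}`.
* `fz_card_S_le` : in the Frobenius/TI situation the number of those characters of `N` is at most
  the number of classes of `G` meeting `H ∖ {1}`.
* `fz_sum_inv`, `fz_even` : a parity lemma for multiplicities.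
-/

set_option autoImplicit false

namespace Cfsg.Agent.Helper3

open scoped ComplexConjugate

/-- A sum over an inverse-closed set without self-inverse elements of an inverse-invariant function
is twice the sum over a suitable subset. -/
theorem fz_sum_inv {G : Type*} [Group G] [Fintype G] (s : Finset G) (hs : ∀ k ∈ s, k⁻¹ ∈ s)
    (hne : ∀ k ∈ s, k⁻¹ ≠ k) (f : G → ℂ) (hf : ∀ k ∈ s, f k⁻¹ = f k) :
    ∃ P : Finset G, ∑ k ∈ s, f k = 2 * ∑ k ∈ P, f k := by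
  classical
  let j : G → ℕ := fun g => (Fintype.equivFin G g : ℕ)
  have hj : Function.Injective j := fun x y hxy =>
    (Fintype.equivFin G).injective (Fin.ext hxy)
  refine ⟨s.filter (fun k => j k < j k⁻¹), ?_⟩
  rw [← Finset.sum_filter_add_sum_filter_not s (fun k => j k < j k⁻¹) f, two_mul]
  congr 1
  refine Finset.sum_nbij' (fun k => k⁻¹) (fun k => k⁻¹) ?_ ?_ ?_ ?_ ?_
  · intro k hk
    rw [Finset.mem_filter] at hk ⊢
    refine ⟨hs k hk.1, ?_⟩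
    rw [inv_inv]
    have h1 : j k⁻¹ ≠ j k := fun h => hne k hk.1 (hj h)
    omega
  · intro k hk
    rw [Finset.mem_filter] at hk ⊢
    refine ⟨hs k hk.1, ?_⟩
    rw [inv_inv]
    omega
  · intro k _
    exact inv_inv k
  · intro k _
    exact inv_inv k
  · intro k hk
    rw [Finset.mem_filter] at hk
    exact (hf k hk.1).symm

/-- Parity of a multiplicity: if `a + ∑_{k ∈ E, k ≠ 1} χ k = 0` for a character `χ`, a subgroup
`E` of odd order all of whose elements are conjugate to their inverses, then `a` is even. -/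
theorem fz_even {G : Type*} [Group G] [Fintype G] (E : Subgroup G) [Fintype ↥E]
    (hodd : Odd (Nat.card E)) (hinv : ∀ k ∈ E, IsConj k k⁻¹) (χ : G → ℂ)
    (hχ : Cfsg.IsCharacter G χ) (a : ℕ)
    (ha : (a : ℂ) + (∑ k : ↥E, χ (k : G) - χ 1) = 0) :
    Even a := by
  classical
  have hcl := Cfsg.Agent.Helper79.isCharacter_isClassFunction hχ
  have hsub : ∑ k : ↥E, χ (k : G) - χ 1 =
      ∑ k ∈ (Finset.univ.filter (fun k : G => k ∈ E)).erase 1, χ k := by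
    rw [Finset.sum_erase_eq_sub (Finset.mem_filter.mpr ⟨Finset.mem_univ _, E.one_mem⟩)]
    congr 1
    exact (Finset.sum_subtype (Finset.univ.filter (fun k : G => k ∈ E)) (fun x => by simp) χ).symm
  rw [hsub] at ha
  have hmem : ∀ k : G, k ∈ (Finset.univ.filter (fun k : G => k ∈ E)).erase 1 ↔ k ≠ 1 ∧ k ∈ E := by
    intro k
    rw [Finset.mem_erase, Finset.mem_filter]
    simp
  obtain ⟨P, hP⟩ := fz_sum_inv ((Finset.univ.filter (fun k : G => k ∈ E)).erase 1)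
    (by
      intro k hk
      rw [hmem] at hk ⊢
      exact ⟨fun h => hk.1 (inv_eq_one.mp h), E.inv_mem hk.2⟩)
    (by
      intro k hk hkk
      rw [hmem] at hk
      have h2 : k * k = 1 := by
        have := mul_inv_cancel k
        rw [hkk] at this
        exact this
      have h3 : orderOf k ∣ 2 := orderOf_dvd_of_pow_eq_one (by rw [pow_two, h2])
      have h4 : orderOf k ∣ Nat.card E := Subgroup.orderOf_dvd_natCard E hk.2
      have h5 : Odd (orderOf k) := hodd.of_dvd_nat h4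
      rcases (Nat.dvd_prime Nat.prime_two).mp h3 with h6 | h6
      · exact hk.1 (orderOf_eq_one_iff.mp h6)
      · rw [h6] at h5
        exact absurd h5 (by decide))
    χ
    (by
      intro k hk
      rw [hmem] at hk
      obtain ⟨c, hc⟩ := isConj_iff.mp (hinv k hk.2)
      rw [← hc]
      exact hcl k c)
  rw [hP] at ha
  have hint : IsIntegral ℤ (∑ k ∈ P, χ k) :=
    IsIntegral.sum _ (fun k _ => Cfsg.Agent.Helper80.isCharacter_isIntegral hχ k)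
  have hz : ∑ k ∈ P, χ k = ((-(a : ℤ) : ℤ) : ℂ) / ((2 : ℕ) : ℂ) := by
    have h2 : (2 : ℂ) * ∑ k ∈ P, χ k = -(a : ℂ) := by
      linear_combination ha
    push_cast
    rw [eq_div_iff (by norm_num : (2 : ℂ) ≠ 0)]
    linear_combination h2
  rw [hz] at hint
  have hdvd := Cfsg.Agent.Helper25.int_dvd_of_isIntegral_div (by norm_num : (2 : ℕ) ≠ 0) hint
  have hdvd' : (2 : ℤ) ∣ (a : ℤ) := by
    have : ((2 : ℕ) : ℤ) ∣ -(a : ℤ) := hdvd
    rw [dvd_neg] at this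
    exact_mod_cast this
  have : (2 : ℕ) ∣ a := by exact_mod_cast hdvd'
  exact even_iff_two_dvd.mpr this

/-- Coherence makes all but few irreducible characters of `G` constant on `H ∖ {1}`. -/
theorem fz_coh_const {G : Type*} [Group G] [Fintype G] (N H : Subgroup G) [Fintype ↥N]
    (hHN : H ≤ N)
    (hcoh : Cfsg.IsCoherent
      {χ : ↥N → ℂ | Cfsg.IsIrrCharacter ↥N χ ∧ ∃ x : ↥N, (x : G) ∈ H ∧ χ x ≠ χ 1}
      ({1}ᶜ : Set ↥N) (fun α => Cfsg.indFun N α)) :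
    ∃ Exc : Set (Cfsg.IrrCharacter G),
      Nat.card Exc ≤ Nat.card {ψ : Cfsg.IrrCharacter ↥N //
        ∃ x : ↥N, (x : G) ∈ H ∧ (ψ : ↥N → ℂ) x ≠ (ψ : ↥N → ℂ) 1} ∧
      ∀ χ : Cfsg.IrrCharacter G, χ ∉ Exc →
        ∃ c : ℂ, ∀ u ∈ H, u ≠ 1 → (χ : G → ℂ) u = c := by
  classical
  have : Fintype (Cfsg.IrrCharacter ↥N) := Fintype.ofFinite _
  have : Fintype (Cfsg.IrrCharacter G) := Fintype.ofFinite _
  obtain ⟨-, τ₁, hiso, hext⟩ := hcoh
  obtain ⟨hadd, hsmul, hinner, hgen⟩ := hiso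
  generalize hSset : {χ : ↥N → ℂ | Cfsg.IsIrrCharacter ↥N χ ∧
    ∃ x : ↥N, (x : G) ∈ H ∧ χ x ≠ χ 1} = Sset at hadd hsmul hinner hgen hext
  have hmemS : ∀ ψ : {ψ : Cfsg.IrrCharacter ↥N //
      ∃ x : ↥N, (x : G) ∈ H ∧ (ψ : ↥N → ℂ) x ≠ (ψ : ↥N → ℂ) 1}, (ψ.1 : ↥N → ℂ) ∈ Sset := by
    intro ψ
    rw [← hSset]
    exact ⟨ψ.1.2, ψ.2⟩
  have hspan : ∀ ψ : {ψ : Cfsg.IrrCharacter ↥N //
      ∃ x : ↥N, (x : G) ∈ H ∧ (ψ : ↥N → ℂ) x ≠ (ψ : ↥N → ℂ) 1},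
      (ψ.1 : ↥N → ℂ) ∈ Cfsg.zspan Sset := fun ψ => Submodule.subset_span (hmemS ψ)
  have hex : ∀ ψ : {ψ : Cfsg.IrrCharacter ↥N //
      ∃ x : ↥N, (x : G) ∈ H ∧ (ψ : ↥N → ℂ) x ≠ (ψ : ↥N → ℂ) 1},
      ∃ ξ : Cfsg.IrrCharacter G, τ₁ (ψ.1 : ↥N → ℂ) = (ξ : G → ℂ) ∨
        τ₁ (ψ.1 : ↥N → ℂ) = -(ξ : G → ℂ) := by
    intro ψ
    apply Cfsg.Agent.Helper4.genChar_norm_one (hgen _ (hspan ψ))
    rw [hinner _ (hspan ψ) _ (hspan ψ)]
    exact Cfsg.Agent.Helper75.classInner_irr_self ψ.1.2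
  choose Λ hΛ using hex
  refine ⟨Set.range Λ, Finite.card_range_le Λ, ?_⟩
  intro χ hχ
  have horth : ∀ ψ : {ψ : Cfsg.IrrCharacter ↥N //
      ∃ x : ↥N, (x : G) ∈ H ∧ (ψ : ↥N → ℂ) x ≠ (ψ : ↥N → ℂ) 1},
      Cfsg.classInner (τ₁ (ψ.1 : ↥N → ℂ)) (χ : G → ℂ) = 0 := by
    intro ψ
    have hne : Λ ψ ≠ χ := fun h => hχ ⟨ψ, h⟩
    have h0 : Cfsg.classInner ((Λ ψ : Cfsg.IrrCharacter G) : G → ℂ) (χ : G → ℂ) = 0 := by
      rw [Cfsg.Agent.Helper75.classInner_irr, if_neg hne]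
    rcases hΛ ψ with h | h
    · rw [h, h0]
    · rw [h, Cfsg.Agent.Helper75.classInner_neg_left, h0, neg_zero]
  -- restriction of `χ` to `N`
  have hχcl : Cfsg.IsClassFunction G (χ : G → ℂ) :=
    Cfsg.Agent.Helper79.isCharacter_isClassFunction (Cfsg.Agent.Helper79.irr_isCharacter χ)
  obtain ⟨φ, hφ⟩ : ∃ φ : ↥N → ℂ, φ = fun x : ↥N => (χ : G → ℂ) (x : G) := ⟨_, rfl⟩
  have hφcl : Cfsg.IsClassFunction ↥N φ := by
    intro g k
    rw [hφ]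
    show (χ : G → ℂ) ((k * g * k⁻¹ : ↥N) : G) = (χ : G → ℂ) (g : G)
    rw [Subgroup.coe_mul, Subgroup.coe_mul, Subgroup.coe_inv]
    exact hχcl g k
  have hdeg : ∀ ψ : Cfsg.IrrCharacter ↥N, ∃ n : ℕ, 0 < n ∧ (ψ : ↥N → ℂ) 1 = n :=
    fun ψ => Cfsg.Agent.Helper81.irr_one_eq ψ
  -- the multiplicities are proportional to the degrees
  have hprop : ∀ ψ₁ ψ₂ : {ψ : Cfsg.IrrCharacter ↥N //
      ∃ x : ↥N, (x : G) ∈ H ∧ (ψ : ↥N → ℂ) x ≠ (ψ : ↥N → ℂ) 1},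
      (ψ₁.1 : ↥N → ℂ) 1 * Cfsg.classInner φ (ψ₂.1 : ↥N → ℂ) =
        (ψ₂.1 : ↥N → ℂ) 1 * Cfsg.classInner φ (ψ₁.1 : ↥N → ℂ) := by
    intro ψ₁ ψ₂
    obtain ⟨n₁, -, hn₁⟩ := hdeg ψ₁.1
    obtain ⟨n₂, -, hn₂⟩ := hdeg ψ₂.1
    have hm1 : (n₁ : ℤ) • (ψ₂.1 : ↥N → ℂ) ∈ Cfsg.zspan Sset :=
      Submodule.smul_mem _ _ (hspan ψ₂)
    have hm2 : (-(n₂ : ℤ)) • (ψ₁.1 : ↥N → ℂ) ∈ Cfsg.zspan Sset :=
      Submodule.smul_mem _ _ (hspan ψ₁)
    have hαS : (n₁ : ℤ) • (ψ₂.1 : ↥N → ℂ) + (-(n₂ : ℤ)) • (ψ₁.1 : ↥N → ℂ) ∈ Cfsg.zspan Sset :=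
      Submodule.add_mem _ hm1 hm2
    have hα1 : ((n₁ : ℤ) • (ψ₂.1 : ↥N → ℂ) + (-(n₂ : ℤ)) • (ψ₁.1 : ↥N → ℂ)) 1 = 0 := by
      rw [Pi.add_apply, Pi.smul_apply, Pi.smul_apply, hn₁, hn₂, zsmul_eq_mul, zsmul_eq_mul]
      push_cast
      ring
    have hαon : (n₁ : ℤ) • (ψ₂.1 : ↥N → ℂ) + (-(n₂ : ℤ)) • (ψ₁.1 : ↥N → ℂ) ∈
        Cfsg.zspanOn Sset ({1}ᶜ : Set ↥N) := by
      refine ⟨hαS, fun x hx => ?_⟩
      have hx1 : x = 1 := by
        by_contra hne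
        exact hx hne
      rw [hx1]
      exact hα1
    have h1 := hext _ hαon
    have h2 : τ₁ ((n₁ : ℤ) • (ψ₂.1 : ↥N → ℂ) + (-(n₂ : ℤ)) • (ψ₁.1 : ↥N → ℂ)) =
        (n₁ : ℤ) • τ₁ (ψ₂.1 : ↥N → ℂ) + (-(n₂ : ℤ)) • τ₁ (ψ₁.1 : ↥N → ℂ) := by
      rw [hadd _ hm1 _ hm2, hsmul _ (hspan ψ₂), hsmul _ (hspan ψ₁)]
    have h3 : Cfsg.classInner
        (τ₁ ((n₁ : ℤ) • (ψ₂.1 : ↥N → ℂ) + (-(n₂ : ℤ)) • (ψ₁.1 : ↥N → ℂ))) (χ : G → ℂ) = 0 := by
      rw [h2, Cfsg.Agent.Helper75.classInner_add_left,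
        ← Int.cast_smul_eq_zsmul ℂ (n₁ : ℤ), ← Int.cast_smul_eq_zsmul ℂ (-(n₂ : ℤ)),
        Cfsg.Agent.Helper75.classInner_smul_left, Cfsg.Agent.Helper75.classInner_smul_left,
        horth, horth, mul_zero, mul_zero, add_zero]
    rw [h1] at h3
    have h4 := frobenius_reciprocity N
      ((n₁ : ℤ) • (ψ₂.1 : ↥N → ℂ) + (-(n₂ : ℤ)) • (ψ₁.1 : ↥N → ℂ)) (χ : G → ℂ) hχcl
    rw [h3, ← hφ] at h4
    rw [Cfsg.Agent.Helper75.classInner_add_left,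
      ← Int.cast_smul_eq_zsmul ℂ (n₁ : ℤ), ← Int.cast_smul_eq_zsmul ℂ (-(n₂ : ℤ)),
      Cfsg.Agent.Helper75.classInner_smul_left, Cfsg.Agent.Helper75.classInner_smul_left] at h4
    -- h4 : 0 = n₁ * ⟨ψ₂, φ⟩ + (-n₂) * ⟨ψ₁, φ⟩
    have h5 := congrArg (starRingEnd ℂ) h4
    rw [map_zero, map_add, map_mul, map_mul, ← classInner_conj (ψ₂.1 : ↥N → ℂ) φ,
      ← classInner_conj (ψ₁.1 : ↥N → ℂ) φ] at h5
    rw [hn₁, hn₂]
    have h6 : (starRingEnd ℂ) (((n₁ : ℤ) : ℂ)) = (n₁ : ℂ) := by simp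
    have h7 : (starRingEnd ℂ) (((-(n₂ : ℤ) : ℤ) : ℂ)) = -(n₂ : ℂ) := by simp
    rw [h6, h7] at h5
    linear_combination -h5
  have hexp := classFunction_eq_sum φ hφcl
  have hval : ∀ x : ↥N, φ x = ∑ ψ : Cfsg.IrrCharacter ↥N,
      Cfsg.classInner φ (ψ : ↥N → ℂ) * (ψ : ↥N → ℂ) x := by
    intro x
    have := congrFun hexp x
    rw [Finset.sum_apply] at this
    simpa only [Pi.smul_apply, smul_eq_mul] using this
  have hφ1 : φ 1 = (χ : G → ℂ) 1 := by rw [hφ]; rfl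
  by_cases hS : Nonempty {ψ : Cfsg.IrrCharacter ↥N //
      ∃ x : ↥N, (x : G) ∈ H ∧ (ψ : ↥N → ℂ) x ≠ (ψ : ↥N → ℂ) 1}
  · obtain ⟨ψ₀⟩ := hS
    obtain ⟨n₀, hn₀pos, hn₀⟩ := hdeg ψ₀.1
    have hn₀ne : (n₀ : ℂ) ≠ 0 := by exact_mod_cast hn₀pos.ne'
    refine ⟨(χ : G → ℂ) 1 - Cfsg.classInner φ (ψ₀.1 : ↥N → ℂ) / (n₀ : ℂ) *
      (Fintype.card ↥N : ℂ), ?_⟩
    intro u hu hu1
    have hx1 : (⟨u, hHN hu⟩ : ↥N) ≠ 1 := fun h => hu1 (congrArg Subtype.val h)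
    have hterm : ∀ ψ : Cfsg.IrrCharacter ↥N,
        Cfsg.classInner φ (ψ : ↥N → ℂ) * ((ψ : ↥N → ℂ) ⟨u, hHN hu⟩ - (ψ : ↥N → ℂ) 1) =
        Cfsg.classInner φ (ψ₀.1 : ↥N → ℂ) / (n₀ : ℂ) *
          ((ψ : ↥N → ℂ) 1 * (ψ : ↥N → ℂ) ⟨u, hHN hu⟩ - (ψ : ↥N → ℂ) 1 * (ψ : ↥N → ℂ) 1) := by
      intro ψ
      by_cases hψ : ∃ x : ↥N, (x : G) ∈ H ∧ (ψ : ↥N → ℂ) x ≠ (ψ : ↥N → ℂ) 1
      · have h8 := hprop ψ₀ ⟨ψ, hψ⟩
        rw [hn₀] at h8
        have h9 : Cfsg.classInner φ (ψ : ↥N → ℂ) =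
            Cfsg.classInner φ (ψ₀.1 : ↥N → ℂ) / (n₀ : ℂ) * (ψ : ↥N → ℂ) 1 := by
          field_simp
          linear_combination h8
        rw [h9]
        ring
      · have h8 : (ψ : ↥N → ℂ) ⟨u, hHN hu⟩ = (ψ : ↥N → ℂ) 1 := by
          by_contra hne
          exact hψ ⟨⟨u, hHN hu⟩, hu, hne⟩
        rw [h8]
        ring
    have h10 : φ ⟨u, hHN hu⟩ - φ 1 = Cfsg.classInner φ (ψ₀.1 : ↥N → ℂ) / (n₀ : ℂ) *
        (0 - (Fintype.card ↥N : ℂ)) := by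
      rw [hval ⟨u, hHN hu⟩, hval 1, ← Finset.sum_sub_distrib]
      rw [Finset.sum_congr rfl (fun ψ _ => by rw [← mul_sub, hterm ψ]), ← Finset.mul_sum,
        Finset.sum_sub_distrib,
        Cfsg.Agent.Helper80.irr_sum_degree_mul_of_ne_one hx1,
        Cfsg.Agent.Helper80.irr_sum_degree_sq]
    have h11 : φ ⟨u, hHN hu⟩ = (χ : G → ℂ) u := by rw [hφ]
    rw [h11, hφ1] at h10
    linear_combination h10
  · refine ⟨(χ : G → ℂ) 1, ?_⟩
    intro u hu hu1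
    have h8 : ∀ ψ : Cfsg.IrrCharacter ↥N,
        (ψ : ↥N → ℂ) ⟨u, hHN hu⟩ = (ψ : ↥N → ℂ) 1 := by
      intro ψ
      by_contra hne
      exact hS ⟨⟨ψ, ⟨⟨u, hHN hu⟩, hu, hne⟩⟩⟩
    have h11 : φ ⟨u, hHN hu⟩ = (χ : G → ℂ) u := by rw [hφ]
    rw [← h11, ← hφ1, hval ⟨u, hHN hu⟩, hval 1]
    exact Finset.sum_congr rfl (fun ψ _ => by rw [h8 ψ])

/-- In the Frobenius/TI situation, the number of irreducible characters of `N` non-trivial on `H`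
is at most the number of classes of `G` meeting `H ∖ {1}`. -/
theorem fz_card_S_le {G : Type*} [Group G] [Fintype G] (N H : Subgroup G) [Fintype ↥N]
    (hHN : H ≤ N)
    (hvan : ∀ ψ : Cfsg.IrrCharacter ↥N,
      (∃ x : ↥N, (x : G) ∈ H ∧ (ψ : ↥N → ℂ) x ≠ (ψ : ↥N → ℂ) 1) →
      ∀ x : ↥N, (x : G) ∉ H → (ψ : ↥N → ℂ) x = 0)
    (hfus : ∀ u ∈ H, u ≠ 1 → ∀ g : G, g * u * g⁻¹ ∈ H → g ∈ N) :
    Nat.card {ψ : Cfsg.IrrCharacter ↥N //
        ∃ x : ↥N, (x : G) ∈ H ∧ (ψ : ↥N → ℂ) x ≠ (ψ : ↥N → ℂ) 1} ≤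
      Nat.card {C : ConjClasses G // ∃ u ∈ H, u ≠ 1 ∧ ConjClasses.mk u = C} := by
  classical
  have : Fintype (Cfsg.IrrCharacter ↥N) := Fintype.ofFinite _
  have : Fintype {C : ConjClasses G // ∃ u ∈ H, u ≠ 1 ∧ ConjClasses.mk u = C} :=
    Fintype.ofFinite _
  obtain ⟨rep, hrep⟩ : ∃ rep : {C : ConjClasses G // ∃ u ∈ H, u ≠ 1 ∧ ConjClasses.mk u = C} → G,
      ∀ C, rep C ∈ H ∧ rep C ≠ 1 ∧ ConjClasses.mk (rep C) = C.1 :=
    ⟨fun C => C.2.choose, fun C => C.2.choose_spec⟩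
  have hdeg : ∀ ψ : Cfsg.IrrCharacter ↥N, ∃ n : ℕ, 0 < n ∧ (ψ : ↥N → ℂ) 1 = n :=
    fun ψ => Cfsg.Agent.Helper81.irr_one_eq ψ
  choose d hdpos hd using hdeg
  have hNne : (Nat.card ↥N : ℂ) ≠ 0 := by exact_mod_cast Nat.card_pos.ne'
  have hli : LinearIndependent ℂ (fun (ψ : {ψ : Cfsg.IrrCharacter ↥N //
      ∃ x : ↥N, (x : G) ∈ H ∧ (ψ : ↥N → ℂ) x ≠ (ψ : ↥N → ℂ) 1})
      (C : {C : ConjClasses G // ∃ u ∈ H, u ≠ 1 ∧ ConjClasses.mk u = C}) =>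
      (ψ.1 : ↥N → ℂ) ⟨rep C, hHN (hrep C).1⟩) := by
    rw [Fintype.linearIndependent_iff]
    intro c hc i
    obtain ⟨F, hF⟩ : ∃ F : ↥N → ℂ, F = ∑ ψ : {ψ : Cfsg.IrrCharacter ↥N //
      ∃ x : ↥N, (x : G) ∈ H ∧ (ψ : ↥N → ℂ) x ≠ (ψ : ↥N → ℂ) 1}, c ψ • (ψ.1 : ↥N → ℂ) := ⟨_, rfl⟩
    have hFapp : ∀ x : ↥N, F x = ∑ ψ : {ψ : Cfsg.IrrCharacter ↥N //
        ∃ x : ↥N, (x : G) ∈ H ∧ (ψ : ↥N → ℂ) x ≠ (ψ : ↥N → ℂ) 1}, c ψ * (ψ.1 : ↥N → ℂ) x := by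
      intro x
      rw [hF, Finset.sum_apply]
      rfl
    have hF0 : ∀ x : ↥N, x ≠ 1 → F x = 0 := by
      intro x hx1
      rw [hFapp]
      by_cases hxH : (x : G) ∈ H
      · have hC : ∃ u ∈ H, u ≠ 1 ∧ ConjClasses.mk u = ConjClasses.mk (x : G) :=
          ⟨x, hxH, fun h => hx1 (Subtype.ext h), rfl⟩
        have hc' : ∑ ψ : {ψ : Cfsg.IrrCharacter ↥N //
            ∃ x : ↥N, (x : G) ∈ H ∧ (ψ : ↥N → ℂ) x ≠ (ψ : ↥N → ℂ) 1},
            c ψ * (ψ.1 : ↥N → ℂ) ⟨rep ⟨ConjClasses.mk (x : G), hC⟩,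
              hHN (hrep ⟨ConjClasses.mk (x : G), hC⟩).1⟩ = 0 := by
          have h := congrFun hc ⟨ConjClasses.mk (x : G), hC⟩
          rw [Finset.sum_apply] at h
          exact h
        have hconj := (hrep ⟨ConjClasses.mk (x : G), hC⟩).2.2
        obtain ⟨g, hg⟩ := isConj_iff.mp (ConjClasses.mk_eq_mk_iff_isConj.mp hconj)
        have hgN : g ∈ N := hfus _ (hrep ⟨ConjClasses.mk (x : G), hC⟩).1
          (hrep ⟨ConjClasses.mk (x : G), hC⟩).2.1 g (by rw [hg]; exact hxH)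
        have hxeq : x = (⟨g, hgN⟩ : ↥N) *
            ⟨rep ⟨ConjClasses.mk (x : G), hC⟩, hHN (hrep ⟨ConjClasses.mk (x : G), hC⟩).1⟩ *
            (⟨g, hgN⟩ : ↥N)⁻¹ := Subtype.ext hg.symm
        rw [← hc']
        apply Finset.sum_congr rfl
        intro ψ _
        show c ψ * (ψ.1 : ↥N → ℂ) x = c ψ * (ψ.1 : ↥N → ℂ)
          ⟨rep ⟨ConjClasses.mk (x : G), hC⟩, hHN (hrep ⟨ConjClasses.mk (x : G), hC⟩).1⟩
        congr 1
        have hcl := Cfsg.Agent.Helper79.isCharacter_isClassFunction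
          (Cfsg.Agent.Helper79.irr_isCharacter ψ.1)
        have h2 := hcl ⟨rep ⟨ConjClasses.mk (x : G), hC⟩,
          hHN (hrep ⟨ConjClasses.mk (x : G), hC⟩).1⟩ ⟨g, hgN⟩
        rw [← hxeq] at h2
        exact h2
      · apply Finset.sum_eq_zero
        intro ψ _
        rw [hvan ψ.1 ψ.2 x hxH, mul_zero]
    have hin : ∀ i : {ψ : Cfsg.IrrCharacter ↥N //
        ∃ x : ↥N, (x : G) ∈ H ∧ (ψ : ↥N → ℂ) x ≠ (ψ : ↥N → ℂ) 1},
        Cfsg.classInner F (i.1 : ↥N → ℂ) = c i := by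
      intro i
      rw [hF, Cfsg.Agent.Helper75.classInner_sum_left, Finset.sum_eq_single i]
      · rw [Cfsg.Agent.Helper75.classInner_smul_left, Cfsg.Agent.Helper75.classInner_irr,
          if_pos rfl, mul_one]
      · intro ψ _ hψ
        rw [Cfsg.Agent.Helper75.classInner_smul_left, Cfsg.Agent.Helper75.classInner_irr,
          if_neg (fun h => hψ (Subtype.ext h)), mul_zero]
      · intro h
        exact absurd (Finset.mem_univ i) h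
    have hin2 : ∀ i : {ψ : Cfsg.IrrCharacter ↥N //
        ∃ x : ↥N, (x : G) ∈ H ∧ (ψ : ↥N → ℂ) x ≠ (ψ : ↥N → ℂ) 1},
        c i = (Nat.card ↥N : ℂ)⁻¹ * (F 1 * (d i.1 : ℂ)) := by
      intro i
      rw [← hin i]
      unfold Cfsg.classInner
      congr 1
      rw [Finset.sum_eq_single (1 : ↥N)]
      · rw [hd, Complex.conj_natCast]
      · intro x _ hx
        rw [hF0 x hx, zero_mul]
      · intro h
        exact absurd (Finset.mem_univ _) h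
    -- the degrees
    have hsplit := Fintype.sum_subtype_add_sum_subtype
      (fun ψ : Cfsg.IrrCharacter ↥N =>
        ∃ x : ↥N, (x : G) ∈ H ∧ (ψ : ↥N → ℂ) x ≠ (ψ : ↥N → ℂ) 1)
      (fun ψ : Cfsg.IrrCharacter ↥N => ((d ψ : ℂ)) * (d ψ : ℂ))
    have hall : ∑ ψ : Cfsg.IrrCharacter ↥N, ((d ψ : ℂ)) * (d ψ : ℂ) = (Nat.card ↥N : ℂ) := by
      rw [Nat.card_eq_fintype_card, ← Cfsg.Agent.Helper80.irr_sum_degree_sq (G := ↥N)]
      exact Finset.sum_congr rfl (fun ψ _ => by rw [hd])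
    have hrest : ∑ ψ : {ψ : Cfsg.IrrCharacter ↥N //
        ¬ ∃ x : ↥N, (x : G) ∈ H ∧ (ψ : ↥N → ℂ) x ≠ (ψ : ↥N → ℂ) 1},
        ((d ψ.1 : ℂ)) * (d ψ.1 : ℂ) ≠ 0 := by
      have htriv : ¬ ∃ x : ↥N, (x : G) ∈ H ∧
          ((⟨fun _ => 1, Cfsg.Agent.Helper79.isIrrCharacter_one⟩ : Cfsg.IrrCharacter ↥N) :
            ↥N → ℂ) x ≠
          ((⟨fun _ => 1, Cfsg.Agent.Helper79.isIrrCharacter_one⟩ : Cfsg.IrrCharacter ↥N) :
            ↥N → ℂ) 1 := by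
        rintro ⟨x, -, hx⟩
        exact hx rfl
      have h1 : ∑ ψ : {ψ : Cfsg.IrrCharacter ↥N //
          ¬ ∃ x : ↥N, (x : G) ∈ H ∧ (ψ : ↥N → ℂ) x ≠ (ψ : ↥N → ℂ) 1},
          ((d ψ.1 : ℂ)) * (d ψ.1 : ℂ) =
          ((∑ ψ : {ψ : Cfsg.IrrCharacter ↥N //
          ¬ ∃ x : ↥N, (x : G) ∈ H ∧ (ψ : ↥N → ℂ) x ≠ (ψ : ↥N → ℂ) 1}, d ψ.1 * d ψ.1 : ℕ) : ℂ) := by
        push_cast
        rfl
      rw [h1]
      have h2 : d (⟨fun _ => 1, Cfsg.Agent.Helper79.isIrrCharacter_one⟩ : Cfsg.IrrCharacter ↥N) *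
          d (⟨fun _ => 1, Cfsg.Agent.Helper79.isIrrCharacter_one⟩ : Cfsg.IrrCharacter ↥N) ≤
          ∑ ψ : {ψ : Cfsg.IrrCharacter ↥N //
          ¬ ∃ x : ↥N, (x : G) ∈ H ∧ (ψ : ↥N → ℂ) x ≠ (ψ : ↥N → ℂ) 1}, d ψ.1 * d ψ.1 :=
        Finset.single_le_sum (f := fun ψ : {ψ : Cfsg.IrrCharacter ↥N //
          ¬ ∃ x : ↥N, (x : G) ∈ H ∧ (ψ : ↥N → ℂ) x ≠ (ψ : ↥N → ℂ) 1} => d ψ.1 * d ψ.1)
          (fun _ _ => Nat.zero_le _)
          (Finset.mem_univ (⟨⟨fun _ => 1, Cfsg.Agent.Helper79.isIrrCharacter_one⟩, htriv⟩ :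
            {ψ : Cfsg.IrrCharacter ↥N //
              ¬ ∃ x : ↥N, (x : G) ∈ H ∧ (ψ : ↥N → ℂ) x ≠ (ψ : ↥N → ℂ) 1}))
      have h3 := hdpos (⟨fun _ => 1, Cfsg.Agent.Helper79.isIrrCharacter_one⟩ :
        Cfsg.IrrCharacter ↥N)
      have h4 : 0 < d (⟨fun _ => 1, Cfsg.Agent.Helper79.isIrrCharacter_one⟩ :
          Cfsg.IrrCharacter ↥N) *
          d (⟨fun _ => 1, Cfsg.Agent.Helper79.isIrrCharacter_one⟩ : Cfsg.IrrCharacter ↥N) :=
        Nat.mul_pos h3 h3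
      have h5 : 0 < ∑ ψ : {ψ : Cfsg.IrrCharacter ↥N //
          ¬ ∃ x : ↥N, (x : G) ∈ H ∧ (ψ : ↥N → ℂ) x ≠ (ψ : ↥N → ℂ) 1}, d ψ.1 * d ψ.1 :=
        lt_of_lt_of_le h4 h2
      exact_mod_cast h5.ne'
    have hF1 : F 1 = F 1 * (Nat.card ↥N : ℂ)⁻¹ * ∑ ψ : {ψ : Cfsg.IrrCharacter ↥N //
        ∃ x : ↥N, (x : G) ∈ H ∧ (ψ : ↥N → ℂ) x ≠ (ψ : ↥N → ℂ) 1},
        ((d ψ.1 : ℂ)) * (d ψ.1 : ℂ) := by
      conv_lhs => rw [hFapp 1]
      rw [Finset.mul_sum]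
      apply Finset.sum_congr rfl
      intro ψ _
      rw [hin2 ψ, hd]
      ring
    have hF1' : F 1 = 0 := by
      have h6 : F 1 * ∑ ψ : {ψ : Cfsg.IrrCharacter ↥N //
          ¬ ∃ x : ↥N, (x : G) ∈ H ∧ (ψ : ↥N → ℂ) x ≠ (ψ : ↥N → ℂ) 1},
          ((d ψ.1 : ℂ)) * (d ψ.1 : ℂ) = 0 := by
        have h7 : F 1 * (Nat.card ↥N : ℂ) = F 1 * ∑ ψ : {ψ : Cfsg.IrrCharacter ↥N //
            ∃ x : ↥N, (x : G) ∈ H ∧ (ψ : ↥N → ℂ) x ≠ (ψ : ↥N → ℂ) 1},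
            ((d ψ.1 : ℂ)) * (d ψ.1 : ℂ) := by
          conv_lhs => rw [hF1]
          field_simp
        rw [← hall, ← hsplit, mul_add] at h7
        linear_combination h7
      rcases mul_eq_zero.mp h6 with h | h
      · exact h
      · exact absurd h hrest
    rw [hin2 i, hF1', zero_mul, mul_zero]
  have h1 := hli.fintype_card_le_finrank
  rw [Module.finrank_fintype_fun_eq_card] at h1
  rw [Nat.card_eq_fintype_card, Nat.card_eq_fintype_card]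
  exact h1

/-- The number of irreducible characters of `G` whose restriction to `H` contains the principal
character is at most `2 + (e - 1) / 2` in the Zassenhaus situation (abstract form). -/
theorem fz_count {G : Type*} [Group G] [Fintype G] (N H E : Subgroup G) [Fintype ↥N]
    [Fintype ↥H] [Fintype ↥E] (e : ℕ) (hoddE : Odd (Nat.card E)) (hodde : Odd e)
    (hinv : ∀ k ∈ E, IsConj k k⁻¹)
    (T : Finset (Cfsg.IrrCharacter G)) (hTcard : T.card ≤ 2)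
    (hT : ∀ χ : Cfsg.IrrCharacter G, χ ∉ T → ∑ n : ↥N, (χ : G → ℂ) n = 0)
    (hsum : ∀ f : G → ℂ, Cfsg.IsClassFunction G f →
      ∑ n : ↥N, f n = ∑ u : ↥H, f u + (Nat.card H : ℂ) * (∑ k : ↥E, f k - f 1))
    (hfus : ∀ u ∈ H, u ≠ 1 → ∀ x : G, (x * u * x⁻¹ ∈ H ↔ x ∈ N))
    (hnum : Nat.card G + (Nat.card H - 1) * Nat.card N = 2 * e * Nat.card H ^ 2) :
    2 * Nat.card {χ : Cfsg.IrrCharacter G // ∑ u : ↥H, (χ : G → ℂ) u ≠ 0} ≤ e + 3 := by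
  classical
  have : Fintype (Cfsg.IrrCharacter G) := Fintype.ofFinite _
  have hHne : (Nat.card H : ℂ) ≠ 0 := by exact_mod_cast Nat.card_pos.ne'
  have hHpos : 0 < Nat.card H := Nat.card_pos
  -- multiplicities of the principal character of `H`
  have hmult : ∀ χ : Cfsg.IrrCharacter G, ∃ a : ℕ,
      ∑ u : ↥H, (χ : G → ℂ) u = (Nat.card H : ℂ) * (a : ℂ) := by
    intro χ
    obtain ⟨a, ha⟩ := classInner_isCharacter_nat
      (Cfsg.Agent.Helper79.isCharacter_restrict (Cfsg.Agent.Helper79.irr_isCharacter χ) H)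
      (Cfsg.Agent.Helper79.isCharacter_one (G := ↥H))
    refine ⟨a, ?_⟩
    unfold Cfsg.classInner at ha
    rw [← ha, ← mul_assoc, mul_inv_cancel₀ hHne, one_mul]
    exact Finset.sum_congr rfl (fun u _ => by simp)
  choose a ha using hmult
  -- the sum of the squares of the multiplicities
  have hfib : ∀ u : ↥H, ∑ v : ↥H,
      ((Finset.univ.filter (fun x : G => x * (u : G) * x⁻¹ = (v : G))).card : ℂ) =
      ((Finset.univ.filter (fun x : G => x * (u : G) * x⁻¹ ∈ H)).card : ℂ) := by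
    intro u
    rw [← Nat.cast_sum]
    congr 1
    have hmaps : ((Finset.univ.filter (fun x : G => x * (u : G) * x⁻¹ ∈ H) : Finset G) :
        Set G).MapsTo (fun x : G => x * (u : G) * x⁻¹)
        (Finset.univ.filter (fun y : G => y ∈ H) : Finset G) := by
      intro x hx
      have hx' := (Finset.mem_filter.mp (Finset.mem_coe.mp hx)).2
      exact Finset.mem_coe.mpr (Finset.mem_filter.mpr ⟨Finset.mem_univ _, hx'⟩)
    rw [Finset.card_eq_sum_card_fiberwise hmaps,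
      Finset.sum_subtype (p := fun y : G => y ∈ H) (Finset.univ.filter (fun y : G => y ∈ H))
        (fun x => by simp)]
    apply Finset.sum_congr rfl
    intro v _
    congr 1
    ext x
    simp only [Finset.mem_filter, Finset.mem_univ, true_and]
    constructor
    · intro h
      exact ⟨by rw [h]; exact v.2, h⟩
    · intro h
      exact h.2
  have hcount : ∀ u : ↥H, ((Finset.univ.filter (fun x : G => x * (u : G) * x⁻¹ ∈ H)).card : ℂ) =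
      if u = 1 then (Nat.card G : ℂ) else (Nat.card N : ℂ) := by
    intro u
    by_cases hu : u = 1
    · have h1 : Finset.univ.filter (fun x : G => x * ((1 : ↥H) : G) * x⁻¹ ∈ H) = Finset.univ := by
        apply Finset.filter_true_of_mem
        intro x _
        simp
      rw [if_pos hu, hu, h1, Nat.card_eq_fintype_card, Finset.card_univ]
    · rw [if_neg hu]
      have hu1 : (u : G) ≠ 1 := fun h => hu (Subtype.ext h)
      have h1 : Finset.univ.filter (fun x : G => x * (u : G) * x⁻¹ ∈ H) =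
          Finset.univ.filter (fun x : G => x ∈ N) := by
        ext x
        simp only [Finset.mem_filter, Finset.mem_univ, true_and]
        exact hfus u u.2 hu1 x
      rw [h1, Nat.card_eq_fintype_card, Fintype.card_subtype]
  have hsq : ∑ χ : Cfsg.IrrCharacter G, a χ ^ 2 = 2 * e := by
    have h1 : ∑ χ : Cfsg.IrrCharacter G, (∑ u : ↥H, (χ : G → ℂ) u) *
        conj (∑ v : ↥H, (χ : G → ℂ) v) =
        (Nat.card G : ℂ) + ((Nat.card H : ℂ) - 1) * (Nat.card N : ℂ) := by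
      have h2 : ∀ χ : Cfsg.IrrCharacter G, (∑ u : ↥H, (χ : G → ℂ) u) *
          conj (∑ v : ↥H, (χ : G → ℂ) v) =
          ∑ u : ↥H, ∑ v : ↥H, (χ : G → ℂ) u * conj ((χ : G → ℂ) v) := by
        intro χ
        rw [map_sum, Finset.sum_mul_sum]
      rw [Finset.sum_congr rfl (fun χ _ => h2 χ), Finset.sum_comm]
      rw [Finset.sum_congr rfl (fun (u : ↥H) _ => Finset.sum_comm)]
      rw [Finset.sum_congr rfl (fun (u : ↥H) _ => Finset.sum_congr rfl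
        (fun (v : ↥H) _ => Cfsg.Agent.Helper80.irr_sum_mul_conj (u : G) (v : G)))]
      rw [Finset.sum_congr rfl (fun u _ => hfib u), Finset.sum_congr rfl (fun u _ => hcount u)]
      rw [Finset.sum_ite, Finset.sum_const, Finset.sum_const, Finset.filter_eq',
        if_pos (Finset.mem_univ _), Finset.card_singleton, Finset.filter_ne', Finset.card_erase_of_mem
          (Finset.mem_univ _), Finset.card_univ, ← Nat.card_eq_fintype_card (α := ↥H)]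
      rw [one_smul, nsmul_eq_mul, Nat.cast_sub hHpos, Nat.cast_one]
    have h3 : ∑ χ : Cfsg.IrrCharacter G, (∑ u : ↥H, (χ : G → ℂ) u) *
        conj (∑ v : ↥H, (χ : G → ℂ) v) =
        (Nat.card H : ℂ) ^ 2 * ((∑ χ : Cfsg.IrrCharacter G, a χ ^ 2 : ℕ) : ℂ) := by
      rw [Nat.cast_sum, Finset.mul_sum]
      apply Finset.sum_congr rfl
      intro χ _
      rw [ha χ, map_mul, Complex.conj_natCast, Complex.conj_natCast]
      push_cast
      ring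
    rw [h3] at h1
    have h4 : ((Nat.card H ^ 2 * ∑ χ : Cfsg.IrrCharacter G, a χ ^ 2 : ℕ) : ℂ) =
        ((Nat.card G + (Nat.card H - 1) * Nat.card N : ℕ) : ℂ) := by
      rw [Nat.cast_mul, Nat.cast_pow, h1, Nat.cast_add, Nat.cast_mul, Nat.cast_sub hHpos,
        Nat.cast_one]
    have h5 : Nat.card H ^ 2 * ∑ χ : Cfsg.IrrCharacter G, a χ ^ 2 =
        Nat.card G + (Nat.card H - 1) * Nat.card N := by exact_mod_cast h4
    rw [hnum] at h5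
    have h6 : Nat.card H ^ 2 * ∑ χ : Cfsg.IrrCharacter G, a χ ^ 2 = Nat.card H ^ 2 * (2 * e) := by
      rw [h5]; ring
    exact Nat.eq_of_mul_eq_mul_left (by positivity) h6
  -- parity
  have heven : ∀ χ : Cfsg.IrrCharacter G, χ ∉ T → Even (a χ) := by
    intro χ hχ
    have hχc := Cfsg.Agent.Helper79.irr_isCharacter χ
    have h1 := hsum (χ : G → ℂ) (Cfsg.Agent.Helper79.isCharacter_isClassFunction hχc)
    rw [hT χ hχ, ha χ, ← mul_add] at h1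
    have h2 : (a χ : ℂ) + (∑ k : ↥E, (χ : G → ℂ) k - (χ : G → ℂ) 1) = 0 := by
      rcases mul_eq_zero.mp h1.symm with h | h
      · exact absurd h hHne
      · exact h
    exact fz_even E hoddE hinv (χ : G → ℂ) hχc (a χ) h2
  -- counting
  have hB : 4 * (Finset.univ.filter (fun χ : Cfsg.IrrCharacter G => χ ∉ T ∧ a χ ≠ 0)).card ≤
      2 * e := by
    rw [← hsq]
    calc 4 * (Finset.univ.filter (fun χ : Cfsg.IrrCharacter G => χ ∉ T ∧ a χ ≠ 0)).card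
        = ∑ _χ ∈ Finset.univ.filter (fun χ : Cfsg.IrrCharacter G => χ ∉ T ∧ a χ ≠ 0), 4 := by
          rw [Finset.sum_const, smul_eq_mul, mul_comm]
      _ ≤ ∑ χ ∈ Finset.univ.filter (fun χ : Cfsg.IrrCharacter G => χ ∉ T ∧ a χ ≠ 0), a χ ^ 2 := by
          apply Finset.sum_le_sum
          intro χ hχ
          rw [Finset.mem_filter] at hχ
          obtain ⟨k, hk⟩ := heven χ hχ.2.1
          have h2 : 2 ≤ a χ := by
            have := hχ.2.2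
            omega
          nlinarith
      _ ≤ ∑ χ : Cfsg.IrrCharacter G, a χ ^ 2 :=
          Finset.sum_le_sum_of_subset_of_nonneg (Finset.subset_univ _) (fun _ _ _ => Nat.zero_le _)
  have hY : Nat.card {χ : Cfsg.IrrCharacter G // ∑ u : ↥H, (χ : G → ℂ) u ≠ 0} ≤
      T.card + (Finset.univ.filter (fun χ : Cfsg.IrrCharacter G => χ ∉ T ∧ a χ ≠ 0)).card := by
    rw [Nat.card_eq_fintype_card, Fintype.card_subtype]
    refine le_trans (Finset.card_le_card ?_) (Finset.card_union_le _ _)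
    intro χ hχ
    rw [Finset.mem_filter] at hχ
    rw [Finset.mem_union, Finset.mem_filter]
    by_cases hχT : χ ∈ T
    · exact Or.inl hχT
    · refine Or.inr ⟨Finset.mem_univ _, hχT, ?_⟩
      intro h0
      apply hχ.2
      rw [ha χ, h0, Nat.cast_zero, mul_zero]
  obtain ⟨k, hk⟩ := hodde
  omega

end Cfsg.Agent.Helper3
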