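import Mathlib
import Cfsg.Agent.Helper3.Frobenius
import Cfsg.Agent.Helper15.PermChar

/-!
# 2-transitivity and irreducibility of `π - 1`
-/

set_option autoImplicit false

namespace Cfsg.Agent.Helper3

open MulAction
open scoped ComplexConjugate

section

variable (G : Type*) [Group G] [Fintype G] (X : Type*) [MulAction G X] [Finite X]

/-- Burnside's lemma with `Nat.card`. -/
theorem sum_natCard_fixedBy :
    ∑ g : G, Nat.card (fixedBy X g) = Nat.card (orbitRel.Quotient G X) * Nat.card G := by
  classical
  have : Fintype X := Fintype.ofFinite X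
  have : Fintype (orbitRel.Quotient G X) := Fintype.ofFinite _
  have : ∀ g : G, Fintype (fixedBy X g) := fun g => Fintype.ofFinite _
  have h := MulAction.sum_card_fixedBy_eq_card_orbits_mul_card_group G X
  simp only [Nat.card_eq_fintype_card]
  exact h

omit [Fintype G] [Finite X] in
theorem card_fixedBy_prod (g : G) :
    Nat.card (fixedBy (X × X) g) = Nat.card (fixedBy X g) * Nat.card (fixedBy X g) := by
  rw [← Nat.card_prod]
  apply Nat.card_congr
  exact {
    toFun := fun p => (⟨p.1.1, congrArg Prod.fst p.2⟩, ⟨p.1.2, congrArg Prod.snd p.2⟩)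
    invFun := fun q => ⟨(q.1.1, q.2.1), Prod.ext q.1.2 q.2.2⟩
    left_inv := fun p => rfl
    right_inv := fun q => rfl }

end

section

variable {G : Type*} [Group G] {X : Type*} [MulAction G X]

theorem two_pretransitive_of_card_orbits [Finite X]
    (h : Nat.card (orbitRel.Quotient G (X × X)) = 2) : IsMultiplyPretransitive G X 2 := by
  rw [MulAction.is_two_pretransitive_iff]
  intro a b c d hab hcd
  by_contra hne
  let q1 : orbitRel.Quotient G (X × X) := Quotient.mk'' (a, b)
  let q2 : orbitRel.Quotient G (X × X) := Quotient.mk'' (c, d)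
  let q3 : orbitRel.Quotient G (X × X) := Quotient.mk'' (a, a)
  have h12 : q1 ≠ q2 := by
    intro h
    obtain ⟨g, hg⟩ := Quotient.exact' h
    apply hne
    have h1 : g • c = a := congrArg Prod.fst hg
    have h2 : g • d = b := congrArg Prod.snd hg
    refine ⟨g⁻¹, ?_, ?_⟩
    · rw [← h1, inv_smul_smul]
    · rw [← h2, inv_smul_smul]
  have h13 : q1 ≠ q3 := by
    intro h
    obtain ⟨g, hg⟩ := Quotient.exact' h
    have h1 : g • a = a := congrArg Prod.fst hg
    have h2 : g • a = b := congrArg Prod.snd hg
    exact hab (h1.symm.trans h2)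
  have h23 : q2 ≠ q3 := by
    intro h
    obtain ⟨g, hg⟩ := Quotient.exact' h
    have h1 : g • a = c := congrArg Prod.fst hg
    have h2 : g • a = d := congrArg Prod.snd hg
    exact hcd (h1.symm.trans h2)
  have h3 : 3 ≤ Nat.card (orbitRel.Quotient G (X × X)) := by
    classical
    have : Fintype (orbitRel.Quotient G (X × X)) := Fintype.ofFinite _
    rw [Nat.card_eq_fintype_card]
    have hc : ({q1, q2, q3} : Finset (orbitRel.Quotient G (X × X))).card = 3 :=
      Finset.card_eq_three.mpr ⟨q1, q2, q3, h12, h13, h23, rfl⟩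
    rw [← hc]
    exact Finset.card_le_univ _
  omega

theorem card_orbits_of_two_pretransitive [Finite X] (hX : 2 ≤ Nat.card X)
    (h2 : IsMultiplyPretransitive G X 2) : Nat.card (orbitRel.Quotient G (X × X)) = 2 := by
  have hnt : Nontrivial X := by
    rw [← Finite.one_lt_card_iff_nontrivial]
    omega
  obtain ⟨a, b, hab⟩ := exists_pair_ne X
  have htr : IsPretransitive G X := MulAction.isPretransitive_of_is_two_pretransitive
  rw [Nat.card_eq_two_iff]
  refine ⟨Quotient.mk'' (a, a), Quotient.mk'' (a, b), ?_, ?_⟩
  · intro h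
    obtain ⟨g, hg⟩ := Quotient.exact' h
    have h1 : g • a = a := congrArg Prod.fst hg
    have h2 : g • b = a := congrArg Prod.snd hg
    apply hab
    have := h1.trans h2.symm
    exact smul_left_cancel g this
  · ext q
    simp only [Set.mem_univ, iff_true, Set.mem_insert_iff, Set.mem_singleton_iff]
    induction q using Quotient.inductionOn' with
    | h p =>
      obtain ⟨x, y⟩ := p
      by_cases hxy : x = y
      · left
        subst hxy
        apply Quotient.sound'
        obtain ⟨g, hg⟩ := MulAction.exists_smul_eq G a x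
        exact ⟨g, Prod.ext hg hg⟩
      · right
        apply Quotient.sound'
        obtain ⟨g, h1, h2⟩ := (MulAction.is_two_pretransitive_iff.mp h2) hab hxy
        exact ⟨g, Prod.ext h1 h2⟩

/-- For a transitive action on at least two points: `π - 1` is an irreducible character iff the
action is 2-transitive. -/
theorem isIrrCharacter_perm_sub_one_iff [Finite G] [Finite X] [MulAction.IsPretransitive G X]
    (hX : 2 ≤ Nat.card X) :
    Cfsg.IsIrrCharacter G (fun g => (Nat.card (MulAction.fixedBy X g) : ℂ) - 1) ↔
      MulAction.IsMultiplyPretransitive G X 2 := by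
  classical
  have : Fintype G := Fintype.ofFinite G
  have hne : Nonempty X := by
    rw [← Finite.card_pos_iff]
    omega
  obtain ⟨x₀⟩ := hne
  obtain ⟨π, hπdef⟩ : ∃ π : G → ℂ, π = fun g => (Nat.card (MulAction.fixedBy X g) : ℂ) := ⟨_, rfl⟩
  have hπapp : ∀ g, π g = (Nat.card (MulAction.fixedBy X g) : ℂ) := fun g => by rw [hπdef]
  have hgoal : (fun g => (Nat.card (MulAction.fixedBy X g) : ℂ) - 1) = fun g => π g - 1 := by
    funext g
    rw [hπapp]
  rw [hgoal]
  have hπ : Cfsg.IsCharacter G π := by
    have h := isCharacter_indFun (stabilizer G x₀) (fun _ => (1 : ℂ))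
      Cfsg.Agent.Helper79.isCharacter_one
    have e : π = Cfsg.indFun (stabilizer G x₀) (fun _ => (1 : ℂ)) := by
      funext g
      rw [Cfsg.Agent.Helper15.indFun_stabilizer_one_apply, hπapp]
      congr 1
      apply Nat.card_congr
      apply Equiv.subtypeEquivRight
      intro z
      simp [mem_fixedBy, orbit_eq_univ]
    rw [e]
    exact h
  have hπcl := Cfsg.Agent.Helper79.isCharacter_isClassFunction hπ
  obtain ⟨r, hr⟩ : ∃ r : ℕ, r = Nat.card (orbitRel.Quotient G (X × X)) := ⟨_, rfl⟩
  have hG : (Nat.card G : ℂ) ≠ 0 := by exact_mod_cast Nat.card_pos.ne'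
  have hB1 : ∑ g : G, π g = (Nat.card G : ℂ) := by
    have h := sum_natCard_fixedBy G X
    have h1 : Nat.card (orbitRel.Quotient G X) = 1 := by
      have hsub : Subsingleton (orbitRel.Quotient G X) :=
        (MulAction.pretransitive_iff_subsingleton_quotient G X).mp inferInstance
      have hne : Nonempty (orbitRel.Quotient G X) := ⟨Quotient.mk'' x₀⟩
      exact Nat.card_eq_one_iff_unique.mpr ⟨hsub, hne⟩
    rw [h1, one_mul] at h
    simp only [hπapp]
    exact_mod_cast h
  have hB2 : ∑ g : G, π g * π g = (r : ℂ) * (Nat.card G : ℂ) := by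
    have h := sum_natCard_fixedBy G (X × X)
    simp only [card_fixedBy_prod] at h
    rw [← hr] at h
    simp only [hπapp]
    exact_mod_cast h
  have hconj : ∀ g, conj (π g - 1) = π g - 1 := by
    intro g
    rw [hπapp]
    simp
  have hnorm : Cfsg.classInner (fun g => π g - 1) (fun g => π g - 1) = (r : ℂ) - 1 := by
    unfold Cfsg.classInner
    simp only [hconj]
    have hsum : ∑ g : G, (π g - 1) * (π g - 1)
        = ∑ g : G, π g * π g - 2 * ∑ g : G, π g + (Nat.card G : ℂ) := by
      have : ∀ g : G, (π g - 1) * (π g - 1) = π g * π g - 2 * π g + 1 := fun g => by ring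
      simp only [this]
      rw [Finset.sum_add_distrib, Finset.sum_sub_distrib, ← Finset.mul_sum, Finset.sum_const,
        Finset.card_univ, Nat.card_eq_fintype_card]
      simp
    rw [hsum, hB1, hB2]
    field_simp
    ring
  have htriv : Cfsg.IsIrrCharacter G (fun _ => (1 : ℂ)) := Cfsg.Agent.Helper79.isIrrCharacter_one
  have hπ1 : Cfsg.classInner π (fun _ => (1 : ℂ)) = 1 := by
    unfold Cfsg.classInner
    simp only [map_one, mul_one]
    rw [hB1]
    exact inv_mul_cancel₀ hG
  have hψchar : Cfsg.IsCharacter G (fun g => π g - 1) := by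
    apply isCharacter_of_classInner_nat
    · intro g h
      show π (h * g * h⁻¹) - 1 = π g - 1
      rw [hπcl g h]
    · intro χ
      have hlin : Cfsg.classInner (fun g => π g - 1) (χ : G → ℂ)
          = Cfsg.classInner π (χ : G → ℂ) - Cfsg.classInner (fun _ => (1 : ℂ)) (χ : G → ℂ) := by
        unfold Cfsg.classInner
        rw [← mul_sub, ← Finset.sum_sub_distrib]
        congr 1
        apply Finset.sum_congr rfl
        intro g _
        ring
      have h1 := classInner_irr (⟨_, htriv⟩ : Cfsg.IrrCharacter G) χ
      simp only at h1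
      rw [hlin, h1]
      by_cases hχ : (⟨_, htriv⟩ : Cfsg.IrrCharacter G) = χ
      · rw [if_pos hχ]
        refine ⟨0, ?_⟩
        rw [← hχ]
        simp only
        rw [hπ1]
        simp
      · rw [if_neg hχ]
        obtain ⟨m, hm⟩ := classInner_isCharacter_nat hπ (Cfsg.Agent.Helper79.irr_isCharacter χ)
        exact ⟨m, by rw [hm, sub_zero]⟩
  constructor
  · intro hirr
    have h1 := classInner_irr (⟨_, hirr⟩ : Cfsg.IrrCharacter G) ⟨_, hirr⟩
    rw [if_pos rfl] at h1
    simp only at h1
    rw [hnorm] at h1
    have hr2 : r = 2 := by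
      have : (r : ℂ) = 2 := by linear_combination h1
      exact_mod_cast this
    exact two_pretransitive_of_card_orbits (hr ▸ hr2)
  · intro h2
    have hr2 : r = 2 := by rw [hr]; exact card_orbits_of_two_pretransitive hX h2
    apply isIrrCharacter_of_norm_one _ hψchar
    rw [hnorm, hr2]
    norm_num

end

end Cfsg.Agent.Helper3
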