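import Mathlib
import Cfsg.Agent.Helper59.ZassOdd

/-!
# Counting products of two involutions in a Zassenhaus group (Feit)

* `zassInv_pairs_class_le` : in any finite group, the number of pairs `(x, y)` of elements of square
  one whose product lies in a given conjugacy class is at most `|G|`.
* `zassInv_classes` : a simple Zassenhaus group whose two-point stabilisers have odd order `e`
  (with `e + 1 < |Ω|`), in which a non-identity element of a subgroup `H` of order `|Ω| - 1` that is
  a product of two involutions is an involution, has at least `e` conjugacy classes missing `H`.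
-/

set_option autoImplicit false

namespace Cfsg.Agent.Helper3

open MulAction Cfsg.Agent.Helper15 Cfsg.Agent.Helper59

theorem zassInv_orderOf_conj {G : Type*} [Group G] (t x : G) :
    orderOf (t * x * t⁻¹) = orderOf x := by
  have h : SemiconjBy t x (t * x * t⁻¹) := by
    show t * x = t * x * t⁻¹ * t
    group
  exact (h.orderOf_eq t).symm

theorem zassInv_sq_of_orderOf {G : Type*} [Group G] {x : G} (hx : orderOf x = 2) : x * x = 1 := by
  rw [← pow_two, ← hx, pow_orderOf_eq_one]

/-- The number of pairs of elements of square one whose product lies in a given conjugacy class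
is at most the order of the group. -/
theorem zassInv_pairs_class_le {G : Type*} [Group G] [Fintype G] [DecidableEq G]
    (C : ConjClasses G) :
    ((Finset.univ : Finset (G × G)).filter
      (fun p => p.1 * p.1 = 1 ∧ p.2 * p.2 = 1 ∧ ConjClasses.mk (p.1 * p.2) = C)).card ≤
      Fintype.card G := by
  classical
  set S := (Finset.univ : Finset (G × G)).filter
      (fun p => p.1 * p.1 = 1 ∧ p.2 * p.2 = 1 ∧ ConjClasses.mk (p.1 * p.2) = C) with hS
  rcases S.eq_empty_or_nonempty with h0 | ⟨⟨x0, y0⟩, hp0⟩
  · rw [h0]; simp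
  rw [hS, Finset.mem_filter] at hp0
  obtain ⟨-, hx0, hy0, hC0⟩ := hp0
  dsimp only at hx0 hy0 hC0
  have hx0i : x0⁻¹ = x0 := inv_eq_of_mul_eq_one_left hx0
  have hy0i : y0⁻¹ = y0 := inv_eq_of_mul_eq_one_left hy0
  have hex : ∀ p ∈ S, ∃ t : G, t * (x0 * y0) * t⁻¹ = p.1 * p.2 := by
    intro p hp
    rw [hS, Finset.mem_filter] at hp
    have h1 : ConjClasses.mk (x0 * y0) = ConjClasses.mk (p.1 * p.2) := by rw [hp.2.2.2, hC0]
    exact isConj_iff.mp (ConjClasses.mk_eq_mk_iff_isConj.mp h1)
  let T : G → G := fun g => if h : ∃ t : G, t * (x0 * y0) * t⁻¹ = g then h.choose else 1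
  have hT : ∀ p ∈ S, T (p.1 * p.2) * (x0 * y0) * (T (p.1 * p.2))⁻¹ = p.1 * p.2 := by
    intro p hp
    have h := hex p hp
    simp only [T, dif_pos h]
    exact h.choose_spec
  let Φ : G × G → G :=
    fun p => T (p.1 * p.2) * x0 * (T (p.1 * p.2))⁻¹ * p.1 * T (p.1 * p.2)
  have hΦ : ∀ p ∈ S, Φ p * (x0 * y0) * (Φ p)⁻¹ = p.1 * p.2 := by
    rintro ⟨x, y⟩ hp
    have h1 := hT (x, y) hp
    rw [hS, Finset.mem_filter] at hp
    obtain ⟨-, hx, hy, -⟩ := hp
    dsimp only at hx hy h1 ⊢
    have hxi : x⁻¹ = x := inv_eq_of_mul_eq_one_left hx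
    have hyi : y⁻¹ = y := inv_eq_of_mul_eq_one_left hy
    set t := T (x * y) with ht
    have hyx : y * x = t * (y0 * x0) * t⁻¹ := by
      have h2 : y * x = (x * y)⁻¹ := by rw [mul_inv_rev, hxi, hyi]
      rw [h2, ← h1]
      simp only [mul_inv_rev, inv_inv, hx0i, hy0i, mul_assoc]
    show t * x0 * t⁻¹ * x * t * (x0 * y0) * (t * x0 * t⁻¹ * x * t)⁻¹ = x * y
    calc t * x0 * t⁻¹ * x * t * (x0 * y0) * (t * x0 * t⁻¹ * x * t)⁻¹
        = t * x0 * t⁻¹ * (x * (t * (x0 * y0) * t⁻¹) * x⁻¹) * t * x0⁻¹ * t⁻¹ := by group
      _ = t * x0 * t⁻¹ * (x * (x * y) * x⁻¹) * t * x0⁻¹ * t⁻¹ := by rw [h1]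
      _ = t * x0 * t⁻¹ * (y * x) * t * x0⁻¹ * t⁻¹ := by
          rw [hxi, ← mul_assoc x x y, hx, one_mul]
      _ = t * x0 * t⁻¹ * (t * (y0 * x0) * t⁻¹) * t * x0⁻¹ * t⁻¹ := by rw [hyx]
      _ = t * (x0 * y0) * (x0 * x0⁻¹) * t⁻¹ := by group
      _ = x * y := by rw [mul_inv_cancel, mul_one, h1]
  calc S.card ≤ (Finset.univ : Finset G).card :=
        Finset.card_le_card_of_injOn Φ (fun _ _ => Finset.mem_coe.mpr (Finset.mem_univ _)) ?_
    _ = Fintype.card G := Finset.card_univ
  rintro ⟨x, y⟩ hp ⟨x', y'⟩ hq hpq
  have hp' := hΦ (x, y) (Finset.mem_coe.mp hp)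
  have hq' := hΦ (x', y') (Finset.mem_coe.mp hq)
  rw [hpq, hq'] at hp'
  dsimp only at hp'
  have hxx : x = x' := by
    have h3 : T (x * y) * x0 * (T (x * y))⁻¹ * x * T (x * y) =
        T (x' * y') * x0 * (T (x' * y'))⁻¹ * x' * T (x' * y') := hpq
    rw [← hp'] at h3
    exact mul_left_cancel (mul_right_cancel h3)
  subst hxx
  have hyy : y = y' := (mul_left_cancel hp').symm
  rw [hyy]

/-- Feit's class count for simple Zassenhaus groups with two-point stabilisers of odd order. -/
theorem zassInv_classes {G Ω : Type*} [Group G] [Finite G] [MulAction G Ω] [Finite Ω]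
    [IsSimpleGroup G] (hZ : Cfsg.IsZassenhausGroup G Ω) {a b : Ω} (hab : a ≠ b)
    (hodd : Odd (Nat.card ↥(stabilizer G a ⊓ stabilizer G b)))
    (hlt : Nat.card ↥(stabilizer G a ⊓ stabilizer G b) + 1 < Nat.card Ω)
    (H : Subgroup G) (hHcard : Nat.card H + 1 = Nat.card Ω)
    (hH : ∀ u ∈ H, u ≠ 1 → ∀ x y : G, orderOf x = 2 → orderOf y = 2 → x * y = u →
      orderOf u = 2) :
    Nat.card ↥(stabilizer G a ⊓ stabilizer G b) ≤
      Nat.card {C : ConjClasses G // ∀ g : G, ConjClasses.mk g = C → g ∉ H} := by
  classical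
  have := Fintype.ofFinite G
  have := Fintype.ofFinite Ω
  have h3 : 3 ≤ Nat.card Ω := zass_three_le_card hZ
  have hG : Nat.card G = Nat.card Ω * (Nat.card Ω - 1) *
      Nat.card ↥(stabilizer G a ⊓ stabilizer G b) := zass_card_group hZ hab
  have hI := zassOdd_card_invol hZ hab hodd
  have hmoved := fun (x : G) (hx : orderOf x = 2) => zassOdd_card_moved hZ hab hodd hx
  generalize Nat.card ↥(stabilizer G a ⊓ stabilizer G b) = e at hodd hlt hG hI ⊢
  generalize hn : Nat.card Ω = n at hlt hHcard h3 hG hI hmoved
  -- involutions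
  set inv : Finset G := Finset.univ.filter (fun x => orderOf x = 2) with hinv
  have hinv_card : Nat.card {x : G // orderOf x = 2} = inv.card := by
    rw [Nat.card_eq_fintype_card, Fintype.card_subtype]
  rw [hinv_card] at hI
  have hmem : ∀ x : G, x ∈ inv ↔ orderOf x = 2 := by
    intro x; rw [hinv, Finset.mem_filter]; simp
  have hsq : ∀ x ∈ inv, x * x = 1 := fun x hx => zassInv_sq_of_orderOf ((hmem x).mp hx)
  have hinvi : ∀ x ∈ inv, x⁻¹ = x := fun x hx => inv_eq_of_mul_eq_one_left (hsq x hx)
  -- pairs
  set pairs : Finset (G × G) := inv ×ˢ inv with hpairs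
  set avoid : ConjClasses G → Prop := fun C => ∀ g : G, ConjClasses.mk g = C → g ∉ H with havoid
  set f : G × G → ConjClasses G := fun p => ConjClasses.mk (p.1 * p.2) with hf
  have hcardC : Nat.card {C : ConjClasses G // avoid C} = (Finset.univ.filter avoid).card := by
    rw [Nat.card_eq_fintype_card, Fintype.card_subtype]
  show e ≤ Nat.card {C : ConjClasses G // avoid C}
  rw [hcardC]
  set c := (Finset.univ.filter avoid).card with hc
  have h1 : (pairs.filter (fun p => avoid (f p))).card ≤ c * Nat.card G := by
    have hmaps : ((pairs.filter (fun p => avoid (f p)) : Finset (G × G)) : Set (G × G)).MapsTo f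
        (Finset.univ.filter avoid : Finset (ConjClasses G)) := by
      intro p hp
      have hp' := (Finset.mem_filter.mp (Finset.mem_coe.mp hp)).2
      exact Finset.mem_coe.mpr (Finset.mem_filter.mpr ⟨Finset.mem_univ _, hp'⟩)
    rw [Finset.card_eq_sum_card_fiberwise hmaps]
    calc _ ≤ ∑ _C ∈ Finset.univ.filter avoid, Nat.card G := Finset.sum_le_sum ?_
      _ = c * Nat.card G := by rw [Finset.sum_const, smul_eq_mul]
    intro C _
    refine le_trans (Finset.card_le_card ?_)
      ((zassInv_pairs_class_le C).trans_eq Nat.card_eq_fintype_card.symm)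
    intro p hp
    rw [Finset.mem_filter, Finset.mem_filter, hpairs, Finset.mem_product] at hp
    rw [Finset.mem_filter]
    exact ⟨Finset.mem_univ _, hsq _ hp.1.1.1, hsq _ hp.1.1.2, hp.2⟩
  have h2 : (pairs.filter (fun p => avoid (f p))).card +
      (pairs.filter (fun p => ¬ avoid (f p))).card = pairs.card :=
    Finset.card_filter_add_card_filter_not _
  have h4 : pairs.card = inv.card * inv.card := Finset.card_product _ _
  -- bad pairs
  have hbad : ∀ p ∈ pairs.filter (fun p => ¬ avoid (f p)),
      p.1 * p.2 = 1 ∨ (orderOf (p.1 * p.2) = 2 ∧ 2 ∣ Nat.card H) := by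
    rintro ⟨x, y⟩ hp
    rw [Finset.mem_filter, hpairs, Finset.mem_product] at hp
    obtain ⟨⟨hx, hy⟩, hna⟩ := hp
    dsimp only at hx hy ⊢
    rw [havoid] at hna
    push Not at hna
    obtain ⟨g, hg, hgH⟩ := hna
    obtain ⟨t, ht⟩ := isConj_iff.mp (ConjClasses.mk_eq_mk_iff_isConj.mp hg)
    by_cases hg1 : g = 1
    · left
      rw [← ht, hg1]
      group
    · right
      have hgo : orderOf g = 2 := by
        refine hH g hgH hg1 (t⁻¹ * x * t) (t⁻¹ * y * t) ?_ ?_ ?_
        · have := zassInv_orderOf_conj t⁻¹ x
          rw [inv_inv] at this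
          rw [this]; exact (hmem x).mp hx
        · have := zassInv_orderOf_conj t⁻¹ y
          rw [inv_inv] at this
          rw [this]; exact (hmem y).mp hy
        · have : x * y = t * g * t⁻¹ := ht.symm
          calc t⁻¹ * x * t * (t⁻¹ * y * t) = t⁻¹ * (x * y) * t := by group
            _ = g := by rw [this]; group
      refine ⟨?_, ?_⟩
      · rw [← ht, zassInv_orderOf_conj]; exact hgo
      · rw [← hgo]; exact Subgroup.orderOf_dvd_natCard H hgH
  have hn1 : 0 < n - 1 := by omega
  by_cases hO : Odd n
  · -- odd degree: every involution has exactly one fixed point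
    rw [if_pos hO] at hI
    have hIe : inv.card = n * e := by
      have : inv.card * (n - 1) = n * e * (n - 1) := by rw [hI]; ring
      exact Nat.eq_of_mul_eq_mul_right hn1 this
    have hfix1 : ∀ x ∈ inv, (Finset.univ.filter (fun d : Ω => x • d = d)).card = 1 := by
      intro x hx
      have hm := hmoved x ((hmem x).mp hx)
      rw [if_pos hO, Nat.card_eq_fintype_card, Fintype.card_subtype] at hm
      have hs := Finset.card_filter_add_card_filter_not (s := (Finset.univ : Finset Ω))
        (fun d : Ω => x • d = d)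
      rw [Finset.card_univ, ← Nat.card_eq_fintype_card, hn] at hs
      have hm' : (Finset.univ.filter (fun d : Ω => ¬ x • d = d)).card = n - 1 := hm
      omega
    -- the number of involutions fixing a point
    set J : Ω → Finset G := fun d => inv.filter (fun y => y • d = d) with hJ
    have hJle : ∀ (g : G) (d : Ω), (J d).card ≤ (J (g • d)).card := by
      intro g d
      refine Finset.card_le_card_of_injOn (fun y => g * y * g⁻¹) ?_ ?_
      · intro y hy
        have hy' := Finset.mem_filter.mp (Finset.mem_coe.mp hy)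
        refine Finset.mem_coe.mpr (Finset.mem_filter.mpr ⟨?_, ?_⟩)
        · rw [hmem, zassInv_orderOf_conj]; exact (hmem y).mp hy'.1
        · rw [mul_smul, mul_smul, inv_smul_smul, hy'.2]
      · intro y _ y' _ hyy
        exact mul_left_cancel (mul_right_cancel hyy)
    have hpre := zass_pretrans hZ
    have hJeq : ∀ d : Ω, (J d).card = (J a).card := by
      intro d
      obtain ⟨g, hg⟩ := MulAction.exists_smul_eq G a d
      have h5 := hJle g a
      have h6 := hJle g⁻¹ d
      rw [hg] at h5
      rw [← hg, inv_smul_smul] at h6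
      rw [← hg]
      rw [← hg] at h5
      exact le_antisymm h6 h5
    have hJsum : ∑ d : Ω, (J d).card = inv.card := by
      have h7 := Finset.sum_card_bipartiteAbove_eq_sum_card_bipartiteBelow
        (s := (Finset.univ : Finset Ω)) (t := inv) (r := fun (d : Ω) (y : G) => y • d = d)
      have h8 : ∑ y ∈ inv, (Finset.univ.filter (fun d : Ω => y • d = d)).card = inv.card := by
        rw [Finset.sum_congr rfl hfix1, Finset.sum_const, smul_eq_mul, mul_one]
      exact h7.trans h8
    have hJa : (J a).card = e := by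
      rw [Finset.sum_congr rfl (fun d _ => hJeq d), Finset.sum_const, Finset.card_univ,
        smul_eq_mul, ← Nat.card_eq_fintype_card, hn, hIe] at hJsum
      exact Nat.eq_of_mul_eq_mul_left (by omega) hJsum
    -- commuting involutions
    have hcomm : ∀ x ∈ inv, (inv.filter (fun y => x * y = y * x)).card ≤ e := by
      intro x hx
      obtain ⟨d, hd⟩ := Finset.card_eq_one.mp (hfix1 x hx)
      have hdx : x • d = d := by
        have : d ∈ Finset.univ.filter (fun d : Ω => x • d = d) := by
          rw [hd]; exact Finset.mem_singleton_self d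
        exact (Finset.mem_filter.mp this).2
      rw [← hJa, ← hJeq d]
      apply Finset.card_le_card
      intro y hy
      rw [Finset.mem_filter] at hy
      rw [hJ, Finset.mem_filter]
      refine ⟨hy.1, ?_⟩
      have h9 : x • (y • d) = y • d := by
        rw [← mul_smul, hy.2, mul_smul, hdx]
      have : y • d ∈ Finset.univ.filter (fun d : Ω => x • d = d) :=
        Finset.mem_filter.mpr ⟨Finset.mem_univ _, h9⟩
      rw [hd] at this
      exact Finset.mem_singleton.mp this
    have hQ : (pairs.filter (fun p => p.1 * p.2 = p.2 * p.1)).card ≤ inv.card * e := by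
      have hmaps : ((pairs.filter (fun p => p.1 * p.2 = p.2 * p.1) : Finset (G × G)) :
          Set (G × G)).MapsTo Prod.fst (inv : Finset G) := by
        intro p hp
        have hp' := (Finset.mem_filter.mp (Finset.mem_coe.mp hp)).1
        rw [hpairs, Finset.mem_product] at hp'
        exact Finset.mem_coe.mpr hp'.1
      rw [Finset.card_eq_sum_card_fiberwise hmaps]
      calc _ ≤ ∑ _x ∈ inv, e := Finset.sum_le_sum ?_
        _ = inv.card * e := by rw [Finset.sum_const, smul_eq_mul]
      intro x hx
      refine le_trans (Finset.card_le_card_of_injOn Prod.snd ?_ ?_) (hcomm x hx)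
      · intro p hp
        have hp' := Finset.mem_filter.mp (Finset.mem_coe.mp hp)
        have hp'' := Finset.mem_filter.mp hp'.1
        rw [hpairs, Finset.mem_product] at hp''
        refine Finset.mem_coe.mpr (Finset.mem_filter.mpr ⟨hp''.1.2, ?_⟩)
        rw [← hp'.2]; exact hp''.2
      · intro p hp q hq hpq
        have hp' := Finset.mem_filter.mp (Finset.mem_coe.mp hp)
        have hq' := Finset.mem_filter.mp (Finset.mem_coe.mp hq)
        exact Prod.ext (hp'.2.trans hq'.2.symm) hpq
    have hB : (pairs.filter (fun p => ¬ avoid (f p))).card ≤ inv.card * e := by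
      refine le_trans (Finset.card_le_card ?_) hQ
      rintro ⟨x, y⟩ hp
      have hb := hbad (x, y) hp
      rw [Finset.mem_filter] at hp ⊢
      refine ⟨hp.1, ?_⟩
      have hp1 := hp.1
      rw [hpairs, Finset.mem_product] at hp1
      dsimp only at hb hp1 ⊢
      have hxi := hinvi x hp1.1
      have hyi := hinvi y hp1.2
      have hxy2 : (x * y) * (x * y) = 1 := by
        rcases hb with hb | ⟨hb, -⟩
        · rw [hb, one_mul]
        · exact zassInv_sq_of_orderOf hb
      have : x * y = (x * y)⁻¹ := (inv_eq_of_mul_eq_one_left hxy2).symm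
      rw [mul_inv_rev, hxi, hyi] at this
      exact this
    -- arithmetic: I^2 ≤ c * |G| + I * e with I = n * e, |G| = n * (n - 1) * e
    have h10 : inv.card * inv.card ≤ c * Nat.card G + inv.card * e := by
      rw [← h4, ← h2]
      exact Nat.add_le_add h1 hB
    rw [hG, hIe] at h10
    have h11 : (n * e) * ((n - 1) * e) ≤ (n * e) * ((n - 1) * c) := by
      have h12 : n * e * (n * e) = n * e * ((n - 1) * e) + n * e * e := by
        have : n = (n - 1) + 1 := by omega
        calc n * e * (n * e) = n * e * (((n - 1) + 1) * e) := by rw [← this]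
          _ = n * e * ((n - 1) * e) + n * e * e := by ring
      have h13 : c * (n * (n - 1) * e) = n * e * ((n - 1) * c) := by ring
      rw [h12, h13] at h10
      exact Nat.le_of_add_le_add_right h10
    have hne : 0 < n * e := by
      have he0 : 0 < e := hodd.pos
      positivity
    have h14 := Nat.le_of_mul_le_mul_left h11 hne
    exact Nat.le_of_mul_le_mul_left h14 hn1
  · -- even degree: no element of H is an involution
    rw [if_neg hO] at hI
    have hIe : inv.card = (n - 1) * e := by
      have : inv.card * n = (n - 1) * e * n := by rw [hI]; ring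
      exact Nat.eq_of_mul_eq_mul_right (by omega) this
    have hHodd : ¬ 2 ∣ Nat.card H := by
      have hE : Even n := Nat.not_odd_iff_even.mp hO
      intro h2
      have : Even (Nat.card H) := even_iff_two_dvd.mpr h2
      have h5 : Odd n := by rw [← hHcard]; exact this.add_one
      exact hO h5
    have hB : (pairs.filter (fun p => ¬ avoid (f p))).card ≤ inv.card := by
      refine Finset.card_le_card_of_injOn Prod.fst ?_ ?_
      · intro p hp
        have hp' := (Finset.mem_filter.mp (Finset.mem_coe.mp hp)).1
        rw [hpairs, Finset.mem_product] at hp'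
        exact Finset.mem_coe.mpr hp'.1
      · have key : ∀ p ∈ pairs.filter (fun p => ¬ avoid (f p)), p.2 = p.1 := by
          intro p hp
          have hp' := (Finset.mem_filter.mp hp).1
          rw [hpairs, Finset.mem_product] at hp'
          rcases hbad p hp with hb | ⟨-, hb⟩
          · have h5 : p.1⁻¹ = p.2 := inv_eq_of_mul_eq_one_right hb
            rw [← h5, hinvi _ hp'.1]
          · exact absurd hb hHodd
        intro p hp q hq hpq
        have kp := key p (Finset.mem_coe.mp hp)
        have kq := key q (Finset.mem_coe.mp hq)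
        exact Prod.ext hpq (by rw [kp, kq, hpq])
    have h10 : inv.card * inv.card ≤ c * Nat.card G + inv.card := by
      rw [← h4, ← h2]
      exact Nat.add_le_add h1 hB
    rw [hG, hIe] at h10
    by_contra hce
    push Not at hce
    have he0 : 0 < e := hodd.pos
    have hc1 : c + 1 ≤ e := hce
    have hI0 : 0 < (n - 1) * e := Nat.mul_pos hn1 he0
    -- (n-1) e ≤ c n + 1
    have h11 : (n - 1) * e * ((n - 1) * e) ≤ (n - 1) * e * (c * n + 1) := by
      have h13 : c * (n * (n - 1) * e) + (n - 1) * e = (n - 1) * e * (c * n + 1) := by ring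
      rw [h13] at h10
      exact h10
    have h14 := Nat.le_of_mul_le_mul_left h11 hI0
    -- (n-1) e ≥ (n-1)(c+1) = (n-1) c + n - 1, and c n + 1 = (n-1) c + c + 1
    have h15 : (n - 1) * (c + 1) ≤ (n - 1) * e := Nat.mul_le_mul_left _ hc1
    have h16 : (n - 1) * (c + 1) = (n - 1) * c + (n - 1) := by ring
    have h17 : c * n + 1 = (n - 1) * c + c + 1 := by
      have : n = (n - 1) + 1 := by omega
      calc c * n + 1 = c * ((n - 1) + 1) + 1 := by rw [← this]
        _ = (n - 1) * c + c + 1 := by ring
    omega

end Cfsg.Agent.Helper3
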