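import Mathlib
import Cfsg.Agent.Helper3.FeitZ1
import Cfsg.Agent.Helper3.TwoTrans
import Cfsg.Agent.Helper25.Sib5
import Cfsg.Agent.S0878
import Cfsg.Agent.S0884
import Cfsg.Agent.Helper59.ZassOdd

/-!
# Feit's theorem on Zassenhaus groups: the point stabiliser

Structure of the point stabiliser `N = G_a` of a Zassenhaus group relative to a subgroup `H ≤ N`
of order `|Ω| - 1` whose non-identity elements fix only `a` (the Frobenius kernel), and the core of
Feit's theorem: coherence of the characters of `N` non-trivial on `H` contradicts `2e < h - 1`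
(`fz_core`).
-/

set_option autoImplicit false

namespace Cfsg.Agent.Helper3

open MulAction Cfsg.Agent.Helper15 Cfsg.Agent.Helper59

section

variable {G Ω : Type*} [Group G] [MulAction G Ω]

/-- An element fixing `a` and nothing else lies in `H`. -/
theorem fz_mem_H [Finite G] [Finite Ω] (hZ : Cfsg.IsZassenhausGroup G Ω) {a : Ω} (H : Subgroup G)
    (hHa : H ≤ stabilizer G a) (hHcard : Nat.card H + 1 = Nat.card Ω)
    (hHfix : ∀ u ∈ H, u ≠ 1 → ∀ c : Ω, u • c = c → c = a) {g : G} (hga : g • a = a)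
    (hg : ∀ c : Ω, g • c = c → c = a) : g ∈ H := by
  classical
  let φ : {u : H // u ≠ 1} → {g : G // g • a = a ∧ ∀ c : Ω, g • c = c → c = a} :=
    fun u => ⟨u.1.1, hHa u.1.2, hHfix u.1.1 u.1.2 (fun h => u.2 (Subtype.ext h))⟩
  have hφinj : Function.Injective φ := by
    intro u v h
    have h' : (φ u).1 = (φ v).1 := congrArg Subtype.val h
    have h'' : (u.1 : G) = (v.1 : G) := h'
    exact Subtype.ext (Subtype.ext h'')
  have hcard : Nat.card {u : H // u ≠ 1} =
      Nat.card {g : G // g • a = a ∧ ∀ c : Ω, g • c = c → c = a} := by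
    have h1 := Cfsg.Agent.S0878.zass_card_unique_fix hZ a
    have h2 : Nat.card {u : H // u ≠ 1} + 1 = Nat.card H := by
      have := Fintype.ofFinite H
      have h3 : Fintype.card {u : H // ¬ (u = 1)} =
          Fintype.card H - Fintype.card {u : H // u = 1} := Fintype.card_subtype_compl _
      rw [Fintype.card_subtype_eq] at h3
      have h4 : 0 < Fintype.card H := Fintype.card_pos
      rw [Nat.card_eq_fintype_card, Nat.card_eq_fintype_card]
      change Fintype.card {u : H // ¬ (u = 1)} + 1 = _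
      omega
    omega
  have hφsurj : Function.Surjective φ :=
    (Function.Injective.bijective_of_nat_card_le hφinj hcard.ge).2
  obtain ⟨u, hu⟩ := hφsurj ⟨g, hga, hg⟩
  have h1 : (u.1 : G) = g := congrArg Subtype.val hu
  rw [← h1]
  exact u.1.2

/-- `H` is normalised by the point stabiliser. -/
theorem fz_conj_mem [Finite G] [Finite Ω] (hZ : Cfsg.IsZassenhausGroup G Ω) {a : Ω}
    (H : Subgroup G) (hHa : H ≤ stabilizer G a) (hHcard : Nat.card H + 1 = Nat.card Ω)
    (hHfix : ∀ u ∈ H, u ≠ 1 → ∀ c : Ω, u • c = c → c = a) {g : G} (hg : g • a = a) {u : G}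
    (hu : u ∈ H) : g * u * g⁻¹ ∈ H := by
  by_cases hu1 : u = 1
  · subst hu1
    simp
  · apply fz_mem_H hZ H hHa hHcard hHfix
    · have hga' : g⁻¹ • a = a := by rw [inv_smul_eq_iff, hg]
      have hua : u • a = a := hHa hu
      rw [mul_smul, mul_smul, hga', hua, hg]
    · intro c hc
      have h1 : u • (g⁻¹ • c) = g⁻¹ • c := by
        rw [mul_smul, mul_smul] at hc
        calc u • (g⁻¹ • c) = g⁻¹ • (g • (u • (g⁻¹ • c))) := by rw [inv_smul_smul]
          _ = g⁻¹ • c := by rw [hc]
      have h2 := hHfix u hu hu1 _ h1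
      rw [inv_smul_eq_iff, hg] at h2
      exact h2

/-- The point stabiliser controls fusion in `H`. -/
theorem fz_fus [Finite G] [Finite Ω] (hZ : Cfsg.IsZassenhausGroup G Ω) {a : Ω}
    (H : Subgroup G) (hHa : H ≤ stabilizer G a) (hHcard : Nat.card H + 1 = Nat.card Ω)
    (hHfix : ∀ u ∈ H, u ≠ 1 → ∀ c : Ω, u • c = c → c = a) {u : G} (hu : u ∈ H) (hu1 : u ≠ 1)
    (x : G) : x * u * x⁻¹ ∈ H ↔ x ∈ stabilizer G a := by
  constructor
  · intro hx
    have hne : x * u * x⁻¹ ≠ 1 := by
      intro h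
      apply hu1
      have : u = x⁻¹ * (x * u * x⁻¹) * x := by group
      rw [this, h]
      group
    have hua : u • a = a := hHa hu
    have h1 : (x * u * x⁻¹) • (x • a) = x • a := by
      rw [mul_smul, mul_smul, inv_smul_smul, hua]
    exact hHfix _ hx hne _ h1
  · intro hx
    exact fz_conj_mem hZ H hHa hHcard hHfix hx hu

/-- An element of the point stabiliser outside `H` fixes a second point. -/
theorem fz_exists_fix [Finite G] [Finite Ω] (hZ : Cfsg.IsZassenhausGroup G Ω) {a : Ω}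
    (H : Subgroup G) (hHa : H ≤ stabilizer G a) (hHcard : Nat.card H + 1 = Nat.card Ω)
    (hHfix : ∀ u ∈ H, u ≠ 1 → ∀ c : Ω, u • c = c → c = a) {g : G} (hga : g • a = a)
    (hg : g ∉ H) : ∃ c : Ω, c ≠ a ∧ g • c = c := by
  by_contra hcon
  push Not at hcon
  apply hg
  apply fz_mem_H hZ H hHa hHcard hHfix hga
  intro c hc
  by_contra hca
  exact hcon c hca hc

/-- `H` acts semiregularly off `a`. -/
theorem fz_H_inj {a b : Ω} (H : Subgroup G) (hab : a ≠ b)
    (hHfix : ∀ u ∈ H, u ≠ 1 → ∀ c : Ω, u • c = c → c = a) {v v' : G} (hv : v ∈ H)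
    (hv' : v' ∈ H) (h : v • b = v' • b) : v = v' := by
  by_contra hne
  have h1 : v'⁻¹ * v ≠ 1 := by
    intro h2
    apply hne
    calc v = v' * (v'⁻¹ * v) := by group
      _ = v' := by rw [h2, mul_one]
  have h2 : (v'⁻¹ * v) • b = b := by rw [mul_smul, h, inv_smul_smul]
  exact hab (hHfix _ (H.mul_mem (H.inv_mem hv') hv) h1 b h2).symm

/-- `H` is transitive off `a`. -/
theorem fz_H_trans [Finite G] [Finite Ω] {a b : Ω} (H : Subgroup G)
    (hHa : H ≤ stabilizer G a) (hHcard : Nat.card H + 1 = Nat.card Ω)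
    (hHfix : ∀ u ∈ H, u ≠ 1 → ∀ c : Ω, u • c = c → c = a) (hab : a ≠ b) {c : Ω} (hc : c ≠ a) :
    ∃ v ∈ H, v • b = c := by
  classical
  have := Fintype.ofFinite Ω
  let φ : H → {c : Ω // c ≠ a} := fun v => ⟨(v : G) • b, by
    intro h
    have hva : (v : G) • a = a := hHa v.2
    rw [← hva] at h
    exact hab (smul_left_cancel _ h).symm⟩
  have hφinj : Function.Injective φ := by
    intro v v' h
    have h' : (v : G) • b = (v' : G) • b := congrArg Subtype.val h
    exact Subtype.ext (fz_H_inj H hab hHfix v.2 v'.2 h')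
  have hcard : Nat.card {c : Ω // c ≠ a} = Nat.card H := by
    have h3 : Fintype.card {c : Ω // ¬ (c = a)} =
        Fintype.card Ω - Fintype.card {c : Ω // c = a} := Fintype.card_subtype_compl _
    rw [Fintype.card_subtype_eq] at h3
    have h4 : 0 < Fintype.card Ω := Fintype.card_pos_iff.mpr ⟨a⟩
    rw [Nat.card_eq_fintype_card (α := Ω)] at hHcard
    rw [Nat.card_eq_fintype_card]
    change Fintype.card {c : Ω // ¬ (c = a)} = _
    omega
  have hφsurj : Function.Surjective φ :=
    (Function.Injective.bijective_of_nat_card_le hφinj hcard.le).2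
  obtain ⟨v, hv⟩ := hφsurj ⟨c, hc⟩
  exact ⟨v, v.2, congrArg Subtype.val hv⟩

/-- The Frobenius property: the centraliser of a non-identity element of `H` lies in `H`. -/
theorem fz_centralizer [Finite G] [Finite Ω] (hZ : Cfsg.IsZassenhausGroup G Ω) {a : Ω}
    (H : Subgroup G) (hHa : H ≤ stabilizer G a) (hHcard : Nat.card H + 1 = Nat.card Ω)
    (hHfix : ∀ u ∈ H, u ≠ 1 → ∀ c : Ω, u • c = c → c = a) {u : G} (hu : u ∈ H) (hu1 : u ≠ 1)
    {g : G} (hg : g * u = u * g) : g ∈ H := by
  have hgu : g * u * g⁻¹ = u := by rw [hg]; group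
  have hga : g • a = a :=
    (fz_fus hZ H hHa hHcard hHfix hu hu1 g).mp (by rw [hgu]; exact hu)
  by_contra hgH
  obtain ⟨c, hca, hgc⟩ := fz_exists_fix hZ H hHa hHcard hHfix hga hgH
  have hua : u • a = a := hHa hu
  have h1 : g • (u • c) = u • c := by
    rw [← mul_smul, hg, mul_smul, hgc]
  have h2 : u • c ≠ a := by
    intro h
    rw [← hua] at h
    exact hca (smul_left_cancel _ h)
  have h3 : u • c ≠ c := fun h => hca (hHfix u hu hu1 c h)
  have h4 : g = 1 := hZ.2.2.1 g a c (u • c) (Ne.symm hca) (Ne.symm h3) (Ne.symm h2) hga hgc h1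
  exact hgH (h4 ▸ H.one_mem)

/-- Summing a class function over the point stabiliser: the elements outside `H` are the
`H`-conjugates of the non-identity elements of the two-point stabiliser. -/
theorem fz_sum_stab [Fintype G] [Finite Ω] (hZ : Cfsg.IsZassenhausGroup G Ω) {a b : Ω}
    (hab : a ≠ b) (H : Subgroup G) (hHa : H ≤ stabilizer G a)
    (hHcard : Nat.card H + 1 = Nat.card Ω)
    (hHfix : ∀ u ∈ H, u ≠ 1 → ∀ c : Ω, u • c = c → c = a)
    [Fintype ↥(stabilizer G a)] [Fintype ↥H] [Fintype ↥(stabilizer G a ⊓ stabilizer G b)]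
    (f : G → ℂ) (hf : Cfsg.IsClassFunction G f) :
    ∑ n : ↥(stabilizer G a), f n = ∑ u : ↥H, f u +
      (Nat.card H : ℂ) * (∑ k : ↥(stabilizer G a ⊓ stabilizer G b), f k - f 1) := by
  classical
  have hN : ∑ n : ↥(stabilizer G a), f n =
      ∑ g ∈ Finset.univ.filter (fun g : G => g ∈ stabilizer G a), f g :=
    (Finset.sum_subtype (p := fun g : G => g ∈ stabilizer G a) _ (fun x => by simp) f).symm
  have hHs : ∑ u : ↥H, f u = ∑ g ∈ Finset.univ.filter (fun g : G => g ∈ H), f g :=
    (Finset.sum_subtype (p := fun g : G => g ∈ H) _ (fun x => by simp) f).symm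
  have hEs : ∑ k : ↥(stabilizer G a ⊓ stabilizer G b), f k - f 1 =
      ∑ k ∈ (Finset.univ.filter (fun k : G => k ∈ stabilizer G a ⊓ stabilizer G b)).erase 1,
        f k := by
    rw [Finset.sum_erase_eq_sub (Finset.mem_filter.mpr ⟨Finset.mem_univ _, Subgroup.one_mem _⟩)]
    congr 1
    exact (Finset.sum_subtype (p := fun g : G => g ∈ stabilizer G a ⊓ stabilizer G b) _
      (fun x => by simp) f).symm
  rw [hN, hHs, hEs]
  rw [← Finset.sum_filter_add_sum_filter_not
    (Finset.univ.filter (fun g : G => g ∈ stabilizer G a)) (fun g => g ∈ H) f]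
  have hpart1 : (Finset.univ.filter (fun g : G => g ∈ stabilizer G a)).filter (fun g => g ∈ H) =
      Finset.univ.filter (fun g : G => g ∈ H) := by
    ext g
    simp only [Finset.mem_filter, Finset.mem_univ, true_and]
    exact ⟨fun h => h.2, fun h => ⟨hHa h, h⟩⟩
  rw [hpart1]
  congr 1
  have hmemE : ∀ k : G, k ∈ (Finset.univ.filter
      (fun k : G => k ∈ stabilizer G a ⊓ stabilizer G b)).erase 1 ↔
      k ≠ 1 ∧ k • a = a ∧ k • b = b := by
    intro k
    rw [Finset.mem_erase, Finset.mem_filter, Subgroup.mem_inf, mem_stabilizer_iff,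
      mem_stabilizer_iff]
    simp
  have hbij : ∑ p ∈ (Finset.univ.filter (fun g : G => g ∈ H)) ×ˢ
      ((Finset.univ.filter (fun k : G => k ∈ stabilizer G a ⊓ stabilizer G b)).erase 1), f p.2 =
      ∑ g ∈ (Finset.univ.filter (fun g : G => g ∈ stabilizer G a)).filter (fun g => g ∉ H),
        f g := by
    refine Finset.sum_nbij (fun p => p.1 * p.2 * p.1⁻¹) ?_ ?_ ?_ ?_
    · rintro ⟨v, k⟩ hp
      rw [Finset.mem_product, hmemE] at hp
      obtain ⟨hv, hk1, hka, hkb⟩ := hp
      have hvH : v ∈ H := (Finset.mem_filter.mp hv).2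
      have hva : v • a = a := hHa hvH
      have hva' : v⁻¹ • a = a := by rw [inv_smul_eq_iff, hva]
      rw [Finset.mem_filter, Finset.mem_filter]
      refine ⟨⟨Finset.mem_univ _, ?_⟩, ?_⟩
      · show (v * k * v⁻¹) • a = a
        rw [mul_smul, mul_smul, hva', hka, hva]
      · intro hH
        have hne : v * k * v⁻¹ ≠ 1 := by
          intro h
          apply hk1
          have : k = v⁻¹ * (v * k * v⁻¹) * v := by group
          rw [this, h]
          group
        have h1 : (v * k * v⁻¹) • (v • b) = v • b := by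
          rw [mul_smul, mul_smul, inv_smul_smul, hkb]
        have h2 := hHfix _ hH hne _ h1
        rw [← hva] at h2
        exact hab (smul_left_cancel _ h2).symm
    · rintro ⟨v, k⟩ hp ⟨v', k'⟩ hq hpq
      have hp' := Finset.mem_coe.mp hp
      have hq' := Finset.mem_coe.mp hq
      rw [Finset.mem_product, hmemE] at hp' hq'
      obtain ⟨hv, hk1, hka, hkb⟩ := hp'
      obtain ⟨hv', hk1', hka', hkb'⟩ := hq'
      have hvH : v ∈ H := (Finset.mem_filter.mp hv).2
      have hvH' : v' ∈ H := (Finset.mem_filter.mp hv').2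
      have hva : v • a = a := hHa hvH
      have hva' : v' • a = a := hHa hvH'
      have hpq' : v * k * v⁻¹ = v' * k' * v'⁻¹ := hpq
      have hne : v * k * v⁻¹ ≠ 1 := by
        intro h
        apply hk1
        have : k = v⁻¹ * (v * k * v⁻¹) * v := by group
        rw [this, h]
        group
      have hfa : (v * k * v⁻¹) • a = a := by
        rw [mul_smul, mul_smul, inv_smul_eq_iff.mpr hva.symm, hka, hva]
      have hf1 : (v * k * v⁻¹) • (v • b) = v • b := by
        rw [mul_smul, mul_smul, inv_smul_smul, hkb]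
      have hf2 : (v * k * v⁻¹) • (v' • b) = v' • b := by
        rw [hpq', mul_smul, mul_smul, inv_smul_smul, hkb']
      have hvb : v • b ≠ a := by
        intro h
        rw [← hva] at h
        exact hab (smul_left_cancel _ h).symm
      have hvb' : v' • b ≠ a := by
        intro h
        rw [← hva'] at h
        exact hab (smul_left_cancel _ h).symm
      have hvv : v = v' := by
        apply fz_H_inj H hab hHfix hvH hvH'
        by_contra hne2
        exact hne (hZ.2.2.1 _ a (v • b) (v' • b) (Ne.symm hvb) hne2 (Ne.symm hvb') hfa hf1 hf2)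
      subst hvv
      have hkk : k = k' := mul_left_cancel (mul_right_cancel hpq')
      rw [hkk]
    · intro n hn
      have hn' := Finset.mem_coe.mp hn
      rw [Finset.mem_filter, Finset.mem_filter] at hn'
      obtain ⟨⟨-, hna⟩, hnH⟩ := hn'
      have hna' : n • a = a := hna
      obtain ⟨c, hca, hnc⟩ := fz_exists_fix hZ H hHa hHcard hHfix hna' hnH
      obtain ⟨v, hvH, hvb⟩ := fz_H_trans H hHa hHcard hHfix hab hca
      have hva : v • a = a := hHa hvH
      have hva' : v⁻¹ • a = a := by rw [inv_smul_eq_iff, hva]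
      refine ⟨(v, v⁻¹ * n * v), ?_, ?_⟩
      · apply Finset.mem_coe.mpr
        rw [Finset.mem_product, hmemE]
        refine ⟨Finset.mem_filter.mpr ⟨Finset.mem_univ _, hvH⟩, ?_, ?_, ?_⟩
        · intro h
          apply hnH
          have h' : v⁻¹ * n * v = 1 := h
          have : n = v * (v⁻¹ * n * v) * v⁻¹ := by group
          rw [this, h']
          simp
        · show (v⁻¹ * n * v) • a = a
          rw [mul_smul, mul_smul, hva, hna', hva']
        · show (v⁻¹ * n * v) • b = b
          rw [mul_smul, mul_smul, hvb, hnc, ← hvb, inv_smul_smul]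
      · show v * (v⁻¹ * n * v) * v⁻¹ = n
        group
    · rintro ⟨v, k⟩ _
      exact (hf k v).symm
  rw [← hbij, Finset.sum_product]
  show ∑ x ∈ Finset.univ.filter (fun g : G => g ∈ H),
    ∑ y ∈ (Finset.univ.filter (fun k : G => k ∈ stabilizer G a ⊓ stabilizer G b)).erase 1, f y = _
  rw [Finset.sum_const, nsmul_eq_mul]
  congr 2
  exact (Nat.subtype_card (Finset.univ.filter (fun g : G => g ∈ H)) (fun x => by simp)).symm

/-- All irreducible characters of a Zassenhaus group other than the two constituents of the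
permutation character have sum zero over a point stabiliser. -/
theorem fz_sum_stab_irr [Fintype G] [Fintype Ω] (hZ : Cfsg.IsZassenhausGroup G Ω) (a : Ω)
    [Fintype ↥(stabilizer G a)] :
    ∃ T : Finset (Cfsg.IrrCharacter G), T.card ≤ 2 ∧ ∀ χ : Cfsg.IrrCharacter G, χ ∉ T →
      ∑ n : ↥(stabilizer G a), (χ : G → ℂ) n = 0 := by
  classical
  have hpre := zass_pretrans hZ
  have h3 := zass_three_le_card hZ
  have hθ : Cfsg.IsIrrCharacter G (fun g => (Nat.card (fixedBy Ω g) : ℂ) - 1) :=
    (isIrrCharacter_perm_sub_one_iff (by omega)).mpr hZ.2.1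
  refine ⟨{Cfsg.Agent.Helper79.trivIrr G, ⟨_, hθ⟩}, Finset.card_le_two, ?_⟩
  intro χ hχ
  have hχ1 : χ ≠ Cfsg.Agent.Helper79.trivIrr G := fun h => hχ (by rw [h]; simp)
  have hχ2 : χ ≠ ⟨_, hθ⟩ := fun h => hχ (by rw [h]; simp)
  have h1 := Cfsg.Agent.Helper75.classInner_irr χ (Cfsg.Agent.Helper79.trivIrr G)
  rw [if_neg hχ1] at h1
  have h2 := Cfsg.Agent.Helper75.classInner_irr χ ⟨_, hθ⟩
  rw [if_neg hχ2] at h2
  have hGne : (Nat.card G : ℂ)⁻¹ ≠ 0 := by
    apply inv_ne_zero
    exact_mod_cast Nat.card_pos.ne'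
  have hS1 : ∑ g : G, (χ : G → ℂ) g = 0 := by
    unfold Cfsg.classInner at h1
    rcases mul_eq_zero.mp h1 with h | h
    · exact absurd h hGne
    · rw [← h]
      exact Finset.sum_congr rfl (fun g _ => by simp)
  have hS2 : ∑ g : G, (χ : G → ℂ) g * (Nat.card (fixedBy Ω g) : ℂ) = 0 := by
    unfold Cfsg.classInner at h2
    rcases mul_eq_zero.mp h2 with h | h
    · exact absurd h hGne
    · have h4 : ∑ g : G, (χ : G → ℂ) g * (starRingEnd ℂ) ((Nat.card (fixedBy Ω g) : ℂ) - 1) =
          ∑ g : G, (χ : G → ℂ) g * (Nat.card (fixedBy Ω g) : ℂ) - ∑ g : G, (χ : G → ℂ) g := by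
        rw [← Finset.sum_sub_distrib]
        apply Finset.sum_congr rfl
        intro g _
        rw [map_sub, Complex.conj_natCast, map_one]
        ring
      have h5 : ∑ g : G, (χ : G → ℂ) g * (starRingEnd ℂ) ((Nat.card (fixedBy Ω g) : ℂ) - 1) = 0 :=
        h
      rw [h4, hS1, sub_zero] at h5
      exact h5
  have hfixcard : ∀ g : G, (Nat.card (fixedBy Ω g) : ℂ) =
      ∑ c : Ω, if g • c = c then (1 : ℂ) else 0 := by
    intro g
    have h4 : Nat.card (fixedBy Ω g) = (Finset.univ.filter (fun c : Ω => g • c = c)).card :=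
      Nat.subtype_card (Finset.univ.filter (fun c : Ω => g • c = c)) (fun c => by simp)
    rw [h4, Finset.card_filter]
    push_cast
    rfl
  have hS3 : ∑ c : Ω, ∑ g : G, (if g • c = c then (χ : G → ℂ) g else 0) = 0 := by
    rw [Finset.sum_comm]
    refine Eq.trans ?_ hS2
    apply Finset.sum_congr rfl
    intro g _
    rw [hfixcard, Finset.mul_sum]
    apply Finset.sum_congr rfl
    intro c _
    split_ifs <;> simp
  have hcl := Cfsg.Agent.Helper79.isCharacter_isClassFunction
    (Cfsg.Agent.Helper79.irr_isCharacter χ)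
  have hconst : ∀ c : Ω, ∑ g : G, (if g • c = c then (χ : G → ℂ) g else 0) =
      ∑ g : G, (if g • a = a then (χ : G → ℂ) g else 0) := by
    intro c
    obtain ⟨t, rfl⟩ := MulAction.exists_smul_eq G a c
    refine (Fintype.sum_equiv (MulAut.conj t).toEquiv _ _ ?_).symm
    intro g'
    show (if g' • a = a then (χ : G → ℂ) g' else 0) =
      if (t * g' * t⁻¹) • t • a = t • a then (χ : G → ℂ) (t * g' * t⁻¹) else 0
    have hiff : (t * g' * t⁻¹) • t • a = t • a ↔ g' • a = a := by
      rw [mul_smul, mul_smul, inv_smul_smul]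
      exact smul_left_cancel_iff t
    rw [if_congr hiff (hcl g' t) rfl]
  rw [Finset.sum_congr rfl (fun c _ => hconst c), Finset.sum_const, Finset.card_univ,
    nsmul_eq_mul] at hS3
  have hΩne : (Fintype.card Ω : ℂ) ≠ 0 := by
    have : 0 < Fintype.card Ω := Fintype.card_pos_iff.mpr ⟨a⟩
    exact_mod_cast this.ne'
  have hS4 : ∑ g : G, (if g • a = a then (χ : G → ℂ) g else 0) = 0 := by
    rcases mul_eq_zero.mp hS3 with h | h
    · exact absurd h hΩne
    · exact h
  rw [← hS4, ← Finset.sum_filter]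
  exact (Finset.sum_subtype (p := fun g : G => g ∈ stabilizer G a) _ (fun x => by simp)
    (χ : G → ℂ)).symm

/-- The numerical identity behind `‖(1_H)^G‖² = 2e`. -/
theorem fz_num [Finite G] [Finite Ω] (hZ : Cfsg.IsZassenhausGroup G Ω) {a b : Ω} (hab : a ≠ b)
    (H : Subgroup G) (hHcard : Nat.card H + 1 = Nat.card Ω) :
    Nat.card G + (Nat.card H - 1) * Nat.card ↥(stabilizer G a) =
      2 * Nat.card ↥(stabilizer G a ⊓ stabilizer G b) * Nat.card H ^ 2 := by
  have hpre := zass_pretrans hZ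
  have h3 := zass_three_le_card hZ
  have hG := zass_card_group hZ hab
  have hidx : (stabilizer G a).index = Nat.card Ω := index_stabilizer_of_transitive G a
  have hmul := Subgroup.index_mul_card (stabilizer G a)
  rw [hidx] at hmul
  generalize Nat.card ↥(stabilizer G a ⊓ stabilizer G b) = e at hG ⊢
  generalize Nat.card ↥(stabilizer G a) = s at hmul ⊢
  generalize Nat.card G = g at hG hmul ⊢
  generalize Nat.card H = m at hHcard ⊢
  generalize Nat.card Ω = n at hHcard h3 hG hmul
  obtain ⟨k, rfl⟩ : ∃ k, m = k + 1 := ⟨m - 1, by omega⟩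
  have hn : n = k + 2 := by omega
  subst hn
  have hs : s = (k + 1) * e := by
    have h4 : (k + 2) * s = (k + 2) * ((k + 1) * e) := by
      rw [hmul, hG]
      have : k + 2 - 1 = k + 1 := by omega
      rw [this]
      ring
    exact Nat.eq_of_mul_eq_mul_left (by omega) h4
  rw [hG, hs]
  have : k + 2 - 1 = k + 1 := by omega
  rw [this]
  have : k + 1 - 1 = k := by omega
  rw [this]
  ring

end

/-- The classes meeting `H ∖ {1}`, the class of `1` and the classes missing `H` are distinct. -/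
theorem fz_class_count {G : Type*} [Group G] [Finite G] (H : Subgroup G) :
    Nat.card {C : ConjClasses G // ∃ u ∈ H, u ≠ 1 ∧ ConjClasses.mk u = C} + 1 +
      Nat.card {C : ConjClasses G // ∀ g : G, ConjClasses.mk g = C → g ∉ H} ≤
      Nat.card (ConjClasses G) := by
  classical
  have : Fintype (ConjClasses G) := Fintype.ofFinite _
  rw [Nat.subtype_card (Finset.univ.filter
      (fun C : ConjClasses G => ∃ u ∈ H, u ≠ 1 ∧ ConjClasses.mk u = C)) (fun x => by simp),
    Nat.subtype_card (Finset.univ.filter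
      (fun C : ConjClasses G => ∀ g : G, ConjClasses.mk g = C → g ∉ H)) (fun x => by simp),
    Nat.card_eq_fintype_card, ← Finset.card_univ]
  have hd1 : Disjoint (Finset.univ.filter
      (fun C : ConjClasses G => ∃ u ∈ H, u ≠ 1 ∧ ConjClasses.mk u = C))
      ({ConjClasses.mk (1 : G)} : Finset (ConjClasses G)) := by
    rw [Finset.disjoint_singleton_right, Finset.mem_filter]
    rintro ⟨-, u, -, hu1, hu⟩
    exact hu1 (isConj_one_right.mp (ConjClasses.mk_eq_mk_iff_isConj.mp hu.symm))
  have hd2 : Disjoint (Finset.univ.filter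
      (fun C : ConjClasses G => ∃ u ∈ H, u ≠ 1 ∧ ConjClasses.mk u = C) ∪
      ({ConjClasses.mk (1 : G)} : Finset (ConjClasses G)))
      (Finset.univ.filter (fun C : ConjClasses G => ∀ g : G, ConjClasses.mk g = C → g ∉ H)) := by
    rw [Finset.disjoint_left]
    intro C hC hC'
    rw [Finset.mem_filter] at hC'
    rw [Finset.mem_union, Finset.mem_filter, Finset.mem_singleton] at hC
    rcases hC with ⟨-, u, hu, -, huC⟩ | hC
    · exact hC'.2 u huC hu
    · exact hC'.2 1 hC.symm H.one_mem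
  have h1 := Finset.card_union_of_disjoint hd2
  rw [Finset.card_union_of_disjoint hd1, Finset.card_singleton] at h1
  rw [← h1]
  exact Finset.card_le_card (Finset.subset_univ _)

/-- Core of Feit's theorem on Zassenhaus groups: for a simple Zassenhaus group with two-point
stabilisers of odd order `e < (h - 1) / 2`, the irreducible characters of the point stabiliser `N`
that are non-trivial on the Frobenius kernel `H` are not coherent (for induction to `G`). -/
theorem fz_core {G Ω : Type*} [Group G] [Fintype G] [MulAction G Ω] [Fintype Ω]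
    (hZ : Cfsg.IsZassenhausGroup G Ω) {a b : Ω} (hab : a ≠ b) [IsSimpleGroup G] (h e : ℕ)
    (hh : Fintype.card Ω = h + 1)
    (he : Nat.card ↥(stabilizer G a ⊓ stabilizer G b : Subgroup G) = e) (hodd : Odd e)
    (hlt : 2 * e < h - 1) (H : Subgroup G) (hHa : H ≤ stabilizer G a)
    (hHcard : Nat.card H + 1 = Fintype.card Ω)
    (hHfix : ∀ u ∈ H, u ≠ 1 → ∀ c : Ω, u • c = c → c = a)
    (N : Subgroup G) [Fintype ↥N] (hN : N = stabilizer G a)
    (hcoh : Cfsg.IsCoherent
      {χ : ↥N → ℂ | Cfsg.IsIrrCharacter ↥N χ ∧ ∃ x : ↥N, (x : G) ∈ H ∧ χ x ≠ χ 1}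
      ({1}ᶜ : Set ↥N) (fun α => Cfsg.indFun N α)) : False := by
  classical
  subst hN
  have hcardΩ : Nat.card Ω = h + 1 := by rw [Nat.card_eq_fintype_card, hh]
  have hHc : Nat.card H + 1 = Nat.card Ω := by rw [hHcard, Nat.card_eq_fintype_card]
  have hHh : Nat.card H = h := by omega
  have h3 := zass_three_le_card hZ
  have hodd' : Odd (Nat.card ↥(stabilizer G a ⊓ stabilizer G b)) := by rw [he]; exact hodd
  have he1 : 1 < e := by
    obtain ⟨g, hg1, c, d, hcd, hgc, hgd⟩ := hZ.2.2.2.1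
    rw [← he, ← zass_card_stab_inf hZ hab hcd, Finite.one_lt_card_iff_nontrivial]
    exact ⟨⟨⟨g, Subgroup.mem_inf.mpr ⟨hgc, hgd⟩⟩, 1, fun hg => hg1 (congrArg Subtype.val hg)⟩⟩
  have he3 : 3 ≤ e := by
    obtain ⟨k, hk⟩ := hodd
    omega
  have hmiss := Cfsg.Agent.S0884.result hZ hab h e hh he hodd hlt H hHa hHcard hHfix
  have hfus : ∀ u ∈ H, u ≠ 1 → ∀ x : G, (x * u * x⁻¹ ∈ H ↔ x ∈ stabilizer G a) :=
    fun u hu hu1 x => fz_fus hZ H hHa hHc hHfix hu hu1 x
  obtain ⟨Exc, hExc, hconst⟩ := fz_coh_const (stabilizer G a) H hHa hcoh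
  have hnorm : (H.subgroupOf (stabilizer G a)).Normal := by
    constructor
    intro n hn g
    rw [Subgroup.mem_subgroupOf] at hn ⊢
    rw [Subgroup.coe_mul, Subgroup.coe_mul, Subgroup.coe_inv]
    exact fz_conj_mem hZ H hHa hHc hHfix (mem_stabilizer_iff.mp g.2) hn
  have hvan : ∀ ψ : Cfsg.IrrCharacter ↥(stabilizer G a),
      (∃ x : ↥(stabilizer G a), (x : G) ∈ H ∧
        (ψ : ↥(stabilizer G a) → ℂ) x ≠ (ψ : ↥(stabilizer G a) → ℂ) 1) →
      ∀ x : ↥(stabilizer G a), (x : G) ∉ H → (ψ : ↥(stabilizer G a) → ℂ) x = 0 := by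
    intro ψ hψ x hx
    have hC : ∀ n ∈ H.subgroupOf (stabilizer G a), n ≠ 1 →
        Subgroup.centralizer ({n} : Set ↥(stabilizer G a)) ≤ H.subgroupOf (stabilizer G a) := by
      intro n hn hn1 g hg
      rw [Subgroup.mem_centralizer_iff] at hg
      have hg' := hg n (Set.mem_singleton n)
      rw [Subgroup.mem_subgroupOf]
      exact fz_centralizer hZ H hHa hHc hHfix (u := (n : G)) (Subgroup.mem_subgroupOf.mp hn)
        (fun hn' => hn1 (Subtype.ext hn')) (congrArg Subtype.val hg'.symm)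
    obtain ⟨y, hy, hy2⟩ := hψ
    exact Cfsg.Agent.Helper25.frob_irr_apply_eq_zero (H.subgroupOf (stabilizer G a)) hC ψ.2
      ⟨y, Subgroup.mem_subgroupOf.mpr hy, hy2⟩ (fun hx' => hx (Subgroup.mem_subgroupOf.mp hx'))
  have hS := fz_card_S_le (stabilizer G a) H hHa hvan
    (fun u hu hu1 g hg => (hfus u hu hu1 g).mp hg)
  have hcls := fz_class_count H
  have hk := Cfsg.Agent.Helper80.natCard_irr_eq_card_conjClasses (G := G)
  have : Fintype ↥H := Fintype.ofFinite _
  have : Fintype ↥(stabilizer G a ⊓ stabilizer G b) := Fintype.ofFinite _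
  obtain ⟨T, hTcard, hT⟩ := fz_sum_stab_irr hZ a
  have hinv : ∀ k ∈ stabilizer G a ⊓ stabilizer G b, IsConj k k⁻¹ := by
    intro k hk
    obtain ⟨s, hs1, hs2⟩ := zass_two_trans hZ hab (Ne.symm hab)
    rw [isConj_iff]
    exact ⟨s, zassOdd_inverts hZ hab hodd' hab hs1 hs2 k hk⟩
  have hnum := fz_num hZ hab H hHc (a := a) (b := b)
  rw [he] at hnum
  have hY := fz_count (stabilizer G a) H (stabilizer G a ⊓ stabilizer G b) e hodd' hodd hinv T
    hTcard hT (fun f hf => fz_sum_stab hZ hab H hHa hHc hHfix f hf) hfus hnum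
  have hexχ : ∃ χ : Cfsg.IrrCharacter G, χ ∉ Exc ∧ ∑ u : ↥H, (χ : G → ℂ) u = 0 := by
    by_contra hcon
    push Not at hcon
    have hcover : (Set.univ : Set (Cfsg.IrrCharacter G)) ⊆
        Exc ∪ {χ | ∑ u : ↥H, (χ : G → ℂ) u ≠ 0} := by
      intro χ _
      by_cases hχ : χ ∈ Exc
      · exact Or.inl hχ
      · exact Or.inr (hcon χ hχ)
    have e1 : (Set.univ : Set (Cfsg.IrrCharacter G)).ncard = Nat.card (Cfsg.IrrCharacter G) :=
      Set.ncard_univ _
    have e2 : Nat.card ↥Exc = Exc.ncard := Nat.card_coe_set_eq Exc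
    have e3 : Nat.card {χ : Cfsg.IrrCharacter G // ∑ u : ↥H, (χ : G → ℂ) u ≠ 0} =
        ({χ | ∑ u : ↥H, (χ : G → ℂ) u ≠ 0} : Set (Cfsg.IrrCharacter G)).ncard :=
      Nat.card_coe_set_eq _
    have h6 := Set.ncard_le_ncard hcover (Set.toFinite _)
    have h7 := Set.ncard_union_le Exc {χ | ∑ u : ↥H, (χ : G → ℂ) u ≠ 0}
    omega
  obtain ⟨χ, hχE, hχ0⟩ := hexχ
  obtain ⟨c, hc⟩ := hconst χ hχE
  have hh2 : 2 ≤ h := by omega
  have hsumH : ∑ u : ↥H, (χ : G → ℂ) u = (χ : G → ℂ) 1 + ((h : ℂ) - 1) * c := by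
    rw [← Finset.add_sum_erase Finset.univ _ (Finset.mem_univ (1 : ↥H)), Subgroup.coe_one]
    congr 1
    rw [Finset.sum_congr rfl (fun (u : ↥H) hu => hc (u : G) u.2
      (fun hu' => (Finset.mem_erase.mp hu).1 (Subtype.ext hu'))), Finset.sum_const,
      Finset.card_erase_of_mem (Finset.mem_univ _), Finset.card_univ,
      ← Nat.card_eq_fintype_card, hHh, nsmul_eq_mul, Nat.cast_sub (by omega), Nat.cast_one]
  rw [hχ0, Cfsg.Agent.Helper81.irr_one_eq_charDegree] at hsumH
  obtain ⟨u₀, hu₀⟩ : ∃ u₀ : ↥H, u₀ ≠ 1 := by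
    have h1 : 1 < Nat.card H := by omega
    have := Finite.one_lt_card_iff_nontrivial.mp h1
    exact exists_ne (1 : ↥H)
  have hcint : IsIntegral ℤ c := by
    rw [← hc u₀ u₀.2 (fun hu' => hu₀ (Subtype.ext hu'))]
    exact Cfsg.Agent.Helper81.irr_isIntegral χ _
  have hceq : c = ((-(Cfsg.charDegree (χ : G → ℂ) : ℤ) : ℤ) : ℂ) / ((h - 1 : ℕ) : ℂ) := by
    have hne : ((h - 1 : ℕ) : ℂ) ≠ 0 := by
      have : 0 < h - 1 := by omega
      exact_mod_cast this.ne'
    rw [eq_div_iff hne, Nat.cast_sub (by omega)]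
    push_cast
    linear_combination -hsumH
  rw [hceq] at hcint
  have hdvd := Cfsg.Agent.Helper25.int_dvd_of_isIntegral_div (by omega : h - 1 ≠ 0) hcint
  have hdvd' : (h - 1) ∣ Cfsg.charDegree (χ : G → ℂ) := by
    rw [dvd_neg] at hdvd
    exact_mod_cast hdvd
  have hdG := Cfsg.Agent.Helper81.charDegree_dvd_card χ
  have hG := zass_card_group hZ hab
  rw [he, hcardΩ] at hG
  have hfin : (h - 1) ∣ (h + 1) * (h + 1 - 1) * e := by
    rw [← hG]
    exact dvd_trans hdvd' hdG
  obtain ⟨m, rfl⟩ : ∃ m, h = m + 1 := ⟨h - 1, by omega⟩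
  have h9 : m + 1 - 1 = m := by omega
  have h10 : m + 1 + 1 - 1 = m + 1 := by omega
  rw [h9, h10] at hfin
  rw [h9] at hlt
  have hcop : Nat.Coprime m (m + 1) := by simp
  have h11 : m ∣ (m + 1 + 1) * e := by
    have : (m + 1 + 1) * (m + 1) * e = (m + 1) * ((m + 1 + 1) * e) := by ring
    rw [this] at hfin
    exact hcop.dvd_of_dvd_mul_left hfin
  have h12 : m ∣ 2 * e := by
    have : (m + 1 + 1) * e = m * e + 2 * e := by ring
    rw [this] at h11
    exact (Nat.dvd_add_right (dvd_mul_right m e)).mp h11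
  have h13 : m ≤ 2 * e := Nat.le_of_dvd (by omega) h12
  omega

end Cfsg.Agent.Helper3
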