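import Mathlib
import Cfsg.Agent.Helper3.FeitZ2
import Cfsg.Agent.Helper6.Zass
import Cfsg.Agent.Helper25.Coh8
import Cfsg.Agent.S1534
import Cfsg.Agent.S1535

/-!
# Feit's theorem on Zassenhaus groups

* `fz_simple` : the theorem for simple Zassenhaus groups (`fz_core` + Feit's coherence theorem
  `S1535` + the Feit–Sibley theorem `S1534` for kernels of odd prime power order).
* `fz_main` : the general case, by induction through a proper non-trivial normal subgroup, which
  is again a Zassenhaus group containing the Frobenius kernel.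
-/

set_option autoImplicit false

universe u v

namespace Cfsg.Agent.Helper3

open MulAction Cfsg.Agent.Helper15 Cfsg.Agent.Helper59

theorem fz_commutator_index_equiv {A B : Type*} [Group A] [Group B] (φ : A ≃* B) :
    (commutator B).index = (commutator A).index := by
  have h1 : commutator B = (commutator A).map (φ : A →* B) := by
    rw [commutator_def, commutator_def, Subgroup.map_commutator,
      Subgroup.map_top_of_surjective (φ : A →* B) φ.surjective]
  rw [h1, Subgroup.index_map_equiv]

theorem fz_commutator_subgroupOf {A : Type*} [Group A] (K : Subgroup A) :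
    (⁅K, K⁆.subgroupOf K) = commutator ↥K := by
  rw [← Subgroup.map_subtype_commutator]
  exact Subgroup.comap_map_eq_self_of_injective K.subtype_injective _

theorem fz_card_stab {G Ω : Type*} [Group G] [MulAction G Ω] [Finite G] [Finite Ω]
    (hZ : Cfsg.IsZassenhausGroup G Ω) {a b : Ω} (hab : a ≠ b) :
    Nat.card ↥(stabilizer G a) =
      (Nat.card Ω - 1) * Nat.card ↥(stabilizer G a ⊓ stabilizer G b) := by
  have hpre := zass_pretrans hZ
  have h3 := zass_three_le_card hZ
  have hG := zass_card_group hZ hab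
  have hidx : (stabilizer G a).index = Nat.card Ω := index_stabilizer_of_transitive G a
  have hmul := Subgroup.index_mul_card (stabilizer G a)
  rw [hidx, hG, mul_assoc] at hmul
  exact Nat.eq_of_mul_eq_mul_left (by omega) hmul

/-- Feit's theorem for simple Zassenhaus groups. -/
theorem fz_simple {G Ω : Type*} [Group G] [Finite G] [MulAction G Ω] [Fintype Ω]
    (hZ : Cfsg.IsZassenhausGroup G Ω) {a b : Ω} (hab : a ≠ b) [IsSimpleGroup G] (h e : ℕ)
    (hh : Fintype.card Ω = h + 1)
    (he : Nat.card ↥(stabilizer G a ⊓ stabilizer G b : Subgroup G) = e) (hodd : Odd e)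
    (H : Subgroup G) (hHa : H ≤ stabilizer G a) (hHcard : Nat.card H + 1 = Fintype.card Ω)
    (hHfix : ∀ u ∈ H, u ≠ 1 → ∀ c : Ω, u • c = c → c = a) :
    h - 1 ≤ 2 * e ∨ (IsPGroup 2 H ∧ (∃ u v : H, u * v ≠ v * u) ∧
      (commutator H).index ≤ 4 * e ^ 2 + 1) := by
  classical
  by_cases hle : h - 1 ≤ 2 * e
  · exact Or.inl hle
  right
  have hlt : 2 * e < h - 1 := by omega
  have : Fintype G := Fintype.ofFinite G
  have hcardΩ : Nat.card Ω = h + 1 := by rw [Nat.card_eq_fintype_card, hh]
  have hHc : Nat.card H + 1 = Nat.card Ω := by rw [hHcard, Nat.card_eq_fintype_card]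
  have hHh : Nat.card H = h := by omega
  have he1 : 1 < e := by
    obtain ⟨g, hg1, c, d, hcd, hgc, hgd⟩ := hZ.2.2.2.1
    rw [← he, ← zass_card_stab_inf hZ hab hcd, Finite.one_lt_card_iff_nontrivial]
    exact ⟨⟨⟨g, Subgroup.mem_inf.mpr ⟨hgc, hgd⟩⟩, 1, fun hg => hg1 (congrArg Subtype.val hg)⟩⟩
  obtain ⟨hTI0, hN⟩ := Cfsg.Agent.S0878.result hZ a H hHa hHcard hHfix
  have : Fintype ↥(Subgroup.normalizer (H : Set G)) := Fintype.ofFinite _
  have hHN : H ≤ Subgroup.normalizer (H : Set G) := Subgroup.le_normalizer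
  have hNcard : Nat.card ↥(Subgroup.normalizer (H : Set G)) = h * e := by
    rw [hN, fz_card_stab hZ hab, he, hcardΩ]
    simp
  have hcardH' : Nat.card ↥(H.subgroupOf (Subgroup.normalizer (H : Set G))) = h := by
    rw [Nat.card_congr (Subgroup.subgroupOfEquivOfLe hHN).toEquiv, hHh]
  have hidx : (H.subgroupOf (Subgroup.normalizer (H : Set G))).index = e := by
    have h1 := Subgroup.index_mul_card (H.subgroupOf (Subgroup.normalizer (H : Set G)))
    rw [hNcard, hcardH'] at h1
    exact Nat.eq_of_mul_eq_mul_right (by omega : 0 < h) (by rw [h1, mul_comm])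
  have hTI : Cfsg.IsTISubset (H : Set G) := by
    intro g hg x hx hgx
    rw [hN] at hg
    exact hTI0 g hg x hx hgx
  have hCG : ∀ k ∈ H, k ≠ 1 → Subgroup.centralizer ({k} : Set G) ≤ H := by
    intro k hk hk1 g hg
    rw [Subgroup.mem_centralizer_iff] at hg
    exact fz_centralizer hZ H hHa hHc hHfix hk hk1 (hg k (Set.mem_singleton k)).symm
  have hCN : ∀ n ∈ H.subgroupOf (Subgroup.normalizer (H : Set G)), n ≠ 1 →
      Subgroup.centralizer ({n} : Set ↥(Subgroup.normalizer (H : Set G))) ≤
        H.subgroupOf (Subgroup.normalizer (H : Set G)) := by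
    intro n hn hn1 g hg
    rw [Subgroup.mem_centralizer_iff] at hg
    have hg' := hg n (Set.mem_singleton n)
    rw [Subgroup.mem_subgroupOf]
    exact fz_centralizer hZ H hHa hHc hHfix (u := (n : G)) (Subgroup.mem_subgroupOf.mp hn)
      (fun hn' => hn1 (Subtype.ext hn')) (congrArg Subtype.val hg'.symm)
  have hH1 : H ≠ ⊥ := by
    intro hb
    rw [hb, Subgroup.card_bot] at hHh
    omega
  have hH'1 : H.subgroupOf (Subgroup.normalizer (H : Set G)) ≠ ⊥ := by
    intro hb
    rw [hb, Subgroup.card_bot] at hcardH'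
    omega
  have hH'2 : H.subgroupOf (Subgroup.normalizer (H : Set G)) ≠ ⊤ := by
    intro hb
    rw [hb, Subgroup.index_top] at hidx
    omega
  have he' : Nat.card ↥(H.subgroupOf (Subgroup.normalizer (H : Set G))) ≠
      (H.subgroupOf (Subgroup.normalizer (H : Set G))).index + 1 := by
    rw [hcardH', hidx]
    omega
  obtain ⟨hτ, hτ1⟩ := Cfsg.Agent.Helper25.isLinearIsometryOn_indFun_TI (H : Set G) hTI
    {χ : ↥(Subgroup.normalizer (H : Set G)) → ℂ |
      Cfsg.IsIrrCharacter ↥(Subgroup.normalizer (H : Set G)) χ ∧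
      ∃ k ∈ H.subgroupOf (Subgroup.normalizer (H : Set G)), χ k ≠ χ 1}
    (fun χ hχ => Cfsg.Agent.Helper79.isCharacter_of_irr hχ.1)
    (fun χ hχ x hx => Cfsg.Agent.Helper25.frob_irr_apply_eq_zero
      (H.subgroupOf (Subgroup.normalizer (H : Set G))) hCN hχ.1 hχ.2
      (fun hx' => hx (Subgroup.mem_subgroupOf.mp hx')))
  rcases Cfsg.Agent.S1535.result (H.subgroupOf (Subgroup.normalizer (H : Set G))) hH'1 hH'2 hCN
    he' (fun α => Cfsg.indFun (Subgroup.normalizer (H : Set G)) α) hτ hτ1 with
    hcoh | ⟨p, hp, ⟨m, hm⟩, hnc, hidx2⟩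
  · exact (fz_core hZ hab h e hh he hodd hlt H hHa hHcard hHfix
      (Subgroup.normalizer (H : Set G)) hN hcoh).elim
  · rw [hcardH'] at hm
    by_cases hp2 : p = 2
    · subst hp2
      refine ⟨?_, ?_, ?_⟩
      · exact IsPGroup.of_card (n := m) (by rw [hHh, hm])
      · by_contra hcomm
        push Not at hcomm
        apply hnc
        refine ⟨⟨fun x y => ?_⟩⟩
        have h1 := hcomm ⟨(x.1 : G), x.2⟩ ⟨(y.1 : G), y.2⟩
        have h2 : (x.1 : G) * (y.1 : G) = (y.1 : G) * (x.1 : G) := congrArg Subtype.val h1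
        apply Subtype.ext
        apply Subtype.ext
        exact h2
      · rw [fz_commutator_subgroupOf, hidx] at hidx2
        rw [fz_commutator_index_equiv (Subgroup.subgroupOfEquivOfLe hHN)]
        exact hidx2
    · have : Fact p.Prime := ⟨hp⟩
      have hpH : IsPGroup p ↥H := IsPGroup.of_card (n := m) (by rw [hHh, hm])
      have hnil : Group.IsNilpotent ↥H := hpH.isNilpotent
      have hltN : H < Subgroup.normalizer (H : Set G) :=
        lt_of_le_of_ne hHN (fun hEq => hH'2 (Subgroup.subgroupOf_eq_top.mpr hEq.ge))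
      rcases Cfsg.Agent.S1534.result H hH1 hnil hTI hltN hCG with ⟨-, hc1, -⟩ | ⟨hc2, -⟩ | hcoh
      · rw [hHh, hidx] at hc1
        omega
      · exfalso
        rw [hHh, hm] at hc2
        have hm0 : m ≠ 0 := by
          rintro rfl
          rw [pow_zero] at hm
          omega
        have hpd : p ∣ 2 ^ (Nat.card G).factorization 2 := by
          rw [← hc2]
          exact dvd_pow_self p hm0
        exact hp2 ((Nat.prime_dvd_prime_iff_eq hp Nat.prime_two).mp (hp.dvd_of_dvd_pow hpd))
      · exact (fz_core hZ hab h e hh he hodd hlt H hHa hHcard hHfix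
          (Subgroup.normalizer (H : Set G)) hN hcoh).elim

/-- Feit's theorem on Zassenhaus groups with two-point stabilisers of odd order. -/
theorem fz_main {Ω : Type v} [Fintype Ω] (h : ℕ) (hh : Fintype.card Ω = h + 1) :
    ∀ (n : ℕ) (G : Type u) [Group G] [Finite G] [MulAction G Ω]
      (_hZ : Cfsg.IsZassenhausGroup G Ω) (a b : Ω) (_hab : a ≠ b) (e : ℕ)
      (_he : Nat.card ↥(stabilizer G a ⊓ stabilizer G b : Subgroup G) = e) (_hodd : Odd e)
      (H : Subgroup G) (_hHa : H ≤ stabilizer G a) (_hHcard : Nat.card H + 1 = Fintype.card Ω)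
      (_hHfix : ∀ u ∈ H, u ≠ 1 → ∀ c : Ω, u • c = c → c = a), Nat.card G = n →
      (h - 1 ≤ 2 * e ∨ (IsPGroup 2 H ∧ (∃ u v : H, u * v ≠ v * u) ∧
        (commutator H).index ≤ 4 * e ^ 2 + 1)) := by
  intro n
  induction n using Nat.strong_induction_on with
  | _ n ih =>
    intro G _ _ _ hZ a b hab e he hodd H hHa hHcard hHfix hn
    by_cases hs : IsSimpleGroup G
    · exact fz_simple hZ hab h e hh he hodd H hHa hHcard hHfix
    · have hnt : Nontrivial G := by
        obtain ⟨g, hg1, -⟩ := hZ.2.2.2.1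
        exact ⟨⟨g, 1, hg1⟩⟩
      obtain ⟨M, hMn, hMbot, hMtop⟩ : ∃ M : Subgroup G, M.Normal ∧ M ≠ ⊥ ∧ M ≠ ⊤ := by
        by_contra hcon
        push Not at hcon
        exact hs { exists_pair_ne := hnt.exists_pair_ne
                   eq_bot_or_eq_top_of_normal := fun M hM => by
                    by_cases hb : M = ⊥
                    · exact Or.inl hb
                    · exact Or.inr (hcon M hM hb) }
      have hZM := Cfsg.Agent.Helper6.zs_normal_zassenhaus hZ M hMbot
      have hHc : Nat.card H + 1 = Nat.card Ω := by rw [hHcard, Nat.card_eq_fintype_card]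
      have hHM : H ≤ M := Cfsg.Agent.Helper6.zs_kernel_le hZ M hMbot a H (fun k hk => hHa hk)
        (fun g hg k hk => fz_conj_mem hZ H hHa hHc hHfix hg hk)
        (fun k hk hk1 c hc hkc => hc (hHfix k hk hk1 c hkc))
      have hdvd : Nat.card ↥(stabilizer ↥M a ⊓ stabilizer ↥M b : Subgroup ↥M) ∣ e := by
        have hle : (stabilizer ↥M a ⊓ stabilizer ↥M b : Subgroup ↥M).map M.subtype ≤
            stabilizer G a ⊓ stabilizer G b := by
          rintro x ⟨y, hy, rfl⟩
          have hy' := Subgroup.mem_inf.mp hy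
          exact Subgroup.mem_inf.mpr ⟨hy'.1, hy'.2⟩
        have h1 := Subgroup.card_dvd_of_le hle
        rw [Subgroup.card_map_of_injective M.subtype_injective, he] at h1
        exact h1
      have hoddM : Odd (Nat.card ↥(stabilizer ↥M a ⊓ stabilizer ↥M b : Subgroup ↥M)) :=
        hodd.of_dvd_nat hdvd
      have heM_le : Nat.card ↥(stabilizer ↥M a ⊓ stabilizer ↥M b : Subgroup ↥M) ≤ e :=
        Nat.le_of_dvd hodd.pos hdvd
      have hcardM : Nat.card ↥M < n := by
        rw [← hn]
        exact lt_of_le_of_ne (Subgroup.card_le_card_group M)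
          (fun hc => hMtop (Subgroup.eq_top_of_card_eq M hc))
      have hres := ih (Nat.card ↥M) hcardM ↥M hZM a b hab
        (Nat.card ↥(stabilizer ↥M a ⊓ stabilizer ↥M b : Subgroup ↥M)) rfl hoddM
        (H.subgroupOf M) (fun x hx => hHa (Subgroup.mem_subgroupOf.mp hx))
        (by rw [Nat.card_congr (Subgroup.subgroupOfEquivOfLe hHM).toEquiv]; exact hHcard)
        (fun u hu hu1 c hc => hHfix (u : G) (Subgroup.mem_subgroupOf.mp hu)
          (fun hu' => hu1 (Subtype.ext hu')) c hc) rfl
      rcases hres with h1 | ⟨h1, ⟨u, v, huv⟩, h3⟩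
      · left
        omega
      · right
        refine ⟨h1.of_equiv (Subgroup.subgroupOfEquivOfLe hHM),
          ⟨Subgroup.subgroupOfEquivOfLe hHM u, Subgroup.subgroupOfEquivOfLe hHM v, fun hc =>
            huv ((Subgroup.subgroupOfEquivOfLe hHM).injective (by
              rw [map_mul, map_mul]; exact hc))⟩, ?_⟩
        rw [fz_commutator_index_equiv (Subgroup.subgroupOfEquivOfLe hHM)]
        calc (commutator ↥(H.subgroupOf M)).index
            ≤ 4 * Nat.card ↥(stabilizer ↥M a ⊓ stabilizer ↥M b : Subgroup ↥M) ^ 2 + 1 := h3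
          _ ≤ 4 * e ^ 2 + 1 :=
            Nat.add_le_add_right (Nat.mul_le_mul_left 4 (Nat.pow_le_pow_left heM_le 2)) 1

end Cfsg.Agent.Helper3
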