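import Mathlib

/-!
# A regular friendship graph does not exist (mod `p` trace argument) (helper3)

If a `0/1`-matrix `A` over `ZMod p` with zero diagonal has all row sums `1` and
`A * A` is the all-ones matrix, then the index type is empty.  This is the linear-algebra
core of the friendship theorem for regular graphs of valency `κ` with `p ∣ κ - 1`.
-/

set_option autoImplicit false

namespace Cfsg.Agent.Helper3

open Matrix

/-- Regular friendship graphs do not exist: matrix form over `ZMod p`. -/
theorem friend_matrix_false {V : Type*} [Fintype V] [DecidableEq V] [Nonempty V] (p : ℕ)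
    [Fact p.Prime] (A : Matrix V V (ZMod p)) (hdiag : ∀ x, A x x = 0)
    (hrow : ∀ x, ∑ w, A x w = 1) (hsq : ∀ x y, ∑ w, A x w * A w y = 1) : False := by
  classical
  have hp : p.Prime := Fact.out
  set J : Matrix V V (ZMod p) := Matrix.of fun _ _ => (1 : ZMod p) with hJ
  have hAA : A * A = J := by
    ext x y
    rw [Matrix.mul_apply, hsq]
    simp [hJ]
  have hAJ : A * J = J := by
    ext x y
    rw [Matrix.mul_apply]
    simp [hJ, hrow]
  have hpow : ∀ k : ℕ, A ^ (k + 2) = J := by
    intro k
    induction k with
    | zero => rw [zero_add, pow_two, hAA]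
    | succ k ih => rw [show k + 1 + 2 = (k + 2) + 1 by ring, pow_succ', ih, hAJ]
  have hp2 : 2 ≤ p := hp.two_le
  have hAp : A ^ p = J := by
    have := hpow (p - 2)
    rwa [Nat.sub_add_cancel hp2] at this
  have htr : Matrix.trace (A ^ p) = 0 := by
    rw [ZMod.trace_pow_card]
    have : Matrix.trace A = 0 := by
      rw [Matrix.trace]
      exact Finset.sum_eq_zero (fun x _ => by simp [Matrix.diag, hdiag])
    rw [this, zero_pow hp.ne_zero]
  have htrJ : Matrix.trace J = (Fintype.card V : ZMod p) := by
    simp [Matrix.trace, hJ, Matrix.diag]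
  have hcard : (Fintype.card V : ZMod p) = 1 := by
    obtain ⟨x₀⟩ := ‹Nonempty V›
    have h1 : ∑ y, ∑ w, A x₀ w * A w y = (Fintype.card V : ZMod p) := by
      simp [hsq]
    have h2 : ∑ y, ∑ w, A x₀ w * A w y = 1 := by
      rw [Finset.sum_comm]
      simp_rw [← Finset.mul_sum, hrow, mul_one]
      exact hrow x₀
    rw [← h1, h2]
  rw [hAp, htrJ, hcard] at htr
  exact one_ne_zero htr

end Cfsg.Agent.Helper3
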