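import Mathlib
import Cfsg.Agent.Helper3.FriendMat

/-!
# Involution-commuting graph as a friendship graph (helper3)

`FrData G P C m z u` records the local structure of a group with an abelian TI-like
subgroup `P` of odd order `m`, `C = P × ⟨z⟩`, `C_G(z) = C ∪ C u` with `u` an involution inverting
`P`, one class of involutions, and products of two involutions of order dividing `4 m`.
From it: every involution commutes with exactly `2 m` other involutions (`fr_card_nbr`) and two
distinct involutions commute with exactly one common third involution (`fr_unique_common`);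
hence `False` by `friend_matrix_false` (`fr_false`).
-/

set_option autoImplicit false

namespace Cfsg.Agent.Helper3

/-- Local data for the friendship-graph argument. -/
structure FrData (G : Type*) [Group G] (P C : Subgroup G) (m : ℕ) (z u : G) : Prop where
  hm3 : 3 ≤ m
  hmodd : Odd m
  hPcard : Nat.card P = m
  hCcard : Nat.card C = 2 * m
  hPpow : ∀ p ∈ P, p ^ m = 1
  hPC : P ≤ C
  hCdesc : ∀ c ∈ C, c ∈ P ∨ c * z ∈ P
  hPab : ∀ a ∈ P, ∀ b ∈ P, a * b = b * a
  hz : orderOf z = 2
  hzC : z ∈ C
  hzP : ∀ p ∈ P, p * z = z * p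
  hu : orderOf u = 2
  huz : u * z = z * u
  huP : ∀ p ∈ P, u * p * u⁻¹ = p⁻¹
  hCz : ∀ w : G, w * z = z * w → w ∈ C ∨ w * u ∈ C
  hCg : ∀ g ∈ P, g ≠ 1 → ∀ c : G, c * g = g * c → c ∈ C
  hconj2 : ∀ x : G, orderOf x = 2 → ∃ k : G, x = k * z * k⁻¹
  hconj3 : ∀ g : G, g ^ m = 1 → ∃ k : G, k * g * k⁻¹ ∈ P
  hprod : ∀ x y : G, orderOf x = 2 → orderOf y = 2 → x ≠ y → orderOf (x * y) ∣ 4 * m

section basic

variable {G : Type*} [Group G]

theorem fr_sq {x : G} (h : orderOf x = 2) : x * x = 1 := by
  have := pow_orderOf_eq_one x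
  rwa [h, pow_two] at this

theorem fr_ne_one {x : G} (h : orderOf x = 2) : x ≠ 1 := by
  rintro rfl
  simp at h

theorem fr_inv {x : G} (h : orderOf x = 2) : x⁻¹ = x :=
  inv_eq_of_mul_eq_one_right (fr_sq h)

theorem fr_orderOf_two {x : G} (h1 : x * x = 1) (h2 : x ≠ 1) : orderOf x = 2 := by
  have : Fact (Nat.Prime 2) := ⟨Nat.prime_two⟩
  exact orderOf_eq_prime (by rw [pow_two, h1]) h2

theorem fr_orderOf_conj (k w : G) : orderOf (k * w * k⁻¹) = orderOf w := by
  have := (MulAut.conj k).orderOf_eq w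
  rwa [MulAut.conj_apply] at this

/-- An element of odd exponent with trivial square is trivial. -/
theorem fr_eq_one_of_sq {x : G} {m : ℕ} (hm : Odd m) (h1 : x ^ m = 1) (h2 : x * x = 1) :
    x = 1 := by
  obtain ⟨j, rfl⟩ := hm
  rw [pow_succ, pow_mul, pow_two, h2, one_pow, one_mul] at h1
  exact h1

end basic

section data

variable {G : Type*} [Group G] {P C : Subgroup G} {m : ℕ} {z u : G}

theorem FrData.z_sq (D : FrData G P C m z u) : z * z = 1 := fr_sq D.hz

theorem FrData.u_sq (D : FrData G P C m z u) : u * u = 1 := fr_sq D.hu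

theorem FrData.P_eq_one (D : FrData G P C m z u) {p : G} (hp : p ∈ P) (h : p * p = 1) : p = 1 :=
  fr_eq_one_of_sq D.hmodd (D.hPpow p hp) h

theorem FrData.C_comm_z (D : FrData G P C m z u) {c : G} (hc : c ∈ C) : c * z = z * c := by
  rcases D.hCdesc c hc with h | h
  · exact D.hzP c h
  · have h1 := D.hzP _ h
    have hz := D.z_sq
    calc c * z = c * z * z * z := by rw [mul_assoc (c * z), hz, mul_one]
      _ = z * (c * z) * z := by rw [h1]
      _ = z * c := by rw [mul_assoc, mul_assoc, hz, mul_one]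

/-- `z` is the only involution of `C`. -/
theorem FrData.C_inv (D : FrData G P C m z u) {c : G} (hc : c ∈ C) (h2 : orderOf c = 2) :
    c = z := by
  have hcc := fr_sq h2
  rcases D.hCdesc c hc with h | h
  · exact absurd (D.P_eq_one h hcc) (fr_ne_one h2)
  · have hcz := D.C_comm_z hc
    have h1 : (c * z) * (c * z) = 1 := by
      calc (c * z) * (c * z) = c * (z * c) * z := by group
        _ = c * (c * z) * z := by rw [hcz]
        _ = (c * c) * (z * z) := by group
        _ = 1 := by rw [hcc, D.z_sq, one_mul]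
    have h3 := D.P_eq_one h h1
    have : c = z⁻¹ := eq_inv_of_mul_eq_one_left h3
    rw [this, fr_inv D.hz]

theorem FrData.exists_ne_one (D : FrData G P C m z u) : ∃ p ∈ P, p ≠ 1 := by
  by_contra hcon
  push Not at hcon
  have hbot : P = ⊥ := by
    rw [Subgroup.eq_bot_iff_forall]
    exact hcon
  have := D.hPcard
  rw [hbot, Subgroup.card_bot] at this
  have := D.hm3
  omega

theorem FrData.u_notin_C (D : FrData G P C m z u) : u ∉ C := by
  intro huC
  have huz : u = z := D.C_inv huC D.hu
  obtain ⟨p, hp, hp1⟩ := D.exists_ne_one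
  have h1 := D.huP p hp
  rw [huz] at h1
  have h2 : z * p * z⁻¹ = p := by
    rw [← D.hzP p hp, mul_assoc, mul_inv_cancel, mul_one]
  rw [h2] at h1
  have h3 : p * p = 1 := by
    nth_rewrite 1 [h1]
    exact inv_mul_cancel p
  exact hp1 (D.P_eq_one hp h3)

/-- `u` normalizes `C`, acting by inversion on `P` and trivially on `z`. -/
theorem FrData.cu_sq (D : FrData G P C m z u) {c : G} (hc : c ∈ C) : (c * u) * (c * u) = 1 := by
  have hu := D.u_sq
  have huinv : u⁻¹ = u := fr_inv D.hu
  rcases D.hCdesc c hc with h | h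
  · have h1 := D.huP c h
    rw [huinv] at h1
    calc (c * u) * (c * u) = c * (u * c * u) := by group
      _ = 1 := by rw [h1, mul_inv_cancel]
  · have h1 := D.huP _ h
    rw [huinv] at h1
    have hz := D.z_sq
    -- c = (c z) z
    have hcz := D.C_comm_z hc
    have h2 : u * c * u = (c * z)⁻¹ * z := by
      calc u * c * u = u * (c * z * z) * u := by rw [mul_assoc c, hz, mul_one]
        _ = u * (c * z) * (u * u) * z * u := by rw [hu]; group
        _ = (u * (c * z) * u) * (u * z * u) := by group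
        _ = (c * z)⁻¹ * (u * z * u) := by rw [h1]
        _ = (c * z)⁻¹ * z := by rw [D.huz, mul_assoc, hu, mul_one]
    calc (c * u) * (c * u) = c * (u * c * u) := by group
      _ = c * ((c * z)⁻¹ * z) := by rw [h2]
      _ = c * (z⁻¹ * c⁻¹ * z) := by rw [mul_inv_rev]
      _ = c * (z * c⁻¹ * z) := by rw [fr_inv D.hz]
      _ = (c * z) * c⁻¹ * z := by group
      _ = (z * c) * c⁻¹ * z := by rw [hcz]
      _ = z * z := by group
      _ = 1 := hz

/-- `w` is an involution different from `x` commuting with `x`. -/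
def frNbr (x w : G) : Prop := orderOf w = 2 ∧ w ≠ x ∧ w * x = x * w

theorem FrData.nbr_z_iff (D : FrData G P C m z u) (w : G) : frNbr z w ↔ w * u ∈ C := by
  have huinv : u⁻¹ = u := fr_inv D.hu
  constructor
  · rintro ⟨h2, hne, hcomm⟩
    rcases D.hCz w hcomm with h | h
    · exact absurd (D.C_inv h h2) hne
    · exact h
  · intro h
    have hw : w = (w * u) * u := by rw [mul_assoc, D.u_sq, mul_one]
    have hsq : w * w = 1 := by
      have := D.cu_sq h
      rwa [← hw] at this
    have hwC : w ∉ C := by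
      intro hwC
      have : u ∈ C := by
        have : u = w⁻¹ * (w * u) := by group
        rw [this]
        exact C.mul_mem (C.inv_mem hwC) h
      exact D.u_notin_C this
    have hne1 : w ≠ 1 := by
      rintro rfl
      exact hwC C.one_mem
    refine ⟨fr_orderOf_two hsq hne1, ?_, ?_⟩
    · rintro rfl
      exact hwC D.hzC
    · have h1 := D.C_comm_z h
      calc w * z = (w * u) * u * z := by rw [← hw]
        _ = (w * u) * (u * z) := by group
        _ = (w * u) * (z * u) := by rw [D.huz]
        _ = ((w * u) * z) * u := by group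
        _ = (z * (w * u)) * u := by rw [h1]
        _ = z * ((w * u) * u) := by group
        _ = z * w := by rw [← hw]

theorem FrData.card_nbr_z (D : FrData G P C m z u) :
    Nat.card {w : G // frNbr z w} = 2 * m := by
  rw [← D.hCcard]
  exact Nat.card_congr
    (Equiv.subtypeEquiv (Equiv.mulRight u) (fun w => by
      rw [D.nbr_z_iff]; rfl))

theorem fr_nbr_conj (k x w : G) : frNbr x w ↔ frNbr (k * x * k⁻¹) (k * w * k⁻¹) := by
  unfold frNbr
  rw [fr_orderOf_conj]
  constructor
  · rintro ⟨h1, h2, h3⟩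
    refine ⟨h1, ?_, ?_⟩
    · intro h
      apply h2
      have := congrArg (fun t => k⁻¹ * t * k) h
      simpa [mul_assoc] using this
    · calc k * w * k⁻¹ * (k * x * k⁻¹) = k * (w * x) * k⁻¹ := by group
        _ = k * (x * w) * k⁻¹ := by rw [h3]
        _ = k * x * k⁻¹ * (k * w * k⁻¹) := by group
  · rintro ⟨h1, h2, h3⟩
    refine ⟨h1, ?_, ?_⟩
    · rintro rfl
      exact h2 rfl
    · have := congrArg (fun t => k⁻¹ * t * k) h3
      simpa [mul_assoc] using this

/-- Every involution commutes with exactly `2 m` other involutions. -/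
theorem FrData.card_nbr (D : FrData G P C m z u) {x : G} (hx : orderOf x = 2) :
    Nat.card {w : G // frNbr x w} = 2 * m := by
  obtain ⟨k, rfl⟩ := D.hconj2 x hx
  rw [← D.card_nbr_z]
  exact (Nat.card_congr
    (Equiv.subtypeEquiv (MulAut.conj k).toEquiv (fun w => by
      rw [fr_nbr_conj k z w]; rfl))).symm

/-- Two commuting neighbours of `z` differ by `z`. -/
theorem FrData.nbr_z_comm (D : FrData G P C m z u) {w w' : G} (hw : frNbr z w)
    (hw' : frNbr z w') (hc : w * w' = w' * w) : w' = w ∨ w' = w * z := by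
  have h1 := (D.nbr_z_iff w).mp hw
  have h1' := (D.nbr_z_iff w').mp hw'
  have hwinv : w⁻¹ = w := fr_inv hw.1
  have huinv : u⁻¹ = u := fr_inv D.hu
  have hq : w' * w ∈ C := by
    have : w' * w = (w' * u) * (w * u)⁻¹ := by
      rw [mul_inv_rev, hwinv, huinv]
      calc w' * w = w' * (u * u) * w := by rw [D.u_sq, mul_one]
        _ = w' * u * (u * w) := by group
    rw [this]
    exact C.mul_mem h1' (C.inv_mem h1)
  have hqq : (w' * w) * (w' * w) = 1 := by
    calc (w' * w) * (w' * w) = w' * (w * w') * w := by group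
      _ = w' * (w' * w) * w := by rw [hc]
      _ = (w' * w') * (w * w) := by group
      _ = 1 := by rw [fr_sq hw.1, fr_sq hw'.1, one_mul]
  by_cases hq1 : w' * w = 1
  · left
    have : w' = w⁻¹ := eq_inv_of_mul_eq_one_left hq1
    rw [this, hwinv]
  · right
    have hqz : w' * w = z := D.C_inv hq (fr_orderOf_two hqq hq1)
    have : w' = z * w⁻¹ := eq_mul_inv_of_mul_eq hqz
    rw [this, hwinv, hw.2.2]

/-- Two commuting neighbours of an involution `x` differ by `x`. -/
theorem FrData.nbr_comm (D : FrData G P C m z u) {x w w' : G} (hx : orderOf x = 2)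
    (hw : frNbr x w) (hw' : frNbr x w') (hc : w * w' = w' * w) : w' = w ∨ w' = w * x := by
  obtain ⟨k, rfl⟩ := D.hconj2 x hx
  have e1 : k⁻¹ * (k * z * k⁻¹) * k⁻¹⁻¹ = z := by group
  have h1 : frNbr z (k⁻¹ * w * k⁻¹⁻¹) := by
    have := (fr_nbr_conj k⁻¹ (k * z * k⁻¹) w).mp hw
    rwa [e1] at this
  have h1' : frNbr z (k⁻¹ * w' * k⁻¹⁻¹) := by
    have := (fr_nbr_conj k⁻¹ (k * z * k⁻¹) w').mp hw'
    rwa [e1] at this
  have hc' : (k⁻¹ * w * k⁻¹⁻¹) * (k⁻¹ * w' * k⁻¹⁻¹) = (k⁻¹ * w' * k⁻¹⁻¹) * (k⁻¹ * w * k⁻¹⁻¹) := by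
    calc (k⁻¹ * w * k⁻¹⁻¹) * (k⁻¹ * w' * k⁻¹⁻¹) = k⁻¹ * (w * w') * k⁻¹⁻¹ := by group
      _ = k⁻¹ * (w' * w) * k⁻¹⁻¹ := by rw [hc]
      _ = (k⁻¹ * w' * k⁻¹⁻¹) * (k⁻¹ * w * k⁻¹⁻¹) := by group
  rcases D.nbr_z_comm h1 h1' hc' with h | h
  · left
    have := congrArg (fun t => k * t * k⁻¹) h
    simpa [mul_assoc] using this
  · right
    have := congrArg (fun t => k * t * k⁻¹) h
    simp only [inv_inv] at this
    calc w' = k * (k⁻¹ * w' * k) * k⁻¹ := by group
      _ = k * (k⁻¹ * w * k * z) * k⁻¹ := this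
      _ = w * (k * z * k⁻¹) := by group

/-- A nontrivial `3`-element commutes with exactly one involution. -/
theorem FrData.three_unique (D : FrData G P C m z u) {g : G} (hg1 : g ≠ 1) (hgm : g ^ m = 1) :
    ∃ w₀ : G, orderOf w₀ = 2 ∧ w₀ * g = g * w₀ ∧
      ∀ w : G, orderOf w = 2 → w * g = g * w → w = w₀ := by
  obtain ⟨k, hk⟩ := D.hconj3 g hgm
  have hg' : k * g * k⁻¹ ≠ 1 := by
    intro h
    apply hg1
    have := congrArg (fun t => k⁻¹ * t * k) h
    simpa [mul_assoc] using this
  refine ⟨k⁻¹ * z * k, ?_, ?_, ?_⟩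
  · have := fr_orderOf_conj k⁻¹ z
    rw [inv_inv] at this
    rw [this, D.hz]
  · have h := D.hzP _ hk
    calc k⁻¹ * z * k * g = k⁻¹ * (z * (k * g * k⁻¹)) * k := by group
      _ = k⁻¹ * ((k * g * k⁻¹) * z) * k := by rw [h]
      _ = g * (k⁻¹ * z * k) := by group
  · intro w hw hwg
    have hc : (k * w * k⁻¹) * (k * g * k⁻¹) = (k * g * k⁻¹) * (k * w * k⁻¹) := by
      calc (k * w * k⁻¹) * (k * g * k⁻¹) = k * (w * g) * k⁻¹ := by group
        _ = k * (g * w) * k⁻¹ := by rw [hwg]
        _ = (k * g * k⁻¹) * (k * w * k⁻¹) := by group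
    have hC := D.hCg _ hk hg' _ hc
    have h2 : orderOf (k * w * k⁻¹) = 2 := by rw [fr_orderOf_conj, hw]
    have := D.C_inv hC h2
    calc w = k⁻¹ * (k * w * k⁻¹) * k := by group
      _ = k⁻¹ * z * k := by rw [this]

/-- Two distinct involutions commute with exactly one common third involution. -/
theorem FrData.unique_common (D : FrData G P C m z u) {x y : G} (hx : orderOf x = 2)
    (hy : orderOf y = 2) (hxy : x ≠ y) :
    ∃ w₀ : G, (orderOf w₀ = 2 ∧ w₀ ≠ x ∧ w₀ ≠ y ∧ w₀ * x = x * w₀ ∧ w₀ * y = y * w₀) ∧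
      ∀ w : G, (orderOf w = 2 ∧ w ≠ x ∧ w ≠ y ∧ w * x = x * w ∧ w * y = y * w) → w = w₀ := by
  have hxx := fr_sq hx
  have hyy := fr_sq hy
  have hxinv := fr_inv hx
  have hyinv := fr_inv hy
  set g : G := x * y with hg
  have hg1 : g ≠ 1 := by
    intro h
    apply hxy
    have : x = y⁻¹ := eq_inv_of_mul_eq_one_left h
    rw [this, hyinv]
  have hxg : x * g * x⁻¹ = g⁻¹ := by
    rw [hg, mul_inv_rev, hxinv, hyinv]
    calc x * (x * y) * x = (x * x) * y * x := by group
      _ = y * x := by rw [hxx, one_mul]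
  have hyg : y * g * y⁻¹ = g⁻¹ := by
    rw [hg, mul_inv_rev, hxinv, hyinv]
    calc y * (x * y) * y = y * x * (y * y) := by group
      _ = y * x := by rw [hyy, mul_one]
  have hdvd : orderOf g ∣ 4 * m := D.hprod x y hx hy hxy
  -- an element commuting with x and y commutes with g
  have hcomm_g : ∀ w : G, w * x = x * w → w * y = y * w → w * g = g * w := by
    intro w h1 h2
    calc w * g = (w * x) * y := by rw [hg]; group
      _ = (x * w) * y := by rw [h1]
      _ = x * (w * y) := by group
      _ = x * (y * w) := by rw [h2]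
      _ = g * w := by rw [hg]; group
  -- if x commutes with g then g * g = 1
  have hgg_of_x : x * g = g * x → g * g = 1 := by
    intro h
    have : g = g⁻¹ := by
      rw [← hxg, h, mul_assoc, mul_inv_cancel, mul_one]
    calc g * g = g * g⁻¹ := by rw [← this]
      _ = 1 := mul_inv_cancel g
  have hgg_of_y : y * g = g * y → g * g = 1 := by
    intro h
    have : g = g⁻¹ := by
      rw [← hyg, h, mul_assoc, mul_inv_cancel, mul_one]
    calc g * g = g * g⁻¹ := by rw [← this]
      _ = 1 := mul_inv_cancel g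
  rcases Nat.even_or_odd (orderOf g) with hev | hodd
  · -- even order: the central involution of the dihedral group
    obtain ⟨j, hj⟩ := hev
    have hn0 : 0 < orderOf g := by
      rcases Nat.eq_zero_or_pos (orderOf g) with h0 | h0
      · rw [h0] at hdvd
        have := Nat.eq_zero_of_zero_dvd hdvd
        have := D.hm3
        omega
      · exact h0
    have hj0 : 0 < j := by omega
    set w : G := g ^ j with hw
    have hww : w * w = 1 := by
      rw [hw, ← pow_add, ← hj, pow_orderOf_eq_one]
    have hw1 : w ≠ 1 := by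
      rw [hw]
      exact pow_ne_one_of_lt_orderOf hj0.ne' (by omega)
    have hw2 : orderOf w = 2 := fr_orderOf_two hww hw1
    have hwinv : w⁻¹ = w := fr_inv hw2
    have hwg : w * g = g * w := by
      rw [hw, ← pow_succ, ← pow_succ']
    have hxw : w * x = x * w := by
      have h1 : x * w * x⁻¹ = w⁻¹ := by
        rw [hw, ← conj_pow, hxg, inv_pow]
      rw [hwinv] at h1
      calc w * x = (x * w * x⁻¹) * x := by rw [h1]
        _ = x * w := by group
    have hyw : w * y = y * w := by
      have h1 : y * w * y⁻¹ = w⁻¹ := by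
        rw [hw, ← conj_pow, hyg, inv_pow]
      rw [hwinv] at h1
      calc w * y = (y * w * y⁻¹) * y := by rw [h1]
        _ = y * w := by group
    -- if g * g = 1 then j = 1 and w = g
    have hw_of_gg : g * g = 1 → w = g := by
      intro h
      have h2 : orderOf g ∣ 2 := orderOf_dvd_of_pow_eq_one (by rw [pow_two, h])
      have h3 : orderOf g ≤ 2 := Nat.le_of_dvd (by norm_num) h2
      have : j = 1 := by omega
      rw [hw, this, pow_one]
    have hwx : w ≠ x := by
      intro h
      have h1 : x * g = g * x := by rw [← h, hwg]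
      have h2 := hw_of_gg (hgg_of_x h1)
      -- x = w = g = x * y → y = 1
      have : x * y = x := by rw [← hg, ← h2, h]
      have : y = 1 := by simpa using this
      exact fr_ne_one hy this
    have hwy : w ≠ y := by
      intro h
      have h1 : y * g = g * y := by rw [← h, hwg]
      have h2 := hw_of_gg (hgg_of_y h1)
      have : x * y = y := by rw [← hg, ← h2, h]
      have : x = 1 := by simpa using this
      exact fr_ne_one hx this
    refine ⟨w, ⟨hw2, hwx, hwy, hxw, hyw⟩, ?_⟩
    rintro w' ⟨h2, hne1, hne2, hc1, hc2⟩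
    have hw'g := hcomm_g w' hc1 hc2
    have hcw : w * w' = w' * w := by
      have : Commute w' g := hw'g
      exact ((this.pow_right j).eq).symm
    rcases D.nbr_comm hx ⟨hw2, hwx, hxw⟩ ⟨h2, hne1, hc1⟩ hcw with h | h
    · exact h
    · exfalso
      -- w' = w * x commutes with y, so x commutes with y
      have h3 : x * y = y * x := by
        have h4 : (w * x) * y = y * (w * x) := by rw [← h]; exact hc2
        have h5 : w * (x * y) = w * (y * x) := by
          calc w * (x * y) = (w * x) * y := by group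
            _ = y * (w * x) := h4
            _ = (y * w) * x := by group
            _ = (w * y) * x := by rw [hyw]
            _ = w * (y * x) := by group
        exact mul_left_cancel h5
      have hgg : g * g = 1 := by
        calc g * g = x * (y * x) * y := by rw [hg]; group
          _ = x * (x * y) * y := by rw [h3]
          _ = (x * x) * (y * y) := by group
          _ = 1 := by rw [hxx, hyy, one_mul]
      have hwg' := hw_of_gg hgg
      apply hne2
      rw [h, hwg', hg]
      calc x * y * x = x * (y * x) := by group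
        _ = x * (x * y) := by rw [h3]
        _ = (x * x) * y := by group
        _ = y := by rw [hxx, one_mul]
  · -- odd order: g is a nontrivial 3-element
    have hgm : g ^ m = 1 := by
      apply orderOf_dvd_iff_pow_eq_one.mp
      have hcop : Nat.Coprime (orderOf g) 4 := by
        have : Nat.Coprime (orderOf g) (2 ^ 2) := Nat.Coprime.pow_right 2 (Nat.Coprime.symm
          (Nat.coprime_two_left.mpr hodd))
        simpa using this
      exact hcop.dvd_of_dvd_mul_left hdvd
    obtain ⟨w₀, h2, hc, huniq⟩ := D.three_unique hg1 hgm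
    have hgg : g * g ≠ 1 := fun h => hg1 (fr_eq_one_of_sq D.hmodd hgm h)
    have hginv : w₀ * g⁻¹ = g⁻¹ * w₀ := by
      calc w₀ * g⁻¹ = g⁻¹ * (g * w₀) * g⁻¹ := by group
        _ = g⁻¹ * (w₀ * g) * g⁻¹ := by rw [hc]
        _ = g⁻¹ * w₀ := by group
    have hxw : w₀ * x = x * w₀ := by
      have h1 : x * w₀ * x⁻¹ = w₀ := by
        apply huniq
        · rw [fr_orderOf_conj, h2]
        · have e : x⁻¹ * g * x = g⁻¹ := by
            rw [hxinv]
            have := hxg
            rw [hxinv] at this
            exact this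
          calc x * w₀ * x⁻¹ * g = x * (w₀ * (x⁻¹ * g * x)) * x⁻¹ := by group
            _ = x * (w₀ * g⁻¹) * x⁻¹ := by rw [e]
            _ = x * (g⁻¹ * w₀) * x⁻¹ := by rw [hginv]
            _ = x * ((x⁻¹ * g * x) * w₀) * x⁻¹ := by rw [e]
            _ = g * (x * w₀ * x⁻¹) := by group
      calc w₀ * x = (x * w₀ * x⁻¹) * x := by rw [h1]
        _ = x * w₀ := by group
    have hyw : w₀ * y = y * w₀ := by
      have h1 : y * w₀ * y⁻¹ = w₀ := by
        apply huniq
        · rw [fr_orderOf_conj, h2]
        · have e : y⁻¹ * g * y = g⁻¹ := by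
            rw [hyinv]
            have := hyg
            rw [hyinv] at this
            exact this
          calc y * w₀ * y⁻¹ * g = y * (w₀ * (y⁻¹ * g * y)) * y⁻¹ := by group
            _ = y * (w₀ * g⁻¹) * y⁻¹ := by rw [e]
            _ = y * (g⁻¹ * w₀) * y⁻¹ := by rw [hginv]
            _ = y * ((y⁻¹ * g * y) * w₀) * y⁻¹ := by rw [e]
            _ = g * (y * w₀ * y⁻¹) := by group
      calc w₀ * y = (y * w₀ * y⁻¹) * y := by rw [h1]
        _ = y * w₀ := by group
    refine ⟨w₀, ⟨h2, ?_, ?_, hxw, hyw⟩, ?_⟩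
    · rintro rfl
      exact hgg (hgg_of_x hc)
    · rintro rfl
      exact hgg (hgg_of_y hc)
    · rintro w ⟨hw2, -, -, hc1, hc2⟩
      exact huniq w hw2 (hcomm_g w hc1 hc2)

/-- **No such configuration exists.** -/
theorem FrData.false [Finite G] (D : FrData G P C m z u) : False := by
  classical
  have hm3 := D.hm3
  obtain ⟨p, hp, hpd⟩ := Nat.exists_prime_and_dvd (show 2 * m - 1 ≠ 1 by omega)
  have : Fact p.Prime := ⟨hp⟩
  have h2m : ((2 * m : ℕ) : ZMod p) = 1 := by
    have h0 : ((2 * m - 1 : ℕ) : ZMod p) = 0 := (ZMod.natCast_eq_zero_iff _ _).mpr hpd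
    have : 2 * m = (2 * m - 1) + 1 := by omega
    rw [this, Nat.cast_add, h0, zero_add, Nat.cast_one]
  let V : Type _ := {x : G // orderOf x = 2}
  have : Fintype V := Fintype.ofFinite V
  have : Nonempty V := ⟨⟨z, D.hz⟩⟩
  let A : Matrix V V (ZMod p) :=
    fun x w => if (w.1 ≠ x.1 ∧ w.1 * x.1 = x.1 * w.1) then 1 else 0
  have hcardx : ∀ x : V,
      (Finset.univ.filter (fun w : V => w.1 ≠ x.1 ∧ w.1 * x.1 = x.1 * w.1)).card = 2 * m := by
    intro x
    rw [← D.card_nbr x.2, ← Fintype.card_subtype, ← Nat.card_eq_fintype_card]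
    exact Nat.card_congr (Equiv.subtypeSubtypeEquivSubtypeInter (fun w : G => orderOf w = 2)
      (fun w : G => w ≠ x.1 ∧ w * x.1 = x.1 * w))
  apply friend_matrix_false p A
  · intro x
    simp [A]
  · intro x
    simp only [A]
    rw [Finset.sum_boole, hcardx, h2m]
  · intro x y
    have hprod : ∀ w : V, A x w * A w y =
        if ((w.1 ≠ x.1 ∧ w.1 * x.1 = x.1 * w.1) ∧ (y.1 ≠ w.1 ∧ y.1 * w.1 = w.1 * y.1)) then 1
          else 0 := by
      intro w
      simp only [A]
      split_ifs <;> simp_all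
    simp_rw [hprod]
    rw [Finset.sum_boole]
    by_cases hxy : x.1 = y.1
    · have : (Finset.univ.filter (fun w : V => (w.1 ≠ x.1 ∧ w.1 * x.1 = x.1 * w.1) ∧
          (y.1 ≠ w.1 ∧ y.1 * w.1 = w.1 * y.1))) =
          Finset.univ.filter (fun w : V => w.1 ≠ x.1 ∧ w.1 * x.1 = x.1 * w.1) := by
        apply Finset.filter_congr
        intro w _
        rw [← hxy]
        constructor
        · exact fun h => h.1
        · exact fun h => ⟨h, fun e => h.1 e.symm, h.2.symm⟩
      rw [this, hcardx, h2m]
    · obtain ⟨w₀, ⟨h2, hne1, hne2, hc1, hc2⟩, huniq⟩ := D.unique_common x.2 y.2 hxy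
      have : (Finset.univ.filter (fun w : V => (w.1 ≠ x.1 ∧ w.1 * x.1 = x.1 * w.1) ∧
          (y.1 ≠ w.1 ∧ y.1 * w.1 = w.1 * y.1))) = {⟨w₀, h2⟩} := by
        ext w
        simp only [Finset.mem_filter, Finset.mem_univ, true_and, Finset.mem_singleton]
        constructor
        · rintro ⟨⟨a1, a2⟩, a3, a4⟩
          exact Subtype.ext (huniq w.1 ⟨w.2, a1, fun e => a3 e.symm, a2, a4.symm⟩)
        · rintro rfl
          exact ⟨⟨hne1, hc1⟩, fun e => hne2 e.symm, hc2.symm⟩
      rw [this, Finset.card_singleton, Nat.cast_one]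

end data

end Cfsg.Agent.Helper3
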