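import Mathlib
import Cfsg.Agent.Helper3.FriendGrp

/-!
# From the hypotheses of S4018 to `FrData` (helper3)

`FrHyp G P m`: `G` simple, `P` an abelian Sylow `3`-subgroup of order `m`, `|N(P)| = 4m`,
`|C(P)| = 2m`, `C(P)` a TI-subset, every proper subgroup of even order has order dividing `4m`.
We derive `FrData` (`FrHyp.exists_data`), hence `False` (`FrHyp.false`).
-/

set_option autoImplicit false
set_option linter.unusedSectionVars false

namespace Cfsg.Agent.Helper3

open Subgroup

/-- The hypotheses of S4018 together with simplicity. -/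
structure FrHyp (G : Type*) [Group G] (P : Sylow 3 G) (m : ℕ) : Prop where
  simple : IsSimpleGroup G
  hPcard : Nat.card (P : Subgroup G) = m
  hab : ∀ a ∈ (P : Subgroup G), ∀ b ∈ (P : Subgroup G), a * b = b * a
  hN : Nat.card (normalizer ((P : Subgroup G) : Set G)) = 4 * m
  hC : Nat.card (centralizer ((P : Subgroup G) : Set G)) = 2 * m
  hTI : ∀ g : G, g ∉ normalizer ((centralizer ((P : Subgroup G) : Set G) : Subgroup G) : Set G) →
    ∀ x ∈ centralizer ((P : Subgroup G) : Set G),
      g * x * g⁻¹ ∈ centralizer ((P : Subgroup G) : Set G) → x = 1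
  heven : ∀ H : Subgroup G, H ≠ ⊤ → 2 ∣ Nat.card H → Nat.card H ∣ 4 * m

section

variable {G : Type*} [Group G] [Finite G] {P : Sylow 3 G} {m : ℕ}

theorem FrHyp.m_pow (H : FrHyp G P m) : ∃ a : ℕ, m = 3 ^ a := by
  have : Fact (Nat.Prime 3) := ⟨Nat.prime_three⟩
  exact ⟨_, H.hPcard.symm.trans P.card_eq_multiplicity⟩

theorem FrHyp.m_odd (H : FrHyp G P m) : Odd m := by
  obtain ⟨a, rfl⟩ := H.m_pow
  exact Odd.pow (by decide)

theorem FrHyp.m_pos (H : FrHyp G P m) : 0 < m := by
  obtain ⟨a, rfl⟩ := H.m_pow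
  positivity

theorem FrHyp.m_dvd (H : FrHyp G P m) : m ∣ Nat.card G := by
  rw [← H.hPcard]
  exact Subgroup.card_subgroup_dvd_card _

theorem FrHyp.not_comm (H : FrHyp G P m) : ¬ ∀ a b : G, a * b = b * a := by
  intro hc
  have h1 : centralizer ((P : Subgroup G) : Set G) = ⊤ := by
    rw [eq_top_iff]
    intro g _
    rw [mem_centralizer_iff]
    intro h _
    exact hc h g
  have h2 : normalizer ((P : Subgroup G) : Set G) = ⊤ := by
    rw [eq_top_iff]
    intro g _
    rw [mem_normalizer_iff]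
    intro h
    have : g * h * g⁻¹ = h := by rw [hc g h, mul_assoc, mul_inv_cancel, mul_one]
    rw [this]
  have e1 := H.hN
  have e2 := H.hC
  rw [h2] at e1
  rw [h1] at e2
  have := H.m_pos
  omega

theorem FrHyp.m_ge (H : FrHyp G P m) : 3 ≤ m := by
  obtain ⟨a, rfl⟩ := H.m_pow
  rcases Nat.eq_zero_or_pos a with h0 | h0
  · exfalso
    subst h0
    have hbot : (P : Subgroup G) = ⊥ := Subgroup.card_eq_one.mp (by rw [H.hPcard]; rfl)
    have h1 : centralizer ((P : Subgroup G) : Set G) = ⊤ := by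
      rw [eq_top_iff]
      intro g _
      rw [mem_centralizer_iff]
      intro h hh
      have : h = 1 := by
        have : h ∈ (P : Subgroup G) := hh
        rw [hbot] at this
        exact Subgroup.mem_bot.mp this
      rw [this, one_mul, mul_one]
    have h2 : normalizer ((P : Subgroup G) : Set G) = ⊤ := by
      rw [eq_top_iff]
      intro g _
      rw [mem_normalizer_iff]
      intro h
      rw [hbot]
      simp only [Subgroup.mem_bot]
      constructor
      · rintro rfl
        group
      · intro hh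
        have : h = g⁻¹ * (g * h * g⁻¹) * g := by group
        rw [this, hh]
        group
    have e1 := H.hN
    have e2 := H.hC
    rw [h2] at e1
    rw [h1] at e2
    omega
  · calc 3 = 3 ^ 1 := by norm_num
      _ ≤ 3 ^ a := Nat.pow_le_pow_right (by norm_num) h0

theorem FrHyp.three_dvd (H : FrHyp G P m) : 3 ∣ Nat.card G := by
  obtain ⟨a, ha⟩ := H.m_pow
  have h3 := H.m_ge
  have : a ≠ 0 := by
    rintro rfl
    rw [pow_zero] at ha
    omega
  exact (Dvd.dvd.trans (ha ▸ dvd_pow_self 3 this) H.m_dvd)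

/-- Every `2`-subgroup has order dividing `4`. -/
theorem FrHyp.two_group_card (H : FrHyp G P m) (Q : Subgroup G) (hQ : IsPGroup 2 Q) :
    Nat.card Q ∣ 4 := by
  have : Fact (Nat.Prime 2) := ⟨Nat.prime_two⟩
  obtain ⟨j, hj⟩ := IsPGroup.iff_card.mp hQ
  rcases Nat.eq_zero_or_pos j with h0 | h0
  · rw [hj, h0, pow_zero]
    exact one_dvd 4
  · have h2 : 2 ∣ Nat.card Q := by
      rw [hj]
      exact dvd_pow_self 2 h0.ne'
    have hne : Q ≠ ⊤ := by
      rintro rfl
      have h3 := H.three_dvd
      rw [← Subgroup.card_top (G := G), hj] at h3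
      have := (Nat.Prime.dvd_of_dvd_pow Nat.prime_three h3)
      omega
    have h4 := H.heven Q hne h2
    obtain ⟨a, rfl⟩ := H.m_pow
    rw [hj] at h4 ⊢
    have hcop : Nat.Coprime (2 ^ j) (3 ^ a) := Nat.Coprime.pow j a (by decide)
    exact hcop.dvd_of_dvd_mul_right h4

theorem FrHyp.P_pow (H : FrHyp G P m) {p : G} (hp : p ∈ (P : Subgroup G)) : p ^ m = 1 := by
  have h : (⟨p, hp⟩ : (P : Subgroup G)) ^ Nat.card (P : Subgroup G) = 1 := pow_card_eq_one'
  rw [H.hPcard] at h
  exact congrArg Subtype.val h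

theorem FrHyp.P_le_C (H : FrHyp G P m) :
    (P : Subgroup G) ≤ centralizer ((P : Subgroup G) : Set G) := by
  intro c hc
  rw [mem_centralizer_iff]
  intro h hh
  exact H.hab h hh c hc

/-- The involution `z` of `C(P)`. -/
theorem FrHyp.exists_z (H : FrHyp G P m) :
    ∃ z : G, orderOf z = 2 ∧ z ∈ centralizer ((P : Subgroup G) : Set G) ∧
      z ∉ (P : Subgroup G) ∧
      ∀ c ∈ centralizer ((P : Subgroup G) : Set G), c ∈ (P : Subgroup G) ∨ c * z ∈ (P : Subgroup G) := by
  have : Fact (Nat.Prime 2) := ⟨Nat.prime_two⟩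
  set C := centralizer ((P : Subgroup G) : Set G) with hCdef
  have h2 : 2 ∣ Nat.card C := by rw [H.hC]; exact dvd_mul_right 2 m
  obtain ⟨z', hz'⟩ := exists_prime_orderOf_dvd_card' 2 h2
  have hz2 : orderOf (z' : G) = 2 := by rw [Subgroup.orderOf_coe, hz']
  have hzP : (z' : G) ∉ (P : Subgroup G) := by
    intro hmem
    have h1 := H.P_pow hmem
    have h3 : 2 ∣ m := hz2 ▸ orderOf_dvd_of_pow_eq_one h1
    have := H.m_odd
    exact (Nat.not_even_iff_odd.mpr this) (even_iff_two_dvd.mpr h3)
  refine ⟨z', hz2, z'.2, hzP, ?_⟩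
  have hidx : ((P : Subgroup G).subgroupOf C).index = 2 := by
    have h1 := Subgroup.card_mul_index ((P : Subgroup G).subgroupOf C)
    have h3 : Nat.card ((P : Subgroup G).subgroupOf C) = m := by
      rw [← H.hPcard]
      exact Nat.card_congr (Subgroup.subgroupOfEquivOfLe H.P_le_C).toEquiv
    rw [h3, H.hC] at h1
    have := H.m_pos
    have h4 : m * ((P : Subgroup G).subgroupOf C).index = m * 2 := by rw [h1]; ring
    exact Nat.eq_of_mul_eq_mul_left this h4
  intro c hc
  by_cases hcP : c ∈ (P : Subgroup G)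
  · exact Or.inl hcP
  · right
    have := Subgroup.mul_mem_iff_of_index_two hidx (a := (⟨c, hc⟩ : C)) (b := z')
    rw [Subgroup.mem_subgroupOf, Subgroup.mem_subgroupOf, Subgroup.mem_subgroupOf] at this
    exact this.mpr ⟨fun h => absurd h hcP, fun h => absurd h hzP⟩

/-- `FrHyp` together with a chosen involution `z` of `C(P)`. -/
structure FrZ (G : Type*) [Group G] (P : Sylow 3 G) (m : ℕ) (z : G) : Prop where
  hyp : FrHyp G P m
  hz2 : orderOf z = 2
  hzC : z ∈ centralizer ((P : Subgroup G) : Set G)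
  hzP : z ∉ (P : Subgroup G)
  hCdesc : ∀ c ∈ centralizer ((P : Subgroup G) : Set G),
    c ∈ (P : Subgroup G) ∨ c * z ∈ (P : Subgroup G)

variable {z : G}

theorem FrZ.P_comm_z (Z : FrZ G P m z) {p : G} (hp : p ∈ (P : Subgroup G)) : p * z = z * p :=
  (mem_centralizer_iff.mp Z.hzC) p hp

theorem FrZ.P_eq_one (Z : FrZ G P m z) {p : G} (hp : p ∈ (P : Subgroup G)) (h : p * p = 1) :
    p = 1 :=
  fr_eq_one_of_sq Z.hyp.m_odd (Z.hyp.P_pow hp) h

theorem FrZ.C_comm_z (Z : FrZ G P m z) {c : G}
    (hc : c ∈ centralizer ((P : Subgroup G) : Set G)) : c * z = z * c := by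
  rcases Z.hCdesc c hc with h | h
  · exact Z.P_comm_z h
  · have h1 := Z.P_comm_z h
    have hz := fr_sq Z.hz2
    calc c * z = c * z * z * z := by rw [mul_assoc (c * z), hz, mul_one]
      _ = z * (c * z) * z := by rw [h1]
      _ = z * c := by rw [mul_assoc, mul_assoc, hz, mul_one]

/-- `z` is the only involution of `C(P)`. -/
theorem FrZ.C_inv (Z : FrZ G P m z) {c : G}
    (hc : c ∈ centralizer ((P : Subgroup G) : Set G)) (h2 : orderOf c = 2) : c = z := by
  have hcc := fr_sq h2
  rcases Z.hCdesc c hc with h | h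
  · exact absurd (Z.P_eq_one h hcc) (fr_ne_one h2)
  · have hcz := Z.C_comm_z hc
    have h1 : (c * z) * (c * z) = 1 := by
      calc (c * z) * (c * z) = c * (z * c) * z := by group
        _ = c * (c * z) * z := by rw [hcz]
        _ = (c * c) * (z * z) := by group
        _ = 1 := by rw [hcc, fr_sq Z.hz2, one_mul]
    have h3 := Z.P_eq_one h h1
    have : c = z⁻¹ := eq_inv_of_mul_eq_one_left h3
    rw [this, fr_inv Z.hz2]

/-- An element normalizing `C(P)` centralizes `z`. -/
theorem FrZ.comm_of_conj_mem (Z : FrZ G P m z) {n : G}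
    (h : n * z * n⁻¹ ∈ centralizer ((P : Subgroup G) : Set G)) : n * z = z * n := by
  have h2 : orderOf (n * z * n⁻¹) = 2 := by rw [fr_orderOf_conj, Z.hz2]
  have := Z.C_inv h h2
  calc n * z = (n * z * n⁻¹) * n := by group
    _ = z * n := by rw [this]

/-- `N(P)` centralizes `z`. -/
theorem FrZ.N_comm_z (Z : FrZ G P m z) {n : G}
    (hn : n ∈ normalizer ((P : Subgroup G) : Set G)) : n * z = z * n := by
  apply Z.comm_of_conj_mem
  rw [mem_centralizer_iff]
  intro p hp
  have hn' : n⁻¹ ∈ normalizer ((P : Subgroup G) : Set G) := inv_mem hn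
  have hq : n⁻¹ * p * n⁻¹⁻¹ ∈ (P : Subgroup G) := (mem_normalizer_iff.mp hn' p).mp hp
  rw [inv_inv] at hq
  have hqz := Z.P_comm_z hq
  calc p * (n * z * n⁻¹) = n * ((n⁻¹ * p * n) * z) * n⁻¹ := by group
    _ = n * (z * (n⁻¹ * p * n)) * n⁻¹ := by rw [hqz]
    _ = n * z * n⁻¹ * p := by group

/-- `C_G(z) = N(P)`. -/
theorem FrZ.mem_N_of_comm (Z : FrZ G P m z) {w : G} (hw : w * z = z * w) :
    w ∈ normalizer ((P : Subgroup G) : Set G) := by
  have hle : normalizer ((P : Subgroup G) : Set G) ≤ centralizer ({z} : Set G) := by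
    intro n hn
    rw [mem_centralizer_iff]
    intro h hh
    rw [Set.mem_singleton_iff] at hh
    rw [hh]
    exact (Z.N_comm_z hn).symm
  have hne : centralizer ({z} : Set G) ≠ ⊤ := by
    intro htop
    have hzc : z ∈ center G := by
      rw [Subgroup.mem_center_iff]
      intro g
      have : g ∈ centralizer ({z} : Set G) := by rw [htop]; exact Subgroup.mem_top g
      exact ((mem_centralizer_iff.mp this) z rfl).symm
    have := Z.hyp.simple
    rcases (inferInstance : (center G).Normal).eq_bot_or_eq_top with hb | ht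
    · rw [hb, Subgroup.mem_bot] at hzc
      exact fr_ne_one Z.hz2 hzc
    · apply Z.hyp.not_comm
      intro a b
      have ha : a ∈ center G := by rw [ht]; exact Subgroup.mem_top a
      exact ((Subgroup.mem_center_iff.mp ha) b).symm
  have h2 : 2 ∣ Nat.card (centralizer ({z} : Set G)) := by
    have hz : z ∈ centralizer ({z} : Set G) := by
      rw [mem_centralizer_iff]
      intro h hh
      rw [Set.mem_singleton_iff] at hh
      rw [hh]
    have := orderOf_dvd_natCard (⟨z, hz⟩ : centralizer ({z} : Set G))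
    rwa [Subgroup.orderOf_mk, Z.hz2] at this
  have hdvd := Z.hyp.heven _ hne h2
  have hpos : 0 < 4 * m := by have := Z.hyp.m_pos; omega
  have hcard : Nat.card (centralizer ({z} : Set G)) ≤
      Nat.card (normalizer ((P : Subgroup G) : Set G)) := by
    rw [Z.hyp.hN]
    exact Nat.le_of_dvd hpos hdvd
  have heq := Subgroup.eq_of_le_of_card_ge hle hcard
  rw [heq, mem_centralizer_iff]
  intro h hh
  rw [Set.mem_singleton_iff] at hh
  rw [hh]
  exact hw.symm

/-- An element of `p`-power order normalizing a Sylow `p`-subgroup lies in it. -/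
theorem fr_mem_sylow_of_normalizer {p : ℕ} [Fact p.Prime] (Q : Sylow p G) {g : G}
    (hg : g ∈ normalizer ((Q : Subgroup G) : Set G)) {k : ℕ} (hk : g ^ p ^ k = 1) :
    g ∈ (Q : Subgroup G) := by
  have hp : p.Prime := Fact.out
  obtain ⟨i, -, hi⟩ := (Nat.dvd_prime_pow hp).mp (orderOf_dvd_of_pow_eq_one hk)
  have hpg : IsPGroup p (zpowers g) := IsPGroup.of_card (n := i) (by rw [Nat.card_zpowers, hi])
  have hle : zpowers g ≤ normalizer ((Q : Subgroup G) : Set G) := (zpowers_le).mpr hg
  have hfix := (Subgroup.sylow_mem_fixedPoints_iff (zpowers g) (P := Q)).mpr hle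
  exact (hpg.sylow_mem_fixedPoints_iff.mp hfix) (mem_zpowers g)

/-- Elements of `p`-power order are conjugate into a given Sylow `p`-subgroup. -/
theorem fr_conj_mem_sylow {p : ℕ} [Fact p.Prime] (Q : Sylow p G) {g : G} {k : ℕ}
    (hk : g ^ p ^ k = 1) : ∃ c : G, c * g * c⁻¹ ∈ (Q : Subgroup G) := by
  have hp : p.Prime := Fact.out
  obtain ⟨i, -, hi⟩ := (Nat.dvd_prime_pow hp).mp (orderOf_dvd_of_pow_eq_one hk)
  have hpg : IsPGroup p (zpowers g) := IsPGroup.of_card (n := i) (by rw [Nat.card_zpowers, hi])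
  obtain ⟨R, hR⟩ := hpg.exists_le_sylow
  obtain ⟨c, hc⟩ := MulAction.exists_smul_eq G R Q
  refine ⟨c, ?_⟩
  rw [← hc, Sylow.coe_subgroup_smul, Subgroup.mem_smul_pointwise_iff_exists]
  exact ⟨g, hR (mem_zpowers g), by simp [MulAut.smul_def]⟩

/-- A Sylow `2`-subgroup containing `z`: order `4`, abelian. -/
theorem FrZ.exists_sylow2 (Z : FrZ G P m z) :
    ∃ S₀ : Sylow 2 G, z ∈ (S₀ : Subgroup G) ∧ Nat.card (S₀ : Subgroup G) = 4 ∧
      ∀ a ∈ (S₀ : Subgroup G), ∀ b ∈ (S₀ : Subgroup G), a * b = b * a := by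
  have : Fact (Nat.Prime 2) := ⟨Nat.prime_two⟩
  have hpg : IsPGroup 2 (zpowers z) :=
    IsPGroup.of_card (n := 1) (by rw [Nat.card_zpowers, Z.hz2, pow_one])
  obtain ⟨S₀, hS⟩ := hpg.exists_le_sylow
  have h4 : Nat.card (S₀ : Subgroup G) ∣ 4 := Z.hyp.two_group_card S₀ S₀.2
  have h4' : 4 ∣ Nat.card (S₀ : Subgroup G) := by
    have hG : 2 ^ 2 ∣ Nat.card G := by
      have h1 := Subgroup.card_subgroup_dvd_card (normalizer ((P : Subgroup G) : Set G))
      rw [Z.hyp.hN] at h1
      exact Dvd.dvd.trans (by norm_num : (2 ^ 2 : ℕ) ∣ 4 * m) h1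
    simpa using S₀.pow_dvd_card_of_pow_dvd_card hG
  have hcard : Nat.card (S₀ : Subgroup G) = 4 := Nat.dvd_antisymm h4 h4'
  refine ⟨S₀, hS (mem_zpowers z), hcard, ?_⟩
  intro a ha b hb
  have hI : IsMulCommutative (S₀ : Subgroup G) :=
    IsPGroup.isMulCommutative_of_card_eq_prime_sq (p := 2) (by rw [hcard]; norm_num)
  exact congrArg Subtype.val (mul_comm' (⟨a, ha⟩ : (S₀ : Subgroup G)) ⟨b, hb⟩)

/-- Fusion: all non-identity elements of a Sylow `2`-subgroup containing `z` are conjugate
to `z`. -/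
theorem FrZ.fusion (Z : FrZ G P m z) (S₀ : Sylow 2 G)
    (hcard : Nat.card (S₀ : Subgroup G) = 4)
    (hab : ∀ a ∈ (S₀ : Subgroup G), ∀ b ∈ (S₀ : Subgroup G), a * b = b * a)
    (hz : z ∈ (S₀ : Subgroup G)) :
    ∀ x ∈ (S₀ : Subgroup G), x ≠ 1 → IsConj z x := by
  have : Fact (Nat.Prime 2) := ⟨Nat.prime_two⟩
  have hsimple := Z.hyp.simple
  have hGpos : 0 < Nat.card G := Nat.card_pos
  have h3G := Z.hyp.three_dvd
  by_cases hNC : normalizer ((S₀ : Subgroup G) : Set G) ≤ centralizer ((S₀ : Subgroup G) : Set G)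
  · exfalso
    have hcomp := MonoidHom.ker_transferSylow_isComplement' S₀ hNC
    have hcm := hcomp.card_mul_card
    rcases (MonoidHom.normal_ker (MonoidHom.transferSylow S₀ hNC)).eq_bot_or_eq_top with hb | ht
    · rw [hb, Subgroup.card_bot, hcard, one_mul] at hcm
      rw [← hcm] at h3G
      omega
    · rw [ht, Subgroup.card_top, hcard] at hcm
      omega
  · obtain ⟨n₀, hn₀N, hn₀C⟩ := SetLike.not_le_iff_exists.mp hNC
    set N₂ := normalizer ((S₀ : Subgroup G) : Set G) with hN₂
    have hN₂ne : N₂ ≠ ⊤ := by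
      intro htop
      have hnorm : (S₀ : Subgroup G).Normal := normalizer_eq_top_iff.mp htop
      rcases hnorm.eq_bot_or_eq_top with hb | ht
      · rw [hb, Subgroup.card_bot] at hcard
        omega
      · rw [ht, Subgroup.card_top] at hcard
        rw [hcard] at h3G
        omega
    have hS₀le : (S₀ : Subgroup G) ≤ N₂ := le_normalizer
    have h2N₂ : 2 ∣ Nat.card N₂ := by
      have := Subgroup.card_dvd_of_le hS₀le
      rw [hcard] at this
      exact Dvd.dvd.trans (by norm_num) this
    have hdvd := Z.hyp.heven N₂ hN₂ne h2N₂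
    have hn₀pow : n₀ ^ (4 * m) = 1 := by
      apply orderOf_dvd_iff_pow_eq_one.mp
      have := orderOf_dvd_natCard (⟨n₀, hn₀N⟩ : N₂)
      rw [Subgroup.orderOf_mk] at this
      exact this.trans hdvd
    obtain ⟨a, ha⟩ := Z.hyp.m_pow
    have hm3 := Z.hyp.m_ge
    have hmodd := Z.hyp.m_odd
    -- the 2-part of n₀ lies in S₀
    have ht4 : (n₀ ^ m) ^ 2 ^ 2 = 1 := by
      rw [← pow_mul]
      have : m * 2 ^ 2 = 4 * m := by ring
      rw [this, hn₀pow]
    have htS : n₀ ^ m ∈ (S₀ : Subgroup G) :=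
      fr_mem_sylow_of_normalizer S₀ (pow_mem hn₀N m) ht4
    have htC : n₀ ^ m ∈ centralizer ((S₀ : Subgroup G) : Set G) := by
      rw [mem_centralizer_iff]
      intro h hh
      exact hab h hh _ htS
    -- the odd part n = n₀ ^ 4 does not centralize S₀
    have hnN : n₀ ^ 4 ∈ N₂ := pow_mem hn₀N 4
    have hnC : n₀ ^ 4 ∉ centralizer ((S₀ : Subgroup G) : Set G) := by
      intro hcon
      apply hn₀C
      have hcop : Nat.Coprime 4 m := by
        rw [ha]
        exact Nat.Coprime.pow_right a (by decide)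
      obtain ⟨α, -, hα⟩ := Nat.exists_mul_mod_eq_one_of_coprime hcop (by omega : 1 < m)
      have hdiv := Nat.div_add_mod (4 * α) m
      rw [hα] at hdiv
      have e : (n₀ ^ 4) ^ α = (n₀ ^ m) ^ (4 * α / m) * n₀ := by
        rw [← pow_mul, ← pow_mul, ← pow_succ, hdiv]
      have : n₀ = ((n₀ ^ m) ^ (4 * α / m))⁻¹ * (n₀ ^ 4) ^ α := by
        rw [e]; group
      rw [this]
      exact mul_mem (inv_mem (pow_mem htC _)) (pow_mem hcon α)
    set n := n₀ ^ 4 with hn
    have hnm : n ^ m = 1 := by rw [hn, ← pow_mul, hn₀pow]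
    have hex : ∃ s ∈ (S₀ : Subgroup G), s * n ≠ n * s := by
      by_contra hcon
      push Not at hcon
      exact hnC (mem_centralizer_iff.mpr hcon)
    obtain ⟨s, hs, hsn⟩ := hex
    have hconjmem : ∀ x ∈ (S₀ : Subgroup G), n * x * n⁻¹ ∈ (S₀ : Subgroup G) :=
      fun x hx => (mem_normalizer_iff.mp hnN x).mp hx
    have hs₁ := hconjmem s hs
    have hs₂ := hconjmem _ hs₁
    set s₁ := n * s * n⁻¹ with hs₁def
    set s₂ := n * s₁ * n⁻¹ with hs₂def
    have hs1 : s ≠ 1 := by
      rintro rfl
      exact hsn (by rw [one_mul, mul_one])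
    have h10 : s₁ ≠ s := by
      intro h
      apply hsn
      calc s * n = (n * s * n⁻¹) * n := by rw [← hs₁def, h]
        _ = n * s := by group
    have h21 : s₂ ≠ s₁ := by
      intro h
      apply h10
      have := congrArg (fun t => n⁻¹ * t * n) h
      simp only [hs₂def] at this
      calc s₁ = n⁻¹ * (n * s₁ * n⁻¹) * n := by group
        _ = n⁻¹ * s₁ * n := this
        _ = s := by rw [hs₁def]; group
    have h20 : s₂ ≠ s := by
      intro h
      apply hsn
      have hc : Commute (n * n) s := by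
        have : (n * n) * s = s * (n * n) := by
          calc (n * n) * s = (n * (n * s * n⁻¹) * n⁻¹) * (n * n) := by group
            _ = s * (n * n) := by rw [← hs₁def, ← hs₂def, h]
        exact this
      obtain ⟨k, hk⟩ := hmodd
      have hpow : (n * n) ^ (k + 1) = n := by
        rw [← pow_two, ← pow_mul]
        have : 2 * (k + 1) = m + 1 := by omega
        rw [this, pow_succ, hnm, one_mul]
      have := hc.pow_left (k + 1)
      rw [hpow] at this
      exact this.eq.symm
    have hs₁1 : s₁ ≠ 1 := by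
      intro h
      apply hs1
      calc s = n⁻¹ * (n * s * n⁻¹) * n := by group
        _ = 1 := by rw [← hs₁def, h]; group
    have hs₂1 : s₂ ≠ 1 := by
      intro h
      apply hs₁1
      calc s₁ = n⁻¹ * (n * s₁ * n⁻¹) * n := by group
        _ = 1 := by rw [← hs₂def, h]; group
    have hall : ∀ x ∈ (S₀ : Subgroup G), x = 1 ∨ x = s ∨ x = s₁ ∨ x = s₂ := by
      intro x hx
      by_contra hcon
      push Not at hcon
      obtain ⟨c1, c2, c3, c4⟩ := hcon
      classical
      let F : Finset G := {x, 1, s, s₁, s₂}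
      have hF : F.card = 5 := by
        simp only [F]
        rw [Finset.card_insert_of_notMem (by simp [c1, c2, c3, c4]),
          Finset.card_insert_of_notMem (by simp [hs1.symm, hs₁1.symm, hs₂1.symm]),
          Finset.card_insert_of_notMem (by simp [h10.symm, h20.symm]),
          Finset.card_insert_of_notMem (by simp [h21.symm]), Finset.card_singleton]
      have hsub : (↑F : Set G) ⊆ ((S₀ : Subgroup G) : Set G) := by
        intro y hy
        simp only [F, Finset.coe_insert, Finset.coe_singleton, Set.mem_insert_iff,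
          Set.mem_singleton_iff] at hy
        rcases hy with rfl | rfl | rfl | rfl | rfl
        · exact hx
        · exact one_mem _
        · exact hs
        · exact hs₁
        · exact hs₂
      have h1 := Set.ncard_le_ncard hsub (Set.toFinite _)
      rw [Set.ncard_coe_finset, hF] at h1
      have h2 : ((S₀ : Subgroup G) : Set G).ncard = 4 := by
        rw [← hcard]
        exact (Nat.card_coe_set_eq _).symm
      omega
    have hc01 : IsConj s s₁ := isConj_iff.mpr ⟨n, rfl⟩
    have hc12 : IsConj s₁ s₂ := isConj_iff.mpr ⟨n, rfl⟩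
    have hcs : ∀ x ∈ (S₀ : Subgroup G), x ≠ 1 → IsConj s x := by
      intro x hx hx1
      rcases hall x hx with h | h | h | h
      · exact absurd h hx1
      · rw [h]
      · rw [h]; exact hc01
      · rw [h]; exact hc01.trans hc12
    intro x hx hx1
    exact (hcs z hz (fr_ne_one Z.hz2)).symm.trans (hcs x hx hx1)

/-- All involutions are conjugate to `z`. -/
theorem FrZ.conj2 (Z : FrZ G P m z) {x : G} (hx : orderOf x = 2) :
    ∃ k : G, x = k * z * k⁻¹ := by
  have : Fact (Nat.Prime 2) := ⟨Nat.prime_two⟩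
  obtain ⟨S₀, hzS, hcard, hab⟩ := Z.exists_sylow2
  have hfus := Z.fusion S₀ hcard hab hzS
  have hx2 : x ^ 2 ^ 1 = 1 := by rw [pow_one, ← hx, pow_orderOf_eq_one]
  obtain ⟨c, hc⟩ := fr_conj_mem_sylow S₀ hx2
  have hne : c * x * c⁻¹ ≠ 1 := by
    intro h
    apply fr_ne_one hx
    calc x = c⁻¹ * (c * x * c⁻¹) * c := by group
      _ = 1 := by rw [h]; group
  obtain ⟨d, hd⟩ := isConj_iff.mp (hfus _ hc hne)
  refine ⟨c⁻¹ * d, ?_⟩
  calc x = c⁻¹ * (c * x * c⁻¹) * c := by group
    _ = c⁻¹ * (d * z * d⁻¹) * c := by rw [hd]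
    _ = c⁻¹ * d * z * (c⁻¹ * d)⁻¹ := by group

/-- A second involution `u` commuting with `z`, conjugate to `z`. -/
theorem FrZ.exists_u (Z : FrZ G P m z) :
    ∃ u h : G, orderOf u = 2 ∧ u ≠ z ∧ u * z = z * u ∧ u = h * z * h⁻¹ := by
  obtain ⟨S₀, hzS, hcard, hab⟩ := Z.exists_sylow2
  have hfus := Z.fusion S₀ hcard hab hzS
  have hex : ∃ u ∈ (S₀ : Subgroup G), u ≠ 1 ∧ u ≠ z := by
    by_contra hcon
    push Not at hcon
    classical
    have hsub : ((S₀ : Subgroup G) : Set G) ⊆ ↑({1, z} : Finset G) := by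
      intro y hy
      simp only [Finset.coe_insert, Finset.coe_singleton, Set.mem_insert_iff,
        Set.mem_singleton_iff]
      by_cases h1 : y = 1
      · exact Or.inl h1
      · exact Or.inr (hcon y hy h1)
    have h1 := Set.ncard_le_ncard hsub (Set.toFinite _)
    rw [Set.ncard_coe_finset] at h1
    have h2 : ((S₀ : Subgroup G) : Set G).ncard = 4 := by
      rw [← hcard]
      exact (Nat.card_coe_set_eq _).symm
    have h3 : ({1, z} : Finset G).card ≤ 2 := Finset.card_le_two
    omega
  obtain ⟨u, huS, hu1, huz⟩ := hex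
  obtain ⟨h, hh⟩ := isConj_iff.mp (hfus u huS hu1)
  refine ⟨u, h, ?_, huz, hab u huS z hzS, hh.symm⟩
  rw [← hh, fr_orderOf_conj, Z.hz2]

/-- `C_P(u) = 1` for an involution `u ≠ z` conjugate to `z`. -/
theorem FrZ.CP_u (Z : FrZ G P m z) {u h : G} (hu : u = h * z * h⁻¹) (hne : u ≠ z) {g : G}
    (hg : g ∈ (P : Subgroup G)) (hc : u * g = g * u) : g = 1 := by
  have : Fact (Nat.Prime 3) := ⟨Nat.prime_three⟩
  have hnot : h ∉ normalizer
      ((centralizer ((P : Subgroup G) : Set G) : Subgroup G) : Set G) := by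
    intro hn
    have h1 := (mem_normalizer_iff.mp hn z).mp Z.hzC
    have h2 := Z.comm_of_conj_mem h1
    apply hne
    rw [hu, h2, mul_assoc, mul_inv_cancel, mul_one]
  have hcomm : (h⁻¹ * g * h) * z = z * (h⁻¹ * g * h) := by
    calc (h⁻¹ * g * h) * z = h⁻¹ * (g * (h * z * h⁻¹)) * h := by group
      _ = h⁻¹ * (g * u) * h := by rw [← hu]
      _ = h⁻¹ * (u * g) * h := by rw [hc]
      _ = h⁻¹ * ((h * z * h⁻¹) * g) * h := by rw [← hu]
      _ = z * (h⁻¹ * g * h) := by group
  have hN := Z.mem_N_of_comm hcomm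
  obtain ⟨a, ha⟩ := Z.hyp.m_pow
  have hpow : (h⁻¹ * g * h) ^ 3 ^ a = 1 := by
    have e : h⁻¹ * g * h = h⁻¹ * g * h⁻¹⁻¹ := by rw [inv_inv]
    rw [e, conj_pow, ← ha, Z.hyp.P_pow hg]
    group
  have hP := fr_mem_sylow_of_normalizer P hN hpow
  have hC := Z.hyp.P_le_C hP
  have hback : h * (h⁻¹ * g * h) * h⁻¹ ∈ centralizer ((P : Subgroup G) : Set G) := by
    have : h * (h⁻¹ * g * h) * h⁻¹ = g := by group
    rw [this]
    exact Z.hyp.P_le_C hg
  have h1 := Z.hyp.hTI h hnot _ hC hback
  calc g = h * (h⁻¹ * g * h) * h⁻¹ := by group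
    _ = 1 := by rw [h1]; group

/-- `u` inverts `P`. -/
theorem FrZ.u_inv_P (Z : FrZ G P m z) {u h : G} (hu2 : orderOf u = 2) (hu : u = h * z * h⁻¹)
    (hne : u ≠ z) (huz : u * z = z * u) {p : G} (hp : p ∈ (P : Subgroup G)) :
    u * p * u⁻¹ = p⁻¹ := by
  have huN := Z.mem_N_of_comm huz
  have hup : u * p * u⁻¹ ∈ (P : Subgroup G) := (mem_normalizer_iff.mp huN p).mp hp
  have huinv : u⁻¹ = u := fr_inv hu2
  have huu := fr_sq hu2
  rw [huinv] at hup ⊢
  have hq : p * (u * p * u) ∈ (P : Subgroup G) := mul_mem hp hup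
  have hcomm : u * (p * (u * p * u)) = (p * (u * p * u)) * u := by
    calc u * (p * (u * p * u)) = (u * p * u) * p * u := by group
      _ = (p * (u * p * u)) * u := by rw [Z.hyp.hab _ hup p hp]
  have h1 := Z.CP_u hu hne hq hcomm
  exact eq_inv_of_mul_eq_one_right h1

/-- Products of two distinct involutions have order dividing `4 m`. -/
theorem FrHyp.prod_order (H : FrHyp G P m) {x y : G} (hx : orderOf x = 2) (hy : orderOf y = 2)
    (hxy : x ≠ y) : orderOf (x * y) ∣ 4 * m := by
  have hxx := fr_sq hx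
  have hyy := fr_sq hy
  have hxinv := fr_inv hx
  have hyinv := fr_inv hy
  set D := closure ({x, y} : Set G) with hD
  have hxD : x ∈ D := subset_closure (by simp)
  have hyD : y ∈ D := subset_closure (by simp)
  have h2 : 2 ∣ Nat.card D := by
    have := orderOf_dvd_natCard (⟨x, hxD⟩ : D)
    rwa [Subgroup.orderOf_mk, hx] at this
  have hne : D ≠ ⊤ := by
    intro htop
    -- zpowers (x * y) is normal
    have hxn : x ∈ normalizer ((zpowers (x * y) : Subgroup G) : Set G) := by
      rw [mem_normalizer_iff_map_conj_eq, MonoidHom.map_zpowers]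
      have : x * (x * y) * x⁻¹ = (x * y)⁻¹ := by
        rw [mul_inv_rev, hxinv, hyinv]
        calc x * (x * y) * x = (x * x) * y * x := by group
          _ = y * x := by rw [hxx, one_mul]
      change zpowers (x * (x * y) * x⁻¹) = zpowers (x * y)
      rw [this, zpowers_inv]
    have hyn : y ∈ normalizer ((zpowers (x * y) : Subgroup G) : Set G) := by
      rw [mem_normalizer_iff_map_conj_eq, MonoidHom.map_zpowers]
      have : y * (x * y) * y⁻¹ = (x * y)⁻¹ := by
        rw [mul_inv_rev, hxinv, hyinv]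
        calc y * (x * y) * y = y * x * (y * y) := by group
          _ = y * x := by rw [hyy, mul_one]
      change zpowers (y * (x * y) * y⁻¹) = zpowers (x * y)
      rw [this, zpowers_inv]
    have hle : D ≤ normalizer ((zpowers (x * y) : Subgroup G) : Set G) := by
      rw [hD, closure_le]
      intro w hw
      rcases hw with rfl | rfl
      · exact hxn
      · exact hyn
    have hnorm : (zpowers (x * y)).Normal := by
      rw [← normalizer_eq_top_iff, eq_top_iff, ← htop]
      exact hle
    have := H.simple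
    rcases hnorm.eq_bot_or_eq_top with hb | ht
    · have h1 : x * y = 1 := by
        have : x * y ∈ zpowers (x * y) := mem_zpowers _
        rw [hb] at this
        exact Subgroup.mem_bot.mp this
      apply hxy
      have : x = y⁻¹ := eq_inv_of_mul_eq_one_left h1
      rw [this, hyinv]
    · apply H.not_comm
      intro a b
      have ha : a ∈ zpowers (x * y) := by rw [ht]; exact Subgroup.mem_top a
      have hb : b ∈ zpowers (x * y) := by rw [ht]; exact Subgroup.mem_top b
      obtain ⟨i, rfl⟩ := mem_zpowers_iff.mp ha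
      obtain ⟨j, rfl⟩ := mem_zpowers_iff.mp hb
      rw [← zpow_add, ← zpow_add, add_comm]
  have hdvd := H.heven D hne h2
  have := orderOf_dvd_natCard (⟨x * y, mul_mem hxD hyD⟩ : D)
  rw [Subgroup.orderOf_mk] at this
  exact this.trans hdvd

/-- The local data exist. -/
theorem FrHyp.exists_data (H : FrHyp G P m) :
    ∃ (C : Subgroup G) (z u : G), FrData G (P : Subgroup G) C m z u := by
  have : Fact (Nat.Prime 3) := ⟨Nat.prime_three⟩
  obtain ⟨z, hz2, hzC, hzP, hCdesc⟩ := H.exists_z
  have Z : FrZ G P m z := ⟨H, hz2, hzC, hzP, hCdesc⟩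
  obtain ⟨u, h, hu2, hune, huz, hu⟩ := Z.exists_u
  set C := centralizer ((P : Subgroup G) : Set G) with hCdef
  have huC : u ∉ C := fun hmem => hune (Z.C_inv hmem hu2)
  have huN := Z.mem_N_of_comm huz
  -- `C` has index two in `N(P)`
  have hCz : ∀ w : G, w * z = z * w → w ∈ C ∨ w * u ∈ C := by
    intro w hw
    have hwN := Z.mem_N_of_comm hw
    set N := normalizer ((P : Subgroup G) : Set G) with hNdef
    have hCN : C ≤ N := centralizer_le_normalizer _
    have hidx : (C.subgroupOf N).index = 2 := by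
      have h1 := Subgroup.card_mul_index (C.subgroupOf N)
      have h3 : Nat.card (C.subgroupOf N) = 2 * m := by
        rw [← H.hC]
        exact Nat.card_congr (Subgroup.subgroupOfEquivOfLe hCN).toEquiv
      rw [h3, H.hN] at h1
      have hpos : 0 < 2 * m := by have := H.m_pos; omega
      have h4 : 2 * m * (C.subgroupOf N).index = 2 * m * 2 := by rw [h1]; ring
      exact Nat.eq_of_mul_eq_mul_left hpos h4
    by_cases hwC : w ∈ C
    · exact Or.inl hwC
    · right
      have := Subgroup.mul_mem_iff_of_index_two hidx (a := (⟨w, hwN⟩ : N)) (b := ⟨u, huN⟩)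
      rw [Subgroup.mem_subgroupOf, Subgroup.mem_subgroupOf, Subgroup.mem_subgroupOf] at this
      exact this.mpr ⟨fun h => absurd h hwC, fun h => absurd h huC⟩
  have hCg : ∀ g ∈ (P : Subgroup G), g ≠ 1 → ∀ c : G, c * g = g * c → c ∈ C := by
    intro g hg hg1 c hc
    have hgC : g ∈ C := H.P_le_C hg
    have hcn : c ∈ normalizer ((C : Subgroup G) : Set G) := by
      by_contra hnot
      apply hg1
      apply H.hTI c hnot g hgC
      have : c * g * c⁻¹ = g := by rw [hc, mul_assoc, mul_inv_cancel, mul_one]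
      rw [this]
      exact hgC
    have h1 := (mem_normalizer_iff.mp hcn z).mp hzC
    have hcz := Z.comm_of_conj_mem h1
    rcases hCz c hcz with h2 | h2
    · exact h2
    · exfalso
      apply hg1
      apply Z.CP_u hu hune hg
      -- (c * u) commutes with g, and so does c
      have h3 : g * (c * u) = (c * u) * g := (mem_centralizer_iff.mp h2) g hg
      have h4 : c * (u * g) = c * (g * u) := by
        calc c * (u * g) = (c * u) * g := by group
          _ = g * (c * u) := h3.symm
          _ = (g * c) * u := by group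
          _ = (c * g) * u := by rw [hc]
          _ = c * (g * u) := by group
      exact mul_left_cancel h4
  obtain ⟨a, ha⟩ := H.m_pow
  refine ⟨C, z, u, ?_⟩
  exact
    { hm3 := H.m_ge
      hmodd := H.m_odd
      hPcard := H.hPcard
      hCcard := H.hC
      hPpow := fun p hp => H.P_pow hp
      hPC := H.P_le_C
      hCdesc := hCdesc
      hPab := H.hab
      hz := hz2
      hzC := hzC
      hzP := fun p hp => Z.P_comm_z hp
      hu := hu2
      huz := huz
      huP := fun p hp => Z.u_inv_P hu2 hu hune huz hp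
      hCz := hCz
      hCg := hCg
      hconj2 := fun x hx => Z.conj2 hx
      hconj3 := fun g hg => fr_conj_mem_sylow P (k := a) (by rw [← ha]; exact hg)
      hprod := fun x y hx hy hxy => H.prod_order hx hy hxy }

/-- The hypotheses of S4018 are incompatible with simplicity. -/
theorem FrHyp.false (H : FrHyp G P m) : False := by
  obtain ⟨C, z, u, D⟩ := H.exists_data
  exact D.false

end

end Cfsg.Agent.Helper3
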