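import Mathlib

/-!
# CALL LM (helper21, row S4067), piece COUNT (helper3, double): one automorphism moving every
element outside an index-`p` subgroup `M ≥ Z(G)` to a non-conjugate element gives at most `|G|/p`
orbits of `Aut G` on `G`.

Integer form of the count: weights `w g = 1` (`g ∉ M`), `2` (`g ∈ M ∖ Z`), `2 p` (`g ∈ Z`); every
orbit has weight `≥ 2 p`, and the total weight is `n + |M| + (2 p - 2) |Z| ≤ 2 n` as `2 |Z| ≤ |M|`.
-/

set_option autoImplicit false

namespace Cfsg.Agent.Helper3.LM

/-- The conjugacy class of a non-central element has at least `p` elements. -/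
theorem lmc_class_ge {G : Type*} [Group G] [Finite G] (x : G) (hx : x ∉ Subgroup.center G) :
    (Nat.card G).minFac ≤ (MulAction.orbit (ConjAct G) x).ncard := by
  haveI : Finite (ConjAct G) := ‹Finite G›
  rw [← MulAction.index_stabilizer]
  apply Nat.minFac_le_of_dvd
  · have h0 : (MulAction.stabilizer (ConjAct G) x).index ≠ 0 := Subgroup.index_ne_zero_of_finite
    have h1 : (MulAction.stabilizer (ConjAct G) x).index ≠ 1 := by
      intro h
      rw [Subgroup.index_eq_one] at h
      apply hx
      rw [Subgroup.mem_center_iff]
      intro g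
      have hg : ConjAct.toConjAct g ∈ MulAction.stabilizer (ConjAct G) x := by
        rw [h]
        trivial
      rw [MulAction.mem_stabilizer_iff, ConjAct.toConjAct_smul] at hg
      calc g * x = g * x * g⁻¹ * g := by group
        _ = x * g := by rw [hg]
    omega
  · exact Subgroup.index_dvd_card (MulAction.stabilizer (ConjAct G) x)

/-- `2 |Z(G)| ≤ |M|` for a subgroup `M` of index `p` in a non-abelian group. -/
theorem lmc_center_le {G : Type*} [Group G] [Finite G] (hna : ¬ IsMulCommutative G)
    (M : Subgroup G) (hM : M.index = (Nat.card G).minFac) :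
    2 * Nat.card (Subgroup.center G) ≤ Nat.card M := by
  have hn1 : Nat.card G ≠ 1 := by
    intro h
    apply hna
    haveI : Subsingleton G := (Nat.card_eq_one_iff_unique.mp h).1
    exact ⟨⟨fun a b => Subsingleton.elim _ _⟩⟩
  have hpp : (Nat.card G).minFac.Prime := Nat.minFac_prime hn1
  have hMcard : Nat.card M * (Nat.card G).minFac = Nat.card G := by
    rw [← hM]
    exact Subgroup.card_mul_index M
  have hm0 : (Subgroup.center G).index ≠ 0 := Subgroup.index_ne_zero_of_finite
  have hm1 : (Subgroup.center G).index ≠ 1 := by
    intro h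
    rw [Subgroup.index_eq_one] at h
    apply hna
    refine ⟨⟨fun a b => ?_⟩⟩
    have hb : b ∈ Subgroup.center G := by
      rw [h]
      trivial
    exact (Subgroup.mem_center_iff.mp hb a)
  have hmp : ¬ (Subgroup.center G).index.Prime := by
    intro hprime
    apply hna
    haveI : Fact ((Subgroup.center G).index.Prime) := ⟨hprime⟩
    haveI : IsCyclic (G ⧸ Subgroup.center G) :=
      isCyclic_of_prime_card (p := (Subgroup.center G).index) rfl
    exact ⟨⟨commutative_of_cyclic_center_quotient (QuotientGroup.mk' (Subgroup.center G))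
      (by rw [QuotientGroup.ker_mk'])⟩⟩
  have hsq : (Subgroup.center G).index.minFac ^ 2 ≤ (Subgroup.center G).index :=
    Nat.minFac_sq_le_self (Nat.pos_of_ne_zero hm0) hmp
  have hle : (Nat.card G).minFac ≤ (Subgroup.center G).index.minFac :=
    Nat.minFac_le_of_dvd (Nat.minFac_prime hm1).two_le
      ((Nat.minFac_dvd _).trans (Subgroup.index_dvd_card _))
  have hcz : Nat.card (Subgroup.center G) * (Subgroup.center G).index = Nat.card G :=
    Subgroup.card_mul_index _
  have h2p : 2 * (Nat.card G).minFac ≤ (Subgroup.center G).index := by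
    have h2 := hpp.two_le
    nlinarith
  have h3 : 2 * Nat.card (Subgroup.center G) * (Nat.card G).minFac ≤
      Nat.card M * (Nat.card G).minFac := by
    calc 2 * Nat.card (Subgroup.center G) * (Nat.card G).minFac
        = Nat.card (Subgroup.center G) * (2 * (Nat.card G).minFac) := by ring
      _ ≤ Nat.card (Subgroup.center G) * (Subgroup.center G).index :=
        Nat.mul_le_mul_left _ h2p
      _ = Nat.card G := hcz
      _ = Nat.card M * (Nat.card G).minFac := hMcard.symm
  exact Nat.le_of_mul_le_mul_right h3 hpp.pos

/-- COUNT: one automorphism moving every element outside an index-`p` subgroup `M ≥ Z(G)` to a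
non-conjugate element gives at most `|G|/p` orbits. -/
theorem lm_count {G : Type*} [Group G] [Finite G] (hna : ¬ IsMulCommutative G)
    (σ : MulAut G) (M : Subgroup G) (hM : M.index = (Nat.card G).minFac)
    (hZM : Subgroup.center G ≤ M) (hσ : ∀ g : G, g ∉ M → ¬ IsConj g (σ g)) :
    Nat.card (MulAction.orbitRel.Quotient (MulAut G) G) ≤ Nat.card G / (Nat.card G).minFac := by
  classical
  haveI : Fintype G := Fintype.ofFinite G
  haveI : Fintype (MulAction.orbitRel.Quotient (MulAut G) G) := Fintype.ofFinite _
  have hn1 : Nat.card G ≠ 1 := by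
    intro h
    apply hna
    haveI : Subsingleton G := (Nat.card_eq_one_iff_unique.mp h).1
    exact ⟨⟨fun a b => Subsingleton.elim _ _⟩⟩
  have hpp : (Nat.card G).minFac.Prime := Nat.minFac_prime hn1
  have hMcard : Nat.card M * (Nat.card G).minFac = Nat.card G := by
    rw [← hM]
    exact Subgroup.card_mul_index M
  have hZ2 := lmc_center_le hna M hM
  obtain ⟨p, hp⟩ : ∃ p, p = (Nat.card G).minFac := ⟨_, rfl⟩
  rw [← hp] at hpp hMcard hM ⊢
  have hp2 : 2 ≤ p := hpp.two_le
  -- the weights
  obtain ⟨w, hw⟩ : ∃ w : G → ℕ, ∀ g, w g = 1 + (if g ∈ M then 1 else 0) +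
      (if g ∈ Subgroup.center G then 2 * p - 2 else 0) := ⟨_, fun _ => rfl⟩
  have hsumM : ∀ (H : Subgroup G) [DecidablePred (· ∈ H)] (c : ℕ),
      ∑ g : G, (if g ∈ H then c else 0) = c * Nat.card H := by
    intro H _ c
    rw [← Finset.sum_filter, Finset.sum_const, smul_eq_mul, mul_comm]
    congr 1
    rw [← Nat.card_eq_finsetCard]
    exact Nat.card_congr (Equiv.subtypeEquivRight (fun x => by simp))
  have hwsum : ∑ g : G, w g =
      Nat.card G + Nat.card M + (2 * p - 2) * Nat.card (Subgroup.center G) := by
    have e0 : ∑ g : G, w g = ∑ _g : G, 1 + ∑ g : G, (if g ∈ M then 1 else 0) +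
        ∑ g : G, (if g ∈ Subgroup.center G then 2 * p - 2 else 0) := by
      rw [← Finset.sum_add_distrib, ← Finset.sum_add_distrib]
      exact Finset.sum_congr rfl (fun g _ => hw g)
    have e1 : ∑ _g : G, 1 = Nat.card G := by
      rw [Finset.sum_const, Finset.card_univ, smul_eq_mul, mul_one, Nat.card_eq_fintype_card]
    rw [e0, e1, hsumM M 1, hsumM (Subgroup.center G) (2 * p - 2), one_mul]
  -- every orbit has weight at least `2 p`
  have horb : ∀ o : MulAction.orbitRel.Quotient (MulAut G) G,
      2 * p ≤ ∑ g ∈ Finset.univ.filter (fun g : G =>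
        (Quotient.mk'' g : MulAction.orbitRel.Quotient (MulAut G) G) = o), w g := by
    intro o
    induction o using Quotient.inductionOn' with
    | h g₀ =>
    have hfib : ∀ g : G, g ∈ Finset.univ.filter (fun g : G =>
        (Quotient.mk'' g : MulAction.orbitRel.Quotient (MulAut G) G) = Quotient.mk'' g₀) ↔
        g ∈ MulAction.orbit (MulAut G) g₀ := by
      intro g
      rw [Finset.mem_filter, Quotient.eq'', MulAction.orbitRel_apply]
      simp
    have hconj_sub : ∀ x ∈ MulAction.orbit (MulAut G) g₀, ∀ y,
        y ∈ MulAction.orbit (ConjAct G) x → y ∈ MulAction.orbit (MulAut G) g₀ := by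
      intro x hx y hy
      rw [ConjAct.mem_orbit_conjAct] at hy
      obtain ⟨c, hc⟩ := isConj_iff.mp hy.symm
      have h1 : y ∈ MulAction.orbit (MulAut G) x := by
        refine ⟨MulAut.conj c, ?_⟩
        show MulAut.conj c • x = y
        rw [MulAut.smul_def, MulAut.conj_apply]
        exact hc
      rw [MulAction.orbit_eq_iff.mpr hx] at h1
      exact h1
    by_cases hc0 : g₀ ∈ Subgroup.center G
    · have hw0 : w g₀ = 2 * p := by
        rw [hw, if_pos (hZM hc0), if_pos hc0]
        omega
      rw [← hw0]
      exact Finset.single_le_sum (f := w) (fun _ _ => Nat.zero_le _)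
        ((hfib g₀).mpr (MulAction.mem_orbit_self g₀))
    · by_cases hex : ∃ g₁ ∈ MulAction.orbit (MulAut G) g₀, g₁ ∉ M
      · obtain ⟨g₁, hg₁, hg₁M⟩ := hex
        have h1 : g₁ ∉ Subgroup.center G := fun h => hg₁M (hZM h)
        have h2 : σ g₁ ∉ Subgroup.center G := by
          intro h
          apply h1
          rw [Subgroup.mem_center_iff] at h ⊢
          intro a
          have := h (σ a)
          exact σ.injective (by rw [map_mul, map_mul]; exact this)
        have hσorb : σ g₁ ∈ MulAction.orbit (MulAut G) g₀ := by
          have h3 : σ g₁ ∈ MulAction.orbit (MulAut G) g₁ := ⟨σ, rfl⟩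
          rw [MulAction.orbit_eq_iff.mpr hg₁] at h3
          exact h3
        have hdisj : Disjoint (MulAction.orbit (ConjAct G) g₁)
            (MulAction.orbit (ConjAct G) (σ g₁)) := by
          rw [Set.disjoint_left]
          intro y hy1 hy2
          rw [ConjAct.mem_orbit_conjAct] at hy1 hy2
          exact hσ g₁ hg₁M (hy1.symm.trans hy2)
        have hsub : (MulAction.orbit (ConjAct G) g₁ ∪ MulAction.orbit (ConjAct G) (σ g₁) :
            Set G) ⊆ ↑(Finset.univ.filter (fun g : G =>
            (Quotient.mk'' g : MulAction.orbitRel.Quotient (MulAut G) G) = Quotient.mk'' g₀)) := by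
          intro y hy
          rw [Finset.mem_coe, hfib]
          rcases hy with hy | hy
          · exact hconj_sub g₁ hg₁ y hy
          · exact hconj_sub (σ g₁) hσorb y hy
        have hcard : 2 * p ≤ (Finset.univ.filter (fun g : G =>
            (Quotient.mk'' g : MulAction.orbitRel.Quotient (MulAut G) G) =
              Quotient.mk'' g₀)).card := by
          rw [← Set.ncard_coe_finset]
          have e1 := lmc_class_ge g₁ h1
          have e2 := lmc_class_ge (σ g₁) h2
          rw [← hp] at e1 e2
          calc 2 * p ≤ (MulAction.orbit (ConjAct G) g₁).ncard +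
                (MulAction.orbit (ConjAct G) (σ g₁)).ncard := by omega
            _ = (MulAction.orbit (ConjAct G) g₁ ∪ MulAction.orbit (ConjAct G) (σ g₁)).ncard :=
              (Set.ncard_union_eq hdisj (Set.toFinite _) (Set.toFinite _)).symm
            _ ≤ _ := Set.ncard_le_ncard hsub (Set.toFinite _)
        calc 2 * p ≤ _ := hcard
          _ = ∑ g ∈ Finset.univ.filter (fun g : G =>
              (Quotient.mk'' g : MulAction.orbitRel.Quotient (MulAut G) G) = Quotient.mk'' g₀),
                1 := by simp
          _ ≤ _ := Finset.sum_le_sum (fun g _ => by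
              rw [hw]
              exact le_trans (Nat.le_add_right 1 _) (Nat.le_add_right _ _))
      · push Not at hex
        have hsub : (MulAction.orbit (ConjAct G) g₀ : Set G) ⊆ ↑(Finset.univ.filter (fun g : G =>
            (Quotient.mk'' g : MulAction.orbitRel.Quotient (MulAut G) G) = Quotient.mk'' g₀)) := by
          intro y hy
          rw [Finset.mem_coe, hfib]
          exact hconj_sub g₀ (MulAction.mem_orbit_self g₀) y hy
        have hcard : p ≤ (Finset.univ.filter (fun g : G =>
            (Quotient.mk'' g : MulAction.orbitRel.Quotient (MulAut G) G) =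
              Quotient.mk'' g₀)).card := by
          rw [← Set.ncard_coe_finset]
          have e1 := lmc_class_ge g₀ hc0
          rw [← hp] at e1
          exact e1.trans (Set.ncard_le_ncard hsub (Set.toFinite _))
        calc 2 * p ≤ (Finset.univ.filter (fun g : G =>
              (Quotient.mk'' g : MulAction.orbitRel.Quotient (MulAut G) G) =
                Quotient.mk'' g₀)).card * 2 := by omega
          _ = ∑ g ∈ Finset.univ.filter (fun g : G =>
              (Quotient.mk'' g : MulAction.orbitRel.Quotient (MulAut G) G) = Quotient.mk'' g₀),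
                2 := by rw [Finset.sum_const, smul_eq_mul]
          _ ≤ _ := Finset.sum_le_sum (fun g hg => by
              rw [hw, if_pos (hex g ((hfib g).mp hg))]
              exact Nat.le_add_right (1 + 1) _)
  -- double counting
  have hk : 2 * p * Fintype.card (MulAction.orbitRel.Quotient (MulAut G) G) ≤
      2 * Nat.card G := by
    calc 2 * p * Fintype.card (MulAction.orbitRel.Quotient (MulAut G) G)
        = ∑ _o : MulAction.orbitRel.Quotient (MulAut G) G, 2 * p := by
          rw [Finset.sum_const, Finset.card_univ, smul_eq_mul, mul_comm]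
      _ ≤ ∑ o : MulAction.orbitRel.Quotient (MulAut G) G,
            ∑ g ∈ Finset.univ.filter (fun g : G =>
              (Quotient.mk'' g : MulAction.orbitRel.Quotient (MulAut G) G) = o), w g :=
          Finset.sum_le_sum (fun o _ => horb o)
      _ = ∑ g : G, w g := Finset.sum_fiberwise _ _ _
      _ = Nat.card G + Nat.card M + (2 * p - 2) * Nat.card (Subgroup.center G) := hwsum
      _ ≤ 2 * Nat.card G := by
          have h3 : (2 * p - 2) * Nat.card (Subgroup.center G) ≤ (p - 1) * Nat.card M := by
            have e : 2 * p - 2 = (p - 1) * 2 := by omega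
            rw [e, mul_assoc]
            exact Nat.mul_le_mul_left _ hZ2
          have h4 : Nat.card M + (p - 1) * Nat.card M = Nat.card M * p := by
            obtain ⟨q, rfl⟩ : ∃ q, p = q + 1 := ⟨p - 1, by omega⟩
            simp only [Nat.add_sub_cancel]
            ring
          omega
  rw [Nat.card_eq_fintype_card (α := MulAction.orbitRel.Quotient (MulAut G) G),
    Nat.le_div_iff_mul_le hpp.pos]
  have hk' : 2 * (Fintype.card (MulAction.orbitRel.Quotient (MulAut G) G) * p) ≤
      2 * Nat.card G := by
    calc 2 * (Fintype.card (MulAction.orbitRel.Quotient (MulAut G) G) * p)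
        = 2 * p * Fintype.card (MulAction.orbitRel.Quotient (MulAut G) G) := by ring
      _ ≤ _ := hk
  omega

end Cfsg.Agent.Helper3.LM
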