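import Mathlib
import Cfsg.Prelude.Def_GeometricClasses
import Cfsg.Prelude.Def_Classical

set_option autoImplicit false

/-!
# Plus type of the invariant subspaces of a quadratic unipotent isometry (helper3)

If `A` is an isometry of the quadratic form `Q` (characteristic not 2), `W` is an `A`-invariant
subspace with `(A - 1)^2 = 0` on `W` and `dim C_W(A) = dim W / 2`, then `(A - 1) W` is a totally
singular subspace of `W` of half the dimension: `W` is of plus type.
-/

namespace Cfsg.Agent.Helper3.O93PlusType

open Module

variable {F : Type*} [Field F] {ι : Type} [Fintype ι] [DecidableEq ι]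

theorem o93_sing (h2 : (2 : F) ≠ 0) (Q : QuadraticForm F (ι → F)) (f : (ι → F) →ₗ[F] (ι → F))
    (hf : ∀ v, Q (f v) = Q v) (w : ι → F) (hw : f (f w) = 2 • f w - w) :
    Q (f w - w) = 0 := by
  have hpol : QuadraticMap.polar Q (f w) w = 2 * Q w := by
    have h3 : QuadraticMap.polar Q (f (f w)) (f w) = QuadraticMap.polar Q (f w) w := by
      unfold QuadraticMap.polar
      rw [← map_add, hf, hf, hf]
    rw [hw] at h3
    have h4 : QuadraticMap.polar Q (2 • f w - w) (f w)
        = 2 * QuadraticMap.polar Q (f w) (f w) - QuadraticMap.polar Q w (f w) := by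
      rw [QuadraticMap.polar_sub_left, two_smul, QuadraticMap.polar_add_left]
      ring
    rw [h4, QuadraticMap.polar_self, hf, QuadraticMap.polar_comm Q w (f w)] at h3
    have h5 : (2 : F) * QuadraticMap.polar Q (f w) w = 2 * (2 * Q w) := by
      rw [two_smul] at h3
      linear_combination (-1 : F) * h3
    exact mul_left_cancel₀ h2 h5
  have h6 : Q (f w - w) = Q (f w) + Q w - QuadraticMap.polar Q (f w) w := by
    have := QuadraticMap.polar_sub_left Q (f w) w w
    have h7 : QuadraticMap.polar Q (f w - w) w = Q (f w) - Q (f w - w) - Q w := by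
      unfold QuadraticMap.polar
      rw [sub_add_cancel]
    rw [h7, QuadraticMap.polar_self] at this
    linear_combination -this
  rw [h6, hpol, hf]
  ring

theorem o93_plus_type (h2 : (2 : F) ≠ 0) (Q : QuadraticForm F (ι → F)) (A : Matrix ι ι F)
    (hA : ∀ v, Q (A.mulVec v) = Q v) (W : Submodule F (ι → F))
    (hW : W.map (Matrix.toLin' A) ≤ W)
    (hN2 : W ≤ LinearMap.ker ((Matrix.toLin' A - 1) ^ 2))
    (hk : 2 * finrank F ↥(W ⊓ LinearMap.ker (Matrix.toLin' A - 1)) = finrank F ↥W) :
    Cfsg.Geo.IsPlusTypeOn (⇑Q) W := by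
  set f : (ι → F) →ₗ[F] (ι → F) := Matrix.toLin' A with hfdef
  have hf : ∀ v, Q (f v) = Q v := by
    intro v
    rw [hfdef, Matrix.toLin'_apply]
    exact hA v
  refine ⟨W.map (f - 1), ?_, ?_, ?_⟩
  · rintro _ ⟨w, hw, rfl⟩
    have : f w ∈ W := hW ⟨w, hw, rfl⟩
    simpa using W.sub_mem this hw
  · rintro _ ⟨w, hw, rfl⟩
    have h := hN2 hw
    rw [LinearMap.mem_ker, pow_two, Module.End.mul_apply] at h
    simp only [LinearMap.sub_apply, Module.End.one_apply, map_sub] at h
    have e1 : f (f w) = 2 • f w - w := by
      rw [two_smul]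
      linear_combination (exp := 1) h
    have := o93_sing h2 Q f hf w e1
    simpa using this
  · -- rank-nullity for the restriction of `f - 1` to `W`
    have hrn := LinearMap.finrank_range_add_finrank_ker ((f - 1).domRestrict W)
    have hr0 : LinearMap.range ((f - 1).domRestrict W) = W.map (f - 1) := by
      ext y
      simp only [LinearMap.mem_range, LinearMap.domRestrict_apply, Submodule.mem_map,
        Subtype.exists, exists_prop]
    have hr : finrank F ↥(LinearMap.range ((f - 1).domRestrict W)) = finrank F ↥(W.map (f - 1)) := by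
      rw [hr0]
    have hkk : finrank F ↥(LinearMap.ker ((f - 1).domRestrict W))
        = finrank F ↥(W ⊓ LinearMap.ker (f - 1)) := by
      have e : ↥(LinearMap.ker ((f - 1).domRestrict W)) ≃ₗ[F] ↥(W ⊓ LinearMap.ker (f - 1)) :=
        { toFun := fun x => ⟨(x.1 : ι → F), ⟨x.1.2, by
              have h := LinearMap.mem_ker.mp x.2
              rw [LinearMap.domRestrict_apply] at h
              exact LinearMap.mem_ker.mpr h⟩⟩
          map_add' := fun x y => rfl
          map_smul' := fun c x => rfl
          invFun := fun y => ⟨⟨y.1, y.2.1⟩, by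
              have h := LinearMap.mem_ker.mp y.2.2
              rw [LinearMap.mem_ker, LinearMap.domRestrict_apply]
              exact h⟩
          left_inv := fun x => rfl
          right_inv := fun y => rfl }
      exact e.finrank_eq
    rw [hr, hkk] at hrn
    omega

end Cfsg.Agent.Helper3.O93PlusType
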