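import Mathlib
import Cfsg.Agent.Helper96.OHDefs
import Cfsg.Agent.Helper10.TLURAD
import Cfsg.Agent.Helper60.TJDUALANN
import Cfsg.Agent.Helper39.TJANN
import Cfsg.Agent.Helper39.TJCYCDIM
import Cfsg.Agent.Helper58.TICOMPL
import Cfsg.Agent.Helper90.BGChain
import Cfsg.Agent.Helper46.BGLIRR
import Cfsg.Agent.Helper13.TIBad

set_option autoImplicit false
set_option linter.unusedSectionVars false
set_option linter.unusedVariables false

/-!
# CALL S5992 (helper96), piece OAEA (helper3): `o_atom_even`.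

`i = ord_r |F|` even: a nondegenerate invariant `2i`-space without fixed vectors contains a
nondegenerate invariant `i`-space.  Mirror of `Cfsg.Agent.Helper50.TI5954.u_atom_self_of` for the
polar form of a quadratic form in odd characteristic.
-/

namespace Cfsg.Agent.Helper3.OH5992

open Module Polynomial Cfsg Cfsg.Geo
open Cfsg.Agent.Helper13.TIu Cfsg.Agent.Helper96.OH
open Cfsg.Agent.Helper13.TIsp Cfsg.Agent.Helper90.BG
open Cfsg.Agent.Helper39.TI5961 Cfsg.Agent.Helper58.TI5955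

variable {ι : Type} [Fintype ι] [DecidableEq ι] {F : Type*} [Field F] (Q : (ι → F) → F)

/-- a nondegenerate nonzero subspace contains a nonisotropic vector (odd characteristic). -/
theorem oaea_noniso (hQ : IsNondegenerateQuadraticForm Q) (h2 : (2 : F) ≠ 0)
    (W : Submodule F (ι → F)) (hW : UNd (pB Q hQ) W) (hW0 : W ≠ ⊥) :
    ∃ v ∈ W, pB Q hQ v v ≠ 0 := by
  by_contra hcon
  push Not at hcon
  apply hW0
  rw [eq_bot_iff]
  intro u hu
  rw [Submodule.mem_bot]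
  apply hW u hu
  intro w hw
  have h1 := hcon (u + w) (W.add_mem hu hw)
  simp only [map_add, LinearMap.add_apply] at h1
  rw [hcon u hu, hcon w hw, pB_comm Q hQ w u] at h1
  have h3 : (2 : F) * pB Q hQ u w = 0 := by linear_combination h1
  exact (mul_eq_zero.mp h3).resolve_left h2

/-- OAEA. -/
theorem o_atom_even [Fintype F] (hQ : IsNondegenerateQuadraticForm Q) (h2 : (2 : F) ≠ 0)
    (T : Module.End F (ι → F)) (hT : OPres Q T) (r : ℕ) [Fact r.Prime] (hr2 : 2 < r)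
    (hrF : (r : F) ≠ 0) (hTr : T ^ r = 1)
    (heven : Even (orderOf ((Fintype.card F : ℕ) : ZMod r)))
    (E₂ : Submodule F (ι → F)) (hET : E₂.map T ≤ E₂) (hE : ONd Q E₂)
    (hEk : E₂ ⊓ LinearMap.ker (T - 1) = ⊥)
    (hEdim : finrank F E₂ = 2 * orderOf ((Fintype.card F : ℕ) : ZMod r)) :
    ∃ E : Submodule F (ι → F), E ≤ E₂ ∧ E.map T ≤ E ∧ ONd Q E ∧
      finrank F E = orderOf ((Fintype.card F : ℕ) : ZMod r) := by
  classical
  have hE' : UNd (pB Q hQ) E₂ := (und_iff Q hQ E₂).mpr hE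
  have hTU : UPres (pB Q hQ) T := upres_of Q hQ T hT
  have hS : LinearMap.IsSymm (pB Q hQ) := ⟨fun x y => by
    simpa using pB_comm Q hQ x y⟩
  have hd : ∀ g : F[X], Irreducible g → g ∣ ∑ j ∈ Finset.range r, (X : F[X]) ^ j →
      g.natDegree = orderOf ((Fintype.card F : ℕ) : ZMod r) := fun g hg hdvd =>
    Cfsg.Agent.Helper46.bgl_irr_factor_degree r hrF g hg hdvd
  obtain ⟨b, hb⟩ : ∃ b, b = orderOf ((Fintype.card F : ℕ) : ZMod r) := ⟨_, rfl⟩
  rw [← hb] at hEdim hd heven ⊢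
  have hrad' : ∀ U : Submodule F (ι → F), U.map T ≤ U → U ⊓ LinearMap.ker (T - 1) = ⊥ →
      finrank F U = b → UNd (pB Q hQ) U ∨ (∀ u ∈ U, ∀ v ∈ U, pB Q hQ u v = 0) := by
    intro U h1 h2' h3
    exact Cfsg.Agent.Helper10.TI5954.u_rad_dich (pB Q hQ) id2 hS T hTU r hrF hTr U
      h1 h2' (by rw [h3, hb])
  by_contra hcon
  have hqpos : 0 < Fintype.card F := Fintype.card_pos
  have hnr : ¬ r ∣ Fintype.card F := by
    intro hdv
    obtain ⟨p, hp⟩ := CharP.exists F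
    have hpp : p.Prime := by
      rcases CharP.char_is_prime_or_zero F p with h | h
      · exact h
      · exfalso
        subst h
        have : CharZero F := CharP.charP_to_charZero F
        exact not_finite F
    have : Fact p.Prime := ⟨hpp⟩
    obtain ⟨n, -, hn⟩ := FiniteField.card F p
    rw [hn] at hdv
    have h3 := (Nat.prime_dvd_prime_iff_eq (Fact.out : r.Prime) hpp).mp
      ((Fact.out : r.Prime).dvd_of_dvd_pow hdv)
    apply hrF
    rw [h3]
    exact CharP.cast_eq_zero F p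
  have hbpos : 0 < b := by
    rw [hb]
    exact (Cfsg.Agent.Helper51.TI5955.ord_pos r (Fintype.card F) hnr).1
  obtain ⟨e, he⟩ := heven
  have he1 : 1 ≤ e := by omega
  have hrdvd : r ∣ Fintype.card F ^ e + 1 :=
    ti_dvd_plus r (Fintype.card F) e hqpos he1 (by rw [← hb]; omega)
  have hQ' : T ^ (Fintype.card F ^ e) * T = 1 := by
    obtain ⟨m, hm⟩ := hrdvd
    rw [← pow_succ, hm, pow_mul, hTr, one_pow]
  have hkill : ∀ v ∈ E₂, aeval T (∑ j ∈ Finset.range r, (X : F[X]) ^ j) v ∈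
      (⊥ : Submodule F (ι → F)) := by
    intro v hv
    have h2' : aeval T (∑ j ∈ Finset.range r, (X : F[X]) ^ j) v ∈
        E₂ ⊓ LinearMap.ker (T - 1) := by
      refine ⟨aeval_mem T E₂ hET _ hv, ?_⟩
      rw [SetLike.mem_coe, LinearMap.mem_ker, ← Module.End.mul_apply,
        sub_one_mul_aeval_phi T r hTr, LinearMap.zero_apply]
    rw [hEk] at h2'
    exact h2'
  have hile : b ≤ finrank F E₂ := by omega
  obtain ⟨U₁, -, hU₁E, hU₁T, hU₁fr⟩ := chain_exists T ⊥ E₂ bot_le (by simp) hET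
    (∑ j ∈ Finset.range r, (X : F[X]) ^ j) (phi_ne_zero r hrF) hkill b hd 1 (by simpa using hile)
  rw [finrank_bot, zero_add, mul_one] at hU₁fr
  have hsubk : ∀ U : Submodule F (ι → F), U ≤ E₂ → U ⊓ LinearMap.ker (T - 1) = ⊥ := by
    intro U hU
    rw [eq_bot_iff]
    exact (inf_le_inf_right _ hU).trans (le_of_eq hEk)
  have hdich : ∀ U : Submodule F (ι → F), U ≤ E₂ → U.map T ≤ U → finrank F U = b →
      ∀ u ∈ U, ∀ v ∈ U, pB Q hQ u v = 0 := by
    intro U hU hUT hUfr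
    rcases hrad' U hUT (hsubk U hU) hUfr with hnd | hti
    · exact absurd ⟨U, hU, hUT, (und_iff Q hQ U).mp hnd, hUfr⟩ hcon
    · exact hti
  have hti := hdich U₁ hU₁E hU₁T hU₁fr
  obtain ⟨g, hgm, hgdeg, hgU₁⟩ := ann_poly T U₁ hU₁T
  -- the perp of `U₁` in `E₂`
  obtain ⟨P₁, hP₁⟩ : ∃ P₁ : Submodule F (ι → F),
      ∀ w, w ∈ P₁ ↔ (w ∈ E₂ ∧ ∀ u ∈ U₁, pB Q hQ u w = 0) :=
    ⟨{ carrier := {w | w ∈ E₂ ∧ ∀ u ∈ U₁, pB Q hQ u w = 0}
       add_mem' := fun {a c} ha hc => ⟨E₂.add_mem ha.1 hc.1, fun u hu => by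
         rw [map_add, ha.2 u hu, hc.2 u hu, add_zero]⟩
       zero_mem' := ⟨E₂.zero_mem, fun u _ => map_zero _⟩
       smul_mem' := fun c a ha => ⟨E₂.smul_mem c ha.1, fun u hu => by
         rw [map_smul, ha.2 u hu, smul_zero]⟩ }, fun w => Iff.rfl⟩
  have hP₁E : P₁ ≤ E₂ := fun w hw => ((hP₁ w).mp hw).1
  have hU₁P₁ : U₁ ≤ P₁ := fun v hv => (hP₁ v).mpr ⟨hU₁E hv, fun u hu => hti u hu v hv⟩
  have hr1 : r = (r - 1) + 1 := by omega
  have hP₁T : P₁.map T ≤ P₁ := by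
    rintro _ ⟨w, hw, rfl⟩
    rw [SetLike.mem_coe, hP₁] at hw
    refine (hP₁ _).mpr ⟨hET (Submodule.mem_map_of_mem hw.1), fun u hu => ?_⟩
    have h1 : T ((T ^ (r - 1)) u) = u := by
      rw [← Module.End.mul_apply, ← pow_succ', ← hr1, hTr, Module.End.one_apply]
    have h2' := hTU ((T ^ (r - 1)) u) w
    rw [h1] at h2'
    rw [h2']
    exact hw.2 _ (ti_pow_mem T U₁ hU₁T (r - 1) u hu)
  have hU₁ne : U₁ ≠ ⊥ := by
    intro h
    rw [h, finrank_bot] at hU₁fr
    omega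
  have hP₁lt : P₁ < E₂ := by
    refine lt_of_le_of_ne hP₁E ?_
    intro h
    apply hU₁ne
    rw [eq_bot_iff]
    intro u hu
    rw [Submodule.mem_bot]
    apply hE' u (hU₁E hu)
    intro w hw
    rw [← h] at hw
    exact ((hP₁ w).mp hw).2 u hu
  have hP₁fr : finrank F P₁ = b := by
    have h1 := Submodule.finrank_lt_finrank_of_lt hP₁lt
    have h2' := Submodule.finrank_mono hU₁P₁
    have hdvd := cyc_dvd T r b hrF hTr hd P₁ hP₁T
    rw [hsubk _ hP₁E, finrank_bot, Nat.sub_zero] at hdvd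
    obtain ⟨c, hc⟩ := hdvd
    rcases Nat.lt_or_ge c 1 with h | h
    · have hc0 : c = 0 := by omega
      rw [hc0, Nat.mul_zero] at hc
      omega
    · rcases Nat.lt_or_ge c 2 with h' | h'
      · have hc1 : c = 1 := by omega
        rw [hc, hc1, Nat.mul_one]
      · have : b * 2 ≤ b * c := Nat.mul_le_mul_left b h'
        omega
  have hP₁eq : U₁ = P₁ := Submodule.eq_of_le_of_finrank_eq hU₁P₁ (by omega)
  obtain ⟨U₂, hU₂E, hU₂T, hU₁U₂, hsup⟩ := ti_compl T r hrF hTr U₁ E₂ hU₁E hU₁T hET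
  have hpair : ∀ w ∈ U₂, (∀ u ∈ U₁, pB Q hQ w u = 0) → w = 0 := by
    intro w hw h
    have h3 : w ∈ U₁ ⊓ U₂ := by
      refine ⟨?_, hw⟩
      rw [hP₁eq]
      refine (hP₁ w).mpr ⟨hU₂E hw, fun u hu => ?_⟩
      rw [pB_comm Q hQ u w, h u hu]
    rw [hU₁U₂] at h3
    exact (Submodule.mem_bot F).mp h3
  have hgU₂ := Cfsg.Agent.Helper60.TI5961.dual_ann (pB Q hQ) T (fun x y => hTU x y) r hrF hTr e
    hQ' U₁ U₂ hU₂T hpair g hgU₁
  have hgE : ∀ v ∈ E₂, aeval T g v = 0 := by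
    intro v hv
    rw [← hsup] at hv
    obtain ⟨u₁, hu₁, u₂, hu₂, rfl⟩ := Submodule.mem_sup.mp hv
    rw [map_add, hgU₁ u₁ hu₁, hgU₂ u₂ hu₂, add_zero]
  have hE0 : E₂ ≠ ⊥ := by
    intro h
    rw [h, finrank_bot] at hEdim
    omega
  obtain ⟨v, hv, hvv⟩ := oaea_noniso Q hQ h2 E₂ hE' hE0
  have hv0 : v ≠ 0 := by
    intro h
    apply hvv
    rw [h, map_zero]
  have hZE : Submodule.span F (Set.range fun j : ℕ => (T ^ j) v) ≤ E₂ := by
    rw [Submodule.span_le]
    rintro _ ⟨j, rfl⟩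
    exact ti_pow_mem T E₂ hET j v hv
  have hZT : (Submodule.span F (Set.range fun j : ℕ => (T ^ j) v)).map T ≤
      Submodule.span F (Set.range fun j : ℕ => (T ^ j) v) := by
    rw [Submodule.map_span, Submodule.span_le]
    rintro _ ⟨_, ⟨j, rfl⟩, rfl⟩
    apply Submodule.subset_span
    refine ⟨j + 1, ?_⟩
    show (T ^ (j + 1)) v = T ((T ^ j) v)
    rw [pow_succ', Module.End.mul_apply]
  have hvZ : v ∈ Submodule.span F (Set.range fun j : ℕ => (T ^ j) v) :=
    Submodule.subset_span ⟨0, by simp⟩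
  have hle : finrank F (Submodule.span F (Set.range fun j : ℕ => (T ^ j) v)) ≤ b := by
    have h5 := cyc_dim_le T g hgm v (hgE v hv)
    rw [hgdeg, hU₁fr] at h5
    exact h5
  have hdvd := cyc_dvd T r b hrF hTr hd _ hZT
  rw [hsubk _ hZE, finrank_bot, Nat.sub_zero] at hdvd
  have hpos : 0 < finrank F (Submodule.span F (Set.range fun j : ℕ => (T ^ j) v)) := by
    rw [Nat.pos_iff_ne_zero]
    intro h0
    have h6 := Submodule.finrank_eq_zero.mp h0
    rw [h6] at hvZ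
    exact hv0 ((Submodule.mem_bot F).mp hvZ)
  have hfr : finrank F (Submodule.span F (Set.range fun j : ℕ => (T ^ j) v)) = b :=
    le_antisymm hle (Nat.le_of_dvd hpos hdvd)
  exact hvv (hdich _ hZE hZT hfr v hvZ v hvZ)

end Cfsg.Agent.Helper3.OH5992
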