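import Cfsg.Agent.Helper45.Spinor

set_option autoImplicit false
set_option linter.unusedSectionVars false
set_option linter.unusedSimpArgs false
set_option linter.unusedVariables false

/-!
# Eigenvectors of an isometric involution with norms in different square classes

`Q` a nondegenerate quadratic form on `ι → F` (`F` finite of odd characteristic, dimension at least
three), `M` an isometry with `M * M = 1`, `M ≠ ± 1`: there are nonsingular eigenvectors `a`, `b`
of `M` with `Q a * Q b` a nonsquare.  (Lemma L-A for S2718/S2719: `r_a r_b` commutes with `M` and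
has nonsquare spinor norm.)
-/

namespace Cfsg.Agent.Helper3.QFP

open Cfsg Matrix

universe u

section Eigen

variable {ι : Type} [Fintype ι] [DecidableEq ι] {F : Type u} [Field F] [Fintype F]
  (Q : QuadraticForm F (ι → F))

/-- a nonsingular eigenvector inside an invariant subspace on which the polar form is nondegenerate -/
theorem exists_nonsing_eigen (h2 : (2 : F) ≠ 0) (M : Matrix ι ι F)
    (hM : ∀ v, Q (M *ᵥ v) = Q v) (hMM : M * M = 1) (W : Submodule F (ι → F))
    (hWM : ∀ v ∈ W, M *ᵥ v ∈ W)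
    (hWnd : ∀ u ∈ W, u ≠ 0 → ∃ y ∈ W, QuadraticMap.polar ⇑Q u y ≠ 0)
    (s : F) (hs : s * s = 1) (u : ι → F) (huW : u ∈ W) (hu0 : u ≠ 0) (hu : M *ᵥ u = s • u) :
    ∃ c ∈ W, M *ᵥ c = s • c ∧ Q c ≠ 0 := by
  have hBM : ∀ x y, QuadraticMap.polar ⇑Q (M *ᵥ x) (M *ᵥ y) = QuadraticMap.polar ⇑Q x y := by
    intro x y
    unfold QuadraticMap.polar
    rw [← Matrix.mulVec_add, hM, hM, hM]
  have hMMv : ∀ x, M *ᵥ (M *ᵥ x) = x := by
    intro x
    rw [Matrix.mulVec_mulVec, hMM, Matrix.one_mulVec]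
  obtain ⟨y, hyW, hy⟩ := hWnd u huW hu0
  -- the `s`-component of `y`
  obtain ⟨z, hz⟩ : ∃ z : ι → F, z = (2 : F)⁻¹ • (y + s • M *ᵥ y) := ⟨_, rfl⟩
  have hzW : z ∈ W := by
    rw [hz]
    exact W.smul_mem _ (W.add_mem hyW (W.smul_mem _ (hWM y hyW)))
  have hMz : M *ᵥ z = s • z := by
    rw [hz, Matrix.mulVec_smul, Matrix.mulVec_add, Matrix.mulVec_smul, hMMv, smul_comm s (2 : F)⁻¹]
    congr 1
    rw [smul_add, smul_smul, hs, one_smul, add_comm]
  have hpol : QuadraticMap.polar ⇑Q u z = QuadraticMap.polar ⇑Q u y := by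
    have h1 : QuadraticMap.polar ⇑Q u (M *ᵥ y) = s * QuadraticMap.polar ⇑Q u y := by
      have h3 := hBM u y
      rw [hu, QuadraticMap.polar_smul_left, smul_eq_mul] at h3
      calc QuadraticMap.polar ⇑Q u (M *ᵥ y) = (s * s) * QuadraticMap.polar ⇑Q u (M *ᵥ y) := by
            rw [hs, one_mul]
        _ = s * (s * QuadraticMap.polar ⇑Q u (M *ᵥ y)) := by ring
        _ = s * QuadraticMap.polar ⇑Q u y := by rw [h3]
    rw [hz, QuadraticMap.polar_smul_right, QuadraticMap.polar_add_right, QuadraticMap.polar_smul_right,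
      h1, smul_eq_mul, smul_eq_mul]
    have h4 : (2 : F)⁻¹ * (QuadraticMap.polar ⇑Q u y + s * (s * QuadraticMap.polar ⇑Q u y))
        = (2 : F)⁻¹ * 2 * ((s * s) * QuadraticMap.polar ⇑Q u y)
          + (2 : F)⁻¹ * ((1 - s * s) * QuadraticMap.polar ⇑Q u y) := by ring
    rw [h4, hs, inv_mul_cancel₀ h2]
    ring
  by_cases hQu : Q u = 0
  · by_cases hQz : Q z = 0
    · refine ⟨u + z, W.add_mem huW hzW, ?_, ?_⟩
      · rw [Matrix.mulVec_add, hu, hMz, smul_add]
      · rw [Helper13.Q_add', hQu, hQz, hpol, zero_add, zero_add]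
        exact hy
    · exact ⟨z, hzW, hMz, hQz⟩
  · exact ⟨u, huW, hu, hQu⟩

/-- eigenvectors for different signs are orthogonal -/
theorem eigen_perp (h2 : (2 : F) ≠ 0) (M : Matrix ι ι F) (hM : ∀ v, Q (M *ᵥ v) = Q v)
    (a b : ι → F) (ha : M *ᵥ a = a) (hb : M *ᵥ b = -b) : QuadraticMap.polar ⇑Q a b = 0 := by
  have hBM : QuadraticMap.polar ⇑Q (M *ᵥ a) (M *ᵥ b) = QuadraticMap.polar ⇑Q a b := by
    unfold QuadraticMap.polar
    rw [← Matrix.mulVec_add, hM, hM, hM]
  rw [ha, hb, QuadraticMap.polar_neg_right] at hBM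
  have h3 : (2 : F) * QuadraticMap.polar ⇑Q a b = 0 := by linear_combination -hBM
  rcases mul_eq_zero.mp h3 with h4 | h4
  · exact absurd h4 h2
  · exact h4

/-- two orthogonal nonsingular vectors span a plane representing every scalar -/
theorem exists_comb_norm (h2 : (2 : F) ≠ 0) (a c : ι → F) (ha : Q a ≠ 0) (hc : Q c ≠ 0)
    (hac : QuadraticMap.polar ⇑Q a c = 0) (t : F) : ∃ x y : F, Q (x • a + y • c) = t := by
  have hR : Fintype.card F % 2 = 1 :=
    FiniteField.odd_card_of_char_ne_two (Helper45.ringChar_ne_two h2)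
  obtain ⟨x, y, hxy⟩ := FiniteField.exists_root_sum_quadratic
    (f := Polynomial.C (Q a) * Polynomial.X ^ 2 + Polynomial.C 0 * Polynomial.X + Polynomial.C 0)
    (g := Polynomial.C (Q c) * Polynomial.X ^ 2 + Polynomial.C 0 * Polynomial.X +
      Polynomial.C (-t)) (Polynomial.degree_quadratic ha) (Polynomial.degree_quadratic hc) hR
  refine ⟨x, y, ?_⟩
  rw [Helper13.Q_add', QuadraticMap.map_smul, QuadraticMap.map_smul, QuadraticMap.polar_smul_left,
    QuadraticMap.polar_smul_right, hac]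
  simp only [Polynomial.eval_pow, Polynomial.eval_X, Polynomial.eval_add, Polynomial.eval_mul,
    Polynomial.eval_C] at hxy
  simp only [smul_eq_mul, mul_zero]
  linear_combination hxy

/-- **Lemma L-A.** An isometric involution `M ≠ ± 1` in dimension at least three has nonsingular
eigenvectors `a`, `b` with `Q a * Q b` a nonsquare. -/
theorem exists_eigen_pair (h2 : (2 : F) ≠ 0) (hQ : (QuadraticMap.polarBilin Q).Nondegenerate)
    (hcard : 3 ≤ Fintype.card ι) (M : Matrix ι ι F) (hM : ∀ v, Q (M *ᵥ v) = Q v)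
    (hMM : M * M = 1) (hM1 : M ≠ 1) (hM2 : M ≠ -1) :
    ∃ a b : ι → F, Q a ≠ 0 ∧ Q b ≠ 0 ∧ ¬ IsSquare (Q a * Q b) ∧
      (M *ᵥ a = a ∨ M *ᵥ a = -a) ∧ (M *ᵥ b = b ∨ M *ᵥ b = -b) := by
  have hBM : ∀ x y, QuadraticMap.polar ⇑Q (M *ᵥ x) (M *ᵥ y) = QuadraticMap.polar ⇑Q x y := by
    intro x y
    unfold QuadraticMap.polar
    rw [← Matrix.mulVec_add, hM, hM, hM]
  have hMMv : ∀ x, M *ᵥ (M *ᵥ x) = x := by
    intro x
    rw [Matrix.mulVec_mulVec, hMM, Matrix.one_mulVec]
  have hself : ∀ x, QuadraticMap.polar ⇑Q x x = 2 * Q x := by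
    intro x
    rw [QuadraticMap.polar_self]
    simp
  obtain ⟨ε, hε⟩ := FiniteField.exists_nonsquare (Helper45.ringChar_ne_two h2)
  have htop : ∀ u ∈ (⊤ : Submodule F (ι → F)), u ≠ 0 →
      ∃ y ∈ (⊤ : Submodule F (ι → F)), QuadraticMap.polar ⇑Q u y ≠ 0 := by
    intro u _ hu0
    by_contra hcon
    push Not at hcon
    exact hu0 (hQ.1 u (fun y => hcon y Submodule.mem_top))
  -- a nonsingular `+`-eigenvector
  obtain ⟨a, hMa, hQa⟩ : ∃ a : ι → F, M *ᵥ a = a ∧ Q a ≠ 0 := by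
    obtain ⟨v, hv⟩ : ∃ v : ι → F, M *ᵥ v ≠ -v := by
      by_contra hcon
      push Not at hcon
      apply hM2
      apply Helper13.mulVec_ext
      intro v
      rw [hcon v, Matrix.neg_mulVec, Matrix.one_mulVec]
    have hu0 : v + M *ᵥ v ≠ 0 := by
      intro h0
      apply hv
      exact (eq_neg_of_add_eq_zero_right h0)
    have hu : M *ᵥ (v + M *ᵥ v) = (1 : F) • (v + M *ᵥ v) := by
      rw [Matrix.mulVec_add, hMMv, one_smul, add_comm]
    obtain ⟨c, -, hc1, hc2⟩ := exists_nonsing_eigen Q h2 M hM hMM ⊤ (fun _ _ => Submodule.mem_top)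
      htop 1 (one_mul 1) _ Submodule.mem_top hu0 hu
    rw [one_smul] at hc1
    exact ⟨c, hc1, hc2⟩
  -- a nonsingular `-`-eigenvector
  obtain ⟨b, hMb, hQb⟩ : ∃ b : ι → F, M *ᵥ b = -b ∧ Q b ≠ 0 := by
    obtain ⟨v, hv⟩ : ∃ v : ι → F, M *ᵥ v ≠ v := by
      by_contra hcon
      push Not at hcon
      apply hM1
      apply Helper13.mulVec_ext
      intro v
      rw [hcon v, Matrix.one_mulVec]
    have hu0 : v - M *ᵥ v ≠ 0 := by
      intro h0
      apply hv
      exact (sub_eq_zero.mp h0).symm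
    have hu : M *ᵥ (v - M *ᵥ v) = (-1 : F) • (v - M *ᵥ v) := by
      rw [Matrix.mulVec_sub, hMMv, neg_one_smul, neg_sub]
    obtain ⟨c, -, hc1, hc2⟩ := exists_nonsing_eigen Q h2 M hM hMM ⊤ (fun _ _ => Submodule.mem_top)
      htop (-1) (by ring) _ Submodule.mem_top hu0 hu
    rw [neg_one_smul] at hc1
    exact ⟨c, hc1, hc2⟩
  have hab : QuadraticMap.polar ⇑Q a b = 0 := eigen_perp Q h2 M hM a b hMa hMb
  -- the orthogonal complement of `a, b`
  obtain ⟨W, hW⟩ : ∃ W : Submodule F (ι → F),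
      ∀ v, v ∈ W ↔ QuadraticMap.polar ⇑Q a v = 0 ∧ QuadraticMap.polar ⇑Q b v = 0 := by
    refine ⟨LinearMap.ker (QuadraticMap.polarBilin Q a) ⊓ LinearMap.ker (QuadraticMap.polarBilin Q b),
      fun v => ?_⟩
    rw [Submodule.mem_inf, LinearMap.mem_ker, LinearMap.mem_ker]
    rfl
  have hWM : ∀ v ∈ W, M *ᵥ v ∈ W := by
    intro v hv
    rw [hW] at hv ⊢
    constructor
    · have h1 := hBM a v
      rw [hMa] at h1
      rw [h1]
      exact hv.1
    · have h1 := hBM b v
      rw [hMb, QuadraticMap.polar_neg_left] at h1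
      have h3 : QuadraticMap.polar ⇑Q b (M *ᵥ v) = -QuadraticMap.polar ⇑Q b v := by
        linear_combination -h1
      rw [h3, hv.2, neg_zero]
  have hWnd : ∀ u ∈ W, u ≠ 0 → ∃ y ∈ W, QuadraticMap.polar ⇑Q u y ≠ 0 := by
    intro u huW hu0
    rw [hW] at huW
    obtain ⟨y, -, hy⟩ := htop u Submodule.mem_top hu0
    refine ⟨y - ((2 * Q a)⁻¹ * QuadraticMap.polar ⇑Q a y) • a
      - ((2 * Q b)⁻¹ * QuadraticMap.polar ⇑Q b y) • b, ?_, ?_⟩
    · rw [hW]
      have hba : QuadraticMap.polar ⇑Q b a = 0 := by rw [QuadraticMap.polar_comm]; exact hab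
      constructor
      · simp only [QuadraticMap.polar_sub_right, QuadraticMap.polar_smul_right, smul_eq_mul, hself,
          hab, mul_zero, sub_zero]
        field_simp
        ring
      · simp only [QuadraticMap.polar_sub_right, QuadraticMap.polar_smul_right, smul_eq_mul, hself,
          hba, mul_zero, sub_zero]
        field_simp
        ring
    · have hua : QuadraticMap.polar ⇑Q u a = 0 := by rw [QuadraticMap.polar_comm]; exact huW.1
      have hub : QuadraticMap.polar ⇑Q u b = 0 := by rw [QuadraticMap.polar_comm]; exact huW.2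
      simp only [QuadraticMap.polar_sub_right, QuadraticMap.polar_smul_right, smul_eq_mul, hua, hub,
        mul_zero, sub_zero]
      exact hy
  -- a nonzero vector of `W`
  obtain ⟨z, hzW, hz0⟩ : ∃ z ∈ W, z ≠ 0 := by
    obtain ⟨f, hf⟩ : ∃ f : (ι → F) →ₗ[F] (Fin 2 → F),
        ∀ v, f v = ![QuadraticMap.polar ⇑Q a v, QuadraticMap.polar ⇑Q b v] := by
      refine ⟨LinearMap.pi ![QuadraticMap.polarBilin Q a, QuadraticMap.polarBilin Q b], fun v => ?_⟩
      funext i
      fin_cases i <;> rfl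
    have hlt : Module.finrank F (Fin 2 → F) < Module.finrank F (ι → F) := by
      rw [Module.finrank_fintype_fun_eq_card, Module.finrank_fintype_fun_eq_card, Fintype.card_fin]
      omega
    have hker := LinearMap.ker_ne_bot_of_finrank_lt (f := f) hlt
    obtain ⟨z, hz, hz0⟩ := (Submodule.ne_bot_iff _).mp hker
    refine ⟨z, ?_, hz0⟩
    rw [hW]
    rw [LinearMap.mem_ker, hf] at hz
    have h0 := congrFun hz 0
    have h1 := congrFun hz 1
    exact ⟨h0, h1⟩
  -- a nonsingular eigenvector in `W`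
  obtain ⟨c, hcW, hQc, hMc⟩ : ∃ c ∈ W, Q c ≠ 0 ∧ (M *ᵥ c = c ∨ M *ᵥ c = -c) := by
    by_cases hzp : z + M *ᵥ z = 0
    · -- `z` is a `-`-eigenvector
      have hu : M *ᵥ z = (-1 : F) • z := by
        rw [neg_one_smul]
        exact (eq_neg_of_add_eq_zero_right hzp)
      obtain ⟨c, hc0, hc1, hc2⟩ := exists_nonsing_eigen Q h2 M hM hMM W hWM hWnd (-1) (by ring) z
        hzW hz0 hu
      rw [neg_one_smul] at hc1
      exact ⟨c, hc0, hc2, Or.inr hc1⟩
    · have hu : M *ᵥ (z + M *ᵥ z) = (1 : F) • (z + M *ᵥ z) := by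
        rw [Matrix.mulVec_add, hMMv, one_smul, add_comm]
      obtain ⟨c, hc0, hc1, hc2⟩ := exists_nonsing_eigen Q h2 M hM hMM W hWM hWnd 1 (one_mul 1) _
        (W.add_mem hzW (hWM z hzW)) hzp hu
      rw [one_smul] at hc1
      exact ⟨c, hc0, hc2, Or.inl hc1⟩
  rw [hW] at hcW
  have hnsq : ∀ t : F, t ≠ 0 → ¬ IsSquare (t * (ε * t)) := by
    intro t ht
    have h1 : t * (ε * t) = ε * (t * t) := by ring
    rw [h1]
    exact Helper45.not_isSquare_mul hε ⟨t, rfl⟩ (mul_ne_zero ht ht)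
  rcases hMc with hMc | hMc
  · obtain ⟨x, y, hxy⟩ := exists_comb_norm Q h2 a c hQa hQc hcW.1 (ε * Q a)
    refine ⟨a, x • a + y • c, hQa, ?_, ?_, Or.inl hMa, Or.inl ?_⟩
    · rw [hxy]
      exact mul_ne_zero (fun h0 => hε (by rw [h0]; exact ⟨0, by simp⟩)) hQa
    · rw [hxy]
      exact hnsq _ hQa
    · rw [Matrix.mulVec_add, Matrix.mulVec_smul, Matrix.mulVec_smul, hMa, hMc]
  · obtain ⟨x, y, hxy⟩ := exists_comb_norm Q h2 b c hQb hQc hcW.2 (ε * Q b)
    refine ⟨b, x • b + y • c, hQb, ?_, ?_, Or.inr hMb, Or.inr ?_⟩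
    · rw [hxy]
      exact mul_ne_zero (fun h0 => hε (by rw [h0]; exact ⟨0, by simp⟩)) hQb
    · rw [hxy]
      exact hnsq _ hQb
    · rw [Matrix.mulVec_add, Matrix.mulVec_smul, Matrix.mulVec_smul, hMb, hMc, smul_neg, smul_neg,
        neg_add]

end Eigen

end Cfsg.Agent.Helper3.QFP
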