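import Mathlib
import Cfsg.Prelude.Def_LieTwisted
import Cfsg.Agent.Helper41.BaerSuzuki
import Cfsg.Agent.Helper24.SL2Sec
import Cfsg.Agent.Helper24.Quadratic

set_option autoImplicit false

namespace Cfsg.Agent.Helper3

open Cfsg

/-- quadratic action is inherited by conjugates -/
theorem qr_quad_conj {Q M : Type*} [Group Q] [CommGroup M] (φ : Q →* MulAut M) (a g : Q)
    (ha : ∀ m : M, φ a (φ a m / m) = φ a m / m) (m : M) :
    φ (g * a * g⁻¹) (φ (g * a * g⁻¹) m / m) = φ (g * a * g⁻¹) m / m := by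
  have h1 : ∀ x : M, φ (g * a * g⁻¹) x = φ g (φ a (φ g⁻¹ x)) := by
    intro x
    rw [map_mul, map_mul]
    rfl
  have h2 : ∀ x : M, φ g⁻¹ (φ g x) = x := by
    intro x
    rw [← MulAut.mul_apply, ← map_mul, inv_mul_cancel, map_one]
    rfl
  have h3 : ∀ x : M, φ g (φ g⁻¹ x) = x := by
    intro x
    rw [← MulAut.mul_apply, ← map_mul, mul_inv_cancel, map_one]
    rfl
  have h4 : φ (g * a * g⁻¹) m / m = φ g (φ a (φ g⁻¹ m) / φ g⁻¹ m) := by
    rw [h1, map_div, h3]
  rw [h4, h1, h2, ha]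

/-- PIECE SL2 (Baer–Suzuki + Helper24's `SL(2,p)`-involvement): a non-identity element acting
quadratically in a faithful action of a group without normal `p`-subgroups: a subgroup maps onto
`SL(2, p)`. -/
theorem qr_sl2 {Q M : Type*} [Group Q] [Finite Q] [CommGroup M] [Finite M] (p : ℕ)
    [Fact p.Prime] (hp : p ≠ 2) (hMp : ∀ x : M, x ^ p = 1) (φ : Q →* MulAut M)
    (hφ : Function.Injective φ)
    (hcore : ∀ N : Subgroup Q, N.Normal → IsPGroup p N → N = ⊥)
    (a : Q) (ha1 : a ≠ 1) (ha : ∀ m : M, φ a (φ a m / m) = φ a m / m) :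
    ∃ (K : Subgroup Q) (θ : ↥K →* Matrix.SpecialLinearGroup (Fin 2) (ZMod p)),
      Function.Surjective θ := by
  classical
  have hpodd : Odd p := (Fact.out : p.Prime).odd_of_ne_two hp
  -- two conjugates of `a` generating a non-`p`-group
  obtain ⟨x, y, ⟨g₁, hx⟩, ⟨g₂, hy⟩, hnp⟩ : ∃ x y : Q, (∃ g, x = g * a * g⁻¹) ∧
      (∃ g, y = g * a * g⁻¹) ∧ ¬ IsPGroup p (Subgroup.closure ({x, y} : Set Q)) := by
    by_contra hcon
    push Not at hcon
    apply ha1
    have hK : ∀ x ∈ {x : Q | ∃ g, x = g * a * g⁻¹}, ∀ g : Q,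
        g * x * g⁻¹ ∈ {x : Q | ∃ g, x = g * a * g⁻¹} := by
      rintro x ⟨g₀, rfl⟩ g
      exact ⟨g * g₀, by group⟩
    have hmem : a ∈ Cfsg.Agent.Helper41.sylowCore p Q := by
      rw [Cfsg.Agent.Helper41.mem_sylowCore]
      intro P
      exact Cfsg.Agent.Helper41.baer_suzuki_mem {x : Q | ∃ g, x = g * a * g⁻¹} hK
        (fun x hx y hy => hcon x y hx hy) a ⟨1, by group⟩ P
    rw [hcore _ (Cfsg.Agent.Helper41.sylowCore_normal p Q)
      (Cfsg.Agent.Helper41.sylowCore_isPGroup p Q), Subgroup.mem_bot] at hmem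
    exact hmem
  have hxX : x ∈ Subgroup.closure ({x, y} : Set Q) := Subgroup.subset_closure (by simp)
  have hyX : y ∈ Subgroup.closure ({x, y} : Set Q) := Subgroup.subset_closure (by simp)
  have hgen := Cfsg.Agent.Helper24.closure_pair_subtype_eq_top x y hxX hyX
  obtain ⟨h, hh, hh1⟩ : ∃ h : Subgroup.closure ({x, y} : Set Q),
      (orderOf h).Coprime p ∧ h ≠ 1 := by
    by_contra hcon
    push Not at hcon
    apply hnp
    have hcard : Nat.card (Subgroup.closure ({x, y} : Set Q)) =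
        p ^ (Nat.card (Subgroup.closure ({x, y} : Set Q))).primeFactorsList.length := by
      apply Nat.eq_prime_pow_of_unique_prime_dvd Nat.card_pos.ne'
      intro r hr hrd
      by_contra hrp
      have := Fact.mk hr
      obtain ⟨g, hg⟩ := exists_prime_orderOf_dvd_card' r hrd
      have hg1 : g = 1 := hcon g (by rw [hg]; exact (Nat.coprime_primes hr Fact.out).2 hrp)
      rw [hg1, orderOf_one] at hg
      exact hr.ne_one hg.symm
    exact IsPGroup.of_card hcard
  have hφh : (φ.comp (Subgroup.closure ({x, y} : Set Q)).subtype) h ≠ 1 := by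
    intro h1
    apply hh1
    have h2 : φ (h : Q) = φ 1 := by
      rw [map_one]
      exact h1
    exact Subtype.ext (hφ h2)
  have hqx : ∀ m : M, (φ.comp (Subgroup.closure ({x, y} : Set Q)).subtype) ⟨x, hxX⟩
      ((φ.comp (Subgroup.closure ({x, y} : Set Q)).subtype) ⟨x, hxX⟩ m / m)
      = (φ.comp (Subgroup.closure ({x, y} : Set Q)).subtype) ⟨x, hxX⟩ m / m := by
    intro m
    show φ x (φ x m / m) = φ x m / m
    rw [hx]
    exact qr_quad_conj φ a g₁ ha m
  have hqy : ∀ m : M, (φ.comp (Subgroup.closure ({x, y} : Set Q)).subtype) ⟨y, hyX⟩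
      ((φ.comp (Subgroup.closure ({x, y} : Set Q)).subtype) ⟨y, hyX⟩ m / m)
      = (φ.comp (Subgroup.closure ({x, y} : Set Q)).subtype) ⟨y, hyX⟩ m / m := by
    intro m
    show φ y (φ y m / m) = φ y m / m
    rw [hy]
    exact qr_quad_conj φ a g₂ ha m
  obtain ⟨K₀, θ₀, hθ₀⟩ := Cfsg.Agent.Helper24.exists_surj_sl2_of_quadratic_pair_mulAut p hpodd hMp
    (φ.comp (Subgroup.closure ({x, y} : Set Q)).subtype) ⟨x, hxX⟩ ⟨y, hyX⟩ hgen hqx hqy
    ⟨h, hh, hφh⟩
  refine ⟨K₀.map (Subgroup.closure ({x, y} : Set Q)).subtype,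
    θ₀.comp (K₀.equivMapOfInjective (Subgroup.closure ({x, y} : Set Q)).subtype
      (Subgroup.subtype_injective _)).symm.toMonoidHom, ?_⟩
  exact hθ₀.comp (MulEquiv.surjective _)

end Cfsg.Agent.Helper3
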