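import Mathlib

set_option autoImplicit false

/-!
# CALL S2343, piece KLEIN (helper3)
-/

namespace Cfsg.Agent.Helper3

/-- PIECE KLEIN -/
theorem rmd43_klein {G : Type*} [Group G] {V : Type*} [AddCommGroup V] [Module ℂ V]
    [FiniteDimensional ℂ V] (ρ : Representation ℂ G V) (a b : G) (ha : a * a = 1)
    (hb : b * b = 1) (hab : a * b = b * a) (h1 : LinearMap.trace ℂ V (ρ a) = 0)
    (h2 : LinearMap.trace ℂ V (ρ b) = 0) (h3 : LinearMap.trace ℂ V (ρ (a * b)) = 0) :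
    4 ∣ Module.finrank ℂ V := by
  obtain ⟨A, hAdef⟩ : ∃ A : V →ₗ[ℂ] V, A = ρ a := ⟨_, rfl⟩
  obtain ⟨B, hBdef⟩ : ∃ B : V →ₗ[ℂ] V, B = ρ b := ⟨_, rfl⟩
  have hA : A * A = 1 := by rw [hAdef, ← map_mul, ha, map_one]
  have hB : B * B = 1 := by rw [hBdef, ← map_mul, hb, map_one]
  have hAB : ρ (a * b) = A * B := by rw [hAdef, hBdef, map_mul]
  have e2 : B * A = A * B := by rw [hAdef, hBdef, ← map_mul, ← map_mul, hab]
  have e1 : A * (A * B) = B := by rw [← mul_assoc, hA, one_mul]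
  have e3 : B * (A * B) = A := by rw [← mul_assoc, e2, mul_assoc, hB, mul_one]
  have e4 : A * B * A = B := by rw [mul_assoc, e2, ← mul_assoc, hA, one_mul]
  have e5 : A * B * B = A := by rw [mul_assoc, hB, mul_one]
  have e6 : A * B * (A * B) = 1 := by rw [← mul_assoc, e4, hB]
  obtain ⟨S, hS⟩ : ∃ S : V →ₗ[ℂ] V, S = 1 + A + B + A * B := ⟨_, rfl⟩
  have hSS : S * S = (4 : ℂ) • S := by
    have h5 : S * S = S + S + S + S := by
      rw [hS]
      simp only [mul_add, add_mul, mul_one, one_mul, hA, hB, e1, e2, e3, e4, e5, e6]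
      abel
    rw [h5]
    module
  obtain ⟨P, hP⟩ : ∃ P : V →ₗ[ℂ] V, P = (4 : ℂ)⁻¹ • S := ⟨_, rfl⟩
  have hid : IsIdempotentElem P := by
    show P * P = P
    rw [hP, smul_mul_smul_comm, hSS, smul_smul]
    congr 1
    norm_num
  have htr := (LinearMap.IsIdempotentElem.isProj_range P hid).trace
  have htr2 : LinearMap.trace ℂ V P = (4 : ℂ)⁻¹ * (Module.finrank ℂ V : ℂ) := by
    rw [hP, map_smul, hS, map_add, map_add, map_add, ← hAB, hAdef, hBdef, h1, h2, h3,
      LinearMap.trace_one, smul_eq_mul]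
    ring
  rw [htr2] at htr
  have h6 : ((Module.finrank ℂ V : ℕ) : ℂ) =
      ((4 * Module.finrank ℂ (LinearMap.range P) : ℕ) : ℂ) := by
    push_cast
    linear_combination 4 * htr
  exact ⟨_, Nat.cast_injective h6⟩

end Cfsg.Agent.Helper3
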