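import Mathlib

set_option autoImplicit false

/-!
# CALL S2343, piece NUM (helper3)
-/

namespace Cfsg.Agent.Helper3

/-- PIECE NUM -/
theorem rmd43_num (q d r n : ℕ) (c : ℂ) (hq : q % 4 = 3)
    (h1 : (d : ℂ) + ((q : ℂ) - 1) * c = (q : ℂ) * (r : ℂ))
    (h2 : (d : ℂ) - c = (q : ℂ) * (q : ℂ) * (n : ℂ)) (hrd : r ≠ d) (h4 : r = 0 → 4 ∣ d) :
    q ^ 2 - q + 1 ≤ d := by
  obtain ⟨k, hk⟩ : ∃ k, q = k + 1 := ⟨q - 1, by omega⟩
  have hqC : (q : ℂ) ≠ 0 := by exact_mod_cast (by omega : q ≠ 0)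
  have hd : (d : ℂ) = (r : ℂ) + ((q : ℂ) - 1) * (q : ℂ) * (n : ℂ) := by
    have hc : c = (d : ℂ) - (q : ℂ) * (q : ℂ) * (n : ℂ) := by linear_combination -h2
    rw [hc] at h1
    have h5 : (q : ℂ) * ((d : ℂ) - ((r : ℂ) + ((q : ℂ) - 1) * (q : ℂ) * (n : ℂ))) = 0 := by
      linear_combination h1
    rcases mul_eq_zero.mp h5 with h | h
    · exact absurd h hqC
    · linear_combination h
  have hdN : d = r + k * q * n := by
    have h6 : ((d : ℕ) : ℂ) = ((r + k * q * n : ℕ) : ℂ) := by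
      rw [hd]
      push_cast
      rw [hk]
      push_cast
      ring
    exact_mod_cast h6
  have hn : n ≠ 0 := by
    rintro rfl
    apply hrd
    rw [hdN]
    simp
  have hgoal : q ^ 2 - q + 1 = k * q + 1 := by
    rw [hk]
    have h7 : (k + 1) ^ 2 = k * (k + 1) + (k + 1) := by ring
    rw [h7, Nat.add_sub_cancel]
  rw [hgoal]
  rcases Nat.eq_zero_or_pos r with hr0 | hr
  · have h4' := h4 hr0
    rw [hdN, hr0, zero_add] at h4'
    have hkq : (k * q) % 4 = 2 := by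
      have hk4 : k % 4 = 2 := by omega
      rw [Nat.mul_mod, hk4, hq]
    have hn2 : 2 ≤ n := by
      by_contra hlt
      have hn1 : n = 1 := by omega
      rw [hn1, mul_one] at h4'
      have h8 := Nat.mod_eq_zero_of_dvd h4'
      omega
    rw [hdN, hr0, zero_add]
    have h9 : k * q * 2 ≤ k * q * n := Nat.mul_le_mul_left _ hn2
    have h10 : 1 ≤ k * q := by
      have : 0 < k * q := Nat.mul_pos (by omega) (by omega)
      omega
    omega
  · rw [hdN]
    have h11 : k * q ≤ k * q * n := Nat.le_mul_of_pos_right _ (Nat.pos_of_ne_zero hn)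
    omega

end Cfsg.Agent.Helper3
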