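import Mathlib

set_option autoImplicit false

namespace Cfsg.Agent.Helper3

/-- Piece NW of CALL S1158 (helper6): the normaliser of a cyclic TI self-centralising subgroup
whose element `x` of prime order is only fused to its `q^i`-th powers (`i < 6`) has order
dividing `6 |T|`. -/
theorem card_normalizer_dvd_six {G : Type*} [Group G] [Finite G] (T : Subgroup G)
    (hT : IsCyclic T) (hTI : ∀ y ∈ T, y ≠ 1 → ∀ c : G, c * y = y * c → c ∈ T)
    {p q : ℕ} (hp : p.Prime) (x : G) (hxT : x ∈ T) (hx1 : x ≠ 1) (hxp : x ^ p = 1)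
    (hq6 : x ^ (q ^ 6) = x)
    (hconj : ∀ (n : G) (k : ℕ), n * x * n⁻¹ = x ^ k → ∃ i : ℕ, i < 6 ∧ x ^ k = x ^ (q ^ i)) :
    Nat.card (Subgroup.normalizer (T : Set G)) ∣ 6 * Nat.card T := by
  classical
  have hpF : Fact p.Prime := ⟨hp⟩
  have hox : orderOf x = p := orderOf_eq_prime hxp hx1
  -- T is abelian
  have hTcomm : ∀ a ∈ T, ∀ b ∈ T, a * b = b * a := by
    intro a ha b hb
    obtain ⟨g, hg⟩ := hT.exists_generator
    obtain ⟨i, hi⟩ := hg ⟨a, ha⟩
    obtain ⟨j, hj⟩ := hg ⟨b, hb⟩
    have h : (⟨a, ha⟩ : T) * ⟨b, hb⟩ = ⟨b, hb⟩ * ⟨a, ha⟩ := by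
      rw [← hi, ← hj]; exact (Commute.zpow_zpow_self g i j).eq
    exact congrArg Subtype.val h
  -- conjugates of x under N(T) stay in ⟨x⟩
  have h1 : ∀ n ∈ Subgroup.normalizer (T : Set G), n * x * n⁻¹ ∈ Subgroup.zpowers x := by
    intro n hn
    have hy : n * x * n⁻¹ ∈ T := (Subgroup.mem_normalizer_iff.mp hn x).mp hxT
    have hyp : (n * x * n⁻¹) ^ p = 1 := by
      rw [conj_pow, hxp]; group
    have : Fintype T := Fintype.ofFinite T
    have hle : (Finset.univ.filter (fun a : T => a ^ p = 1)).card ≤ p :=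
      IsCyclic.card_pow_eq_one_le hp.pos
    have hoxT : orderOf (⟨x, hxT⟩ : T) = p := by
      rw [← hox]; exact Subgroup.orderOf_mk x hxT
    have hsub : (Finset.range p).image (fun i => (⟨x, hxT⟩ : T) ^ i) ⊆
        Finset.univ.filter (fun a : T => a ^ p = 1) := by
      intro a ha
      obtain ⟨i, -, rfl⟩ := Finset.mem_image.mp ha
      simp only [Finset.mem_filter, Finset.mem_univ, true_and]
      rw [← pow_mul, mul_comm, pow_mul]
      have h : (⟨x, hxT⟩ : T) ^ p = 1 := by rw [← hoxT]; exact pow_orderOf_eq_one _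
      rw [h, one_pow]
    have hcard : ((Finset.range p).image (fun i => (⟨x, hxT⟩ : T) ^ i)).card = p := by
      rw [Finset.card_image_of_injOn, Finset.card_range]
      intro i hi j hj hij
      have hi' : i < orderOf (⟨x, hxT⟩ : T) := by rw [hoxT]; exact Finset.mem_range.mp hi
      have hj' : j < orderOf (⟨x, hxT⟩ : T) := by rw [hoxT]; exact Finset.mem_range.mp hj
      exact pow_injOn_Iio_orderOf hi' hj' hij
    have heq := Finset.eq_of_subset_of_card_le hsub (by rw [hcard]; exact hle)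
    have hmem : (⟨n * x * n⁻¹, hy⟩ : T) ∈
        (Finset.range p).image (fun i => (⟨x, hxT⟩ : T) ^ i) := by
      rw [heq]; simp only [Finset.mem_filter, Finset.mem_univ, true_and]
      exact Subtype.ext (by simpa using hyp)
    obtain ⟨i, -, hi⟩ := Finset.mem_image.mp hmem
    have h : x ^ i = n * x * n⁻¹ := by
      have := congrArg Subtype.val hi
      simpa using this
    rw [← h]; exact Subgroup.pow_mem _ (Subgroup.mem_zpowers x) i
  set X : Subgroup G := Subgroup.zpowers x with hXdef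
  have hXT : X ≤ T := by rw [hXdef]; exact (Subgroup.zpowers_le).mpr hxT
  have hNX : Subgroup.normalizer (T : Set G) ≤ Subgroup.normalizer (X : Set G) := by
    intro n hn
    have key : ∀ m ∈ Subgroup.normalizer (T : Set G), ∀ y ∈ X, m * y * m⁻¹ ∈ X := by
      intro m hm y hy
      obtain ⟨k, rfl⟩ := Subgroup.mem_zpowers_iff.mp hy
      have h : m * x ^ k * m⁻¹ = (m * x * m⁻¹) ^ k := by rw [conj_zpow]
      rw [h]; exact Subgroup.zpow_mem _ (h1 m hm) k
    rw [Subgroup.mem_normalizer_iff]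
    intro y
    constructor
    · exact key n hn y
    · intro hy
      have h := key n⁻¹ (Subgroup.inv_mem _ hn) _ hy
      have h2 : n⁻¹ * (n * y * n⁻¹) * n⁻¹⁻¹ = y := by group
      rwa [h2] at h
  let φ : Subgroup.normalizer (T : Set G) →* MulAut X :=
    (Subgroup.normalizerMonoidHom X).comp (Subgroup.inclusion hNX)
  have hφ : ∀ (n : Subgroup.normalizer (T : Set G)) (y : X),
      ((φ n) y : G) = (n : G) * y * (n : G)⁻¹ := by
    intro n y; rfl
  have hker : ∀ n : Subgroup.normalizer (T : Set G), n ∈ φ.ker ↔ (n : G) ∈ T := by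
    intro n
    rw [MonoidHom.mem_ker]
    constructor
    · intro h
      have h2 := hφ n ⟨x, Subgroup.mem_zpowers x⟩
      rw [h] at h2
      have h3 : x = (n : G) * x * (n : G)⁻¹ := by simpa using h2
      have h4 : (n : G) * x = x * n := by
        calc (n : G) * x = ((n : G) * x * (n : G)⁻¹) * n := by group
          _ = x * n := by rw [← h3]
      exact hTI x hxT hx1 n h4
    · intro h
      ext y
      rw [hφ, MulAut.one_apply, hTcomm _ h _ (hXT y.2), mul_inv_cancel_right]
  have hcard : Nat.card (Subgroup.normalizer (T : Set G)) =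
      Nat.card φ.ker * Nat.card φ.range := by
    rw [← Subgroup.index_ker, Subgroup.card_mul_index]
  have hkercard : Nat.card φ.ker = Nat.card T := by
    apply Nat.card_congr
    exact
      { toFun := fun n => ⟨((n : Subgroup.normalizer (T : Set G)) : G), (hker n.1).mp n.2⟩
        invFun := fun t => ⟨⟨t, Subgroup.le_normalizer t.2⟩, (hker _).mpr t.2⟩
        left_inv := fun n => rfl
        right_inv := fun t => rfl }
  have hXp : Nat.card X = p := by rw [hXdef, Nat.card_zpowers, hox]
  have : Fact (Nat.card X).Prime := ⟨by rw [hXp]; exact hp⟩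
  have : IsCyclic X := isCyclic_of_prime_card (p := Nat.card X) rfl
  have : IsCyclic (MulAut X) :=
    isCyclic_of_surjective (IsCyclic.mulAutMulEquiv (G := X)).symm.toMonoidHom
      (MulEquiv.surjective _)
  have : IsCyclic φ.range := Subgroup.isCyclic _
  obtain ⟨g, hg⟩ := IsCyclic.exists_generator (α := φ.range)
  have hxq : ∀ i : ℕ, x ^ ((q ^ 6) ^ i) = x := by
    intro i
    induction i with
    | zero => simp
    | succ i ih => rw [pow_succ, pow_mul, ih, hq6]
  have hg6 : g ^ 6 = 1 := by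
    obtain ⟨n, hn⟩ := g.2
    have hnx : ∃ i : ℕ, i < 6 ∧ (n : G) * x * (n : G)⁻¹ = x ^ (q ^ i) := by
      have hm := h1 n n.2
      rw [← mem_powers_iff_mem_zpowers] at hm
      obtain ⟨k, hk⟩ := hm
      have hk : x ^ k = (n : G) * x * (n : G)⁻¹ := hk
      obtain ⟨i, hi, hik⟩ := hconj n k hk.symm
      exact ⟨i, hi, by rw [← hk, hik]⟩
    obtain ⟨i, -, hni⟩ := hnx
    have hpow : ∀ j : ℕ, (n : G) ^ j * x * ((n : G) ^ j)⁻¹ = x ^ (q ^ (i * j)) := by
      intro j
      induction j with
      | zero => simp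
      | succ j ih =>
        have h : (n : G) ^ (j + 1) * x * ((n : G) ^ (j + 1))⁻¹ =
            (n : G) * ((n : G) ^ j * x * ((n : G) ^ j)⁻¹) * (n : G)⁻¹ := by
          rw [pow_succ']; group
        rw [h, ih, ← conj_pow, hni, ← pow_mul, ← pow_add, Nat.mul_succ, add_comm]
    have h6 : (n : G) ^ 6 * x = x * (n : G) ^ 6 := by
      have h := hpow 6
      rw [pow_mul, ← pow_mul q, mul_comm i 6, pow_mul q, hxq i] at h
      calc (n : G) ^ 6 * x = ((n : G) ^ 6 * x * ((n : G) ^ 6)⁻¹) * (n : G) ^ 6 := by group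
        _ = x * (n : G) ^ 6 := by rw [h]
    have hn6 : n ^ 6 ∈ φ.ker := by
      rw [hker]
      exact hTI x hxT hx1 _ (by simpa using h6)
    apply Subtype.ext
    have : ((g ^ 6 : φ.range) : MulAut X) = (g : MulAut X) ^ 6 := rfl
    rw [this, ← hn, ← map_pow]
    exact hn6
  have hdvd : Nat.card φ.range ∣ 6 := by
    rw [← orderOf_eq_card_of_forall_mem_zpowers hg]
    exact orderOf_dvd_of_pow_eq_one hg6
  rw [hcard, hkercard, mul_comm]
  exact Nat.mul_dvd_mul hdvd (dvd_refl _)

end Cfsg.Agent.Helper3
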