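import Mathlib
import Cfsg.Agent.Helper71.SQMain
import Cfsg.Agent.Helper71.SGDefs

/-!
# CALL S5666 (helper71), piece CN4 (helper3, double): a non-scalar `S`-selfadjoint `D` on `F^n`,
`n ≥ 4`, is non-zero on some singular vector (all fields with `2 ≠ 0`).
-/

set_option autoImplicit false

namespace Cfsg.Agent.Helper3.SGCN4

open Matrix Cfsg.Agent.Helper71.T4 Cfsg.Agent.Helper71.SO Cfsg.Agent.Helper71.SQ
open Cfsg.Agent.Helper71.SG
open scoped Kronecker

variable {F : Type*} [Field F] {m n : ℕ}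

/-- a non-zero vector orthogonal to three given vectors (`n ≥ 4`) -/
theorem cn4_perp3 (hn : 4 ≤ n) (S : Matrix (Fin n) (Fin n) F) (a b c : Fin n → F) :
    ∃ y : Fin n → F, y ≠ 0 ∧ bl S y a = 0 ∧ bl S y b = 0 ∧ bl S y c = 0 := by
  classical
  let R : Matrix (Fin n) (Fin n) F := Matrix.of (fun (i : Fin n) (j : Fin n) =>
    if (i : ℕ) = 0 then (S *ᵥ a) j else if (i : ℕ) = 1 then (S *ᵥ b) j
      else if (i : ℕ) = 2 then (S *ᵥ c) j else 0)
  have hR : R.det = 0 := Matrix.det_eq_zero_of_row_eq_zero (⟨3, by omega⟩ : Fin n)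
    (fun j => by simp [R])
  obtain ⟨y, hy, hRy⟩ := Matrix.exists_mulVec_eq_zero_iff.mpr hR
  refine ⟨y, hy, ?_, ?_, ?_⟩
  · have h := congrFun hRy (⟨0, by omega⟩ : Fin n)
    have h' : (S *ᵥ a) ⬝ᵥ y = 0 := by
      simpa [Matrix.mulVec, dotProduct, R] using h
    unfold bl
    rw [dotProduct_comm]
    exact h'
  · have h := congrFun hRy (⟨1, by omega⟩ : Fin n)
    have h' : (S *ᵥ b) ⬝ᵥ y = 0 := by
      simpa [Matrix.mulVec, dotProduct, R] using h
    unfold bl
    rw [dotProduct_comm]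
    exact h'
  · have h := congrFun hRy (⟨2, by omega⟩ : Fin n)
    have h' : (S *ᵥ c) ⬝ᵥ y = 0 := by
      simpa [Matrix.mulVec, dotProduct, R] using h
    unfold bl
    rw [dotProduct_comm]
    exact h'

open Cfsg.Agent.Helper11.SORT Cfsg.Agent.Helper11.SOTR in
/-- CN4 -/
theorem quadric_nonscalar (hn : 4 ≤ n) (h2 : (2 : F) ≠ 0)
    (S : Matrix (Fin n) (Fin n) F) (hS : Sᵀ = S) (hdet : S.det ≠ 0)
    (u₀ : Fin n → F) (hu₀ : u₀ ≠ 0) (hu₀u₀ : bl S u₀ u₀ = 0)
    (D : Matrix (Fin n) (Fin n) F) (hsym : (S * D)ᵀ = S * D)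
    (hns : ∀ c : F, D ≠ c • (1 : Matrix (Fin n) (Fin n) F)) :
    ∃ u : Fin n → F, u ≠ 0 ∧ bl S u u = 0 ∧ bl S u (D *ᵥ u) ≠ 0 := by
  classical
  by_contra hcon
  push Not at hcon
  have h2i : (2 : F)⁻¹ * 2 = 1 := inv_mul_cancel₀ h2
  have hT := bl_comm (S * D) hsym
  have hB := bl_comm S hS
  have hβ : ∀ s : Fin n → F, bl S s s = 0 → bl (S * D) s s = 0 := by
    intro s hss
    by_cases hs : s = 0
    · rw [hs, bl_zero_left]
    · have := hcon s hs hss
      unfold bl at this ⊢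
      rwa [Matrix.mulVec_mulVec] at this
  obtain ⟨u₁, hu₁u₁, hu₀u₁⟩ := sing_partner h2 S hS hdet u₀ hu₀ hu₀u₀
  have hu₁u₀ : bl S u₁ u₀ = 1 := by rw [hB, hu₀u₁]
  have b00 : bl (S * D) u₀ u₀ = 0 := hβ u₀ hu₀u₀
  have b11 : bl (S * D) u₁ u₁ = 0 := hβ u₁ hu₁u₁
  obtain ⟨lam, hlam⟩ : ∃ lam : F, bl (S * D) u₀ u₁ = lam := ⟨_, rfl⟩
  have hlam' : bl (S * D) u₁ u₀ = lam := by rw [hT, hlam]
  -- the two relations on `W = ⟨u₀, u₁⟩^⊥`
  have key : ∀ w : Fin n → F, bl S w u₀ = 0 → bl S w u₁ = 0 →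
      bl (S * D) w w = lam * bl S w w ∧ 2 * bl (S * D) u₁ w = bl S w w * bl (S * D) u₀ w := by
    intro w hw0 hw1
    have hu₀w : bl S u₀ w = 0 := by rw [hB, hw0]
    have hu₁w : bl S u₁ w = 0 := by rw [hB, hw1]
    have hs : ∀ e : F, e * e = 1 →
        bl (S * D) (u₁ + e • w - (2⁻¹ * bl S w w) • u₀)
          (u₁ + e • w - (2⁻¹ * bl S w w) • u₀) = 0 := by
      intro e he
      apply hβ
      simp only [bl_sub_left, bl_sub_right, bl_add_left, bl_add_right, bl_smul_left,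
        bl_smul_right, hu₀u₀, hu₁u₁, hu₀u₁, hu₁u₀, hw0, hw1, hu₀w, hu₁w]
      linear_combination (bl S w w) * he - (bl S w w) * h2i
    have hp := hs 1 (by ring)
    have hm := hs (-1) (by ring)
    simp only [bl_sub_left, bl_sub_right, bl_add_left, bl_add_right, bl_smul_left,
      bl_smul_right, b00, b11, hlam, hlam'] at hp hm
    have e1 := hT w u₁
    have e0 := hT w u₀
    constructor
    · have h' : 2 * bl (S * D) w w = 2 * (lam * bl S w w) := by
        linear_combination hp + hm + 2 * lam * bl S w w * h2i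
      exact mul_left_cancel₀ h2 h'
    · have h' : 2 * (2 * bl (S * D) u₁ w) = 2 * (bl S w w * bl (S * D) u₀ w) := by
        linear_combination hp - hm + 2 * bl S w w * bl (S * D) u₀ w * h2i - 2 * e1
          + 2 * (2⁻¹ * bl S w w) * e0
      exact mul_left_cancel₀ h2 h'
  -- orthogonal pairs in `W`
  have orth : ∀ w₁ w₂ : Fin n → F, bl S w₁ u₀ = 0 → bl S w₁ u₁ = 0 → bl S w₂ u₀ = 0 →
      bl S w₂ u₁ = 0 → bl S w₁ w₂ = 0 → bl S w₂ w₂ * bl (S * D) u₀ w₁ = 0 := by
    intro w₁ w₂ h10 h11 h20 h21 h12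
    have h21' : bl S w₂ w₁ = 0 := by rw [hB, h12]
    have k1 := (key w₁ h10 h11).2
    have kp := (key (w₁ + w₂) (by rw [bl_add_left, h10, h20, add_zero])
      (by rw [bl_add_left, h11, h21, add_zero])).2
    have km := (key (w₁ - w₂) (by rw [bl_sub_left, h10, h20, sub_zero])
      (by rw [bl_sub_left, h11, h21, sub_zero])).2
    simp only [bl_sub_left, bl_sub_right, bl_add_left, bl_add_right, h12, h21'] at kp km
    have h' : 2 * (bl S w₂ w₂ * bl (S * D) u₀ w₁) = 2 * 0 := by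
      linear_combination -kp - km + 2 * k1
    exact mul_left_cancel₀ h2 h'
  -- non-singular vectors of `W`
  have caseA : ∀ w₁ : Fin n → F, bl S w₁ u₀ = 0 → bl S w₁ u₁ = 0 → bl S w₁ w₁ ≠ 0 →
      bl (S * D) u₀ w₁ = 0 := by
    intro w₁ h10 h11 hq
    obtain ⟨y, hy, hy0, hy1, hyw⟩ := cn4_perp3 hn S u₀ u₁ w₁
    obtain ⟨x, hx⟩ := exists_bl_ne S hdet y hy
    obtain ⟨x', hx'0, hx'1, hx'w, hyx'⟩ : ∃ x' : Fin n → F, bl S x' u₀ = 0 ∧ bl S x' u₁ = 0 ∧
        bl S x' w₁ = 0 ∧ bl S y x' ≠ 0 := by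
      refine ⟨x - bl S x u₁ • u₀ - bl S x u₀ • u₁ - (bl S x w₁ / bl S w₁ w₁) • w₁,
        ?_, ?_, ?_, ?_⟩
      · simp only [bl_sub_left, bl_smul_left, hu₀u₀, hu₁u₀, h10]
        ring
      · simp only [bl_sub_left, bl_smul_left, hu₀u₁, hu₁u₁, h11]
        ring
      · simp only [bl_sub_left, bl_smul_left, hB u₀ w₁, hB u₁ w₁, h10, h11]
        field_simp
        ring
      · simp only [bl_sub_right, bl_smul_right, hy0, hy1, hyw, mul_zero, sub_zero]
        exact hx
    obtain ⟨w₂, h20, h21, h2w, hq2⟩ : ∃ w₂ : Fin n → F, bl S w₂ u₀ = 0 ∧ bl S w₂ u₁ = 0 ∧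
        bl S w₂ w₁ = 0 ∧ bl S w₂ w₂ ≠ 0 := by
      by_cases hyy : bl S y y = 0
      · by_cases hxx : bl S x' x' = 0
        · refine ⟨y + x', ?_, ?_, ?_, ?_⟩
          · rw [bl_add_left, hy0, hx'0, add_zero]
          · rw [bl_add_left, hy1, hx'1, add_zero]
          · rw [bl_add_left, hyw, hx'w, add_zero]
          · simp only [bl_add_left, bl_add_right, hyy, hxx, hB x' y]
            intro h0
            apply hyx'
            have h' : 2 * bl S y x' = 2 * 0 := by linear_combination h0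
            exact mul_left_cancel₀ h2 h'
        · exact ⟨x', hx'0, hx'1, hx'w, hxx⟩
      · exact ⟨y, hy0, hy1, hyw, hyy⟩
    have h := orth w₁ w₂ h10 h11 h20 h21 (by rw [hB, h2w])
    rcases mul_eq_zero.mp h with h | h
    · exact absurd h hq2
    · exact h
  -- all vectors of `W`
  have caseB : ∀ w : Fin n → F, bl S w u₀ = 0 → bl S w u₁ = 0 → bl (S * D) u₀ w = 0 := by
    intro w h0 h1
    by_cases hq : bl S w w = 0
    · by_cases hw : w = 0
      · rw [hw, bl_zero_right]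
      · obtain ⟨x, hx⟩ := exists_bl_ne S hdet w hw
        have hu₀w : bl S u₀ w = 0 := by rw [hB, h0]
        have hu₁w : bl S u₁ w = 0 := by rw [hB, h1]
        obtain ⟨y, hy0, hy1, hwy⟩ : ∃ y : Fin n → F, bl S y u₀ = 0 ∧ bl S y u₁ = 0 ∧
            bl S w y = 1 := by
          refine ⟨(bl S w x)⁻¹ • (x - bl S x u₁ • u₀ - bl S x u₀ • u₁), ?_, ?_, ?_⟩
          · simp only [bl_smul_left, bl_sub_left, hu₀u₀, hu₁u₀]
            ring
          · simp only [bl_smul_left, bl_sub_left, hu₀u₁, hu₁u₁]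
            ring
          · simp only [bl_smul_right, bl_sub_right, h0, h1, mul_zero, sub_zero]
            exact inv_mul_cancel₀ hx
        have hyw : bl S y w = 1 := by rw [hB, hwy]
        obtain ⟨y', hy'0, hy'1, hwy', hy'y'⟩ : ∃ y' : Fin n → F, bl S y' u₀ = 0 ∧
            bl S y' u₁ = 0 ∧ bl S w y' = 1 ∧ bl S y' y' = 2 := by
          refine ⟨y + (1 - 2⁻¹ * bl S y y) • w, ?_, ?_, ?_, ?_⟩
          · rw [bl_add_left, bl_smul_left, hy0, h0, mul_zero, add_zero]
          · rw [bl_add_left, bl_smul_left, hy1, h1, mul_zero, add_zero]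
          · rw [bl_add_right, bl_smul_right, hwy, hq, mul_zero, add_zero]
          · simp only [bl_add_left, bl_add_right, bl_smul_left, bl_smul_right, hwy, hyw, hq]
            linear_combination (-(bl S y y)) * h2i
        have hy'w : bl S y' w = 1 := by rw [hB, hwy']
        have h4 : (4 : F) ≠ 0 := by
          have : (4 : F) = 2 * 2 := by norm_num
          rw [this]
          exact mul_ne_zero h2 h2
        have hA1 := caseA y' hy'0 hy'1 (by rw [hy'y']; exact h2)
        have hA2 := caseA (w + y') (by rw [bl_add_left, h0, hy'0, add_zero])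
          (by rw [bl_add_left, h1, hy'1, add_zero]) (by
            have : bl S (w + y') (w + y') = 4 := by
              simp only [bl_add_left, bl_add_right, hq, hwy', hy'w, hy'y']
              norm_num
            rw [this]
            exact h4)
        rw [bl_add_right, hA1, add_zero] at hA2
        exact hA2
    · exact caseA w h0 h1 hq
  -- `β = lam * B` on the diagonal
  have hqd : ∀ x : Fin n → F, bl (S * D) x x = lam * bl S x x := by
    intro x
    obtain ⟨w, hw0, hw1, a, b, rfl⟩ : ∃ w : Fin n → F, bl S w u₀ = 0 ∧ bl S w u₁ = 0 ∧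
        ∃ a b : F, x = a • u₀ + b • u₁ + w := by
      refine ⟨x - bl S x u₁ • u₀ - bl S x u₀ • u₁, ?_, ?_, bl S x u₁, bl S x u₀, by abel⟩
      · simp only [bl_sub_left, bl_smul_left, hu₀u₀, hu₁u₀]
        ring
      · simp only [bl_sub_left, bl_smul_left, hu₀u₁, hu₁u₁]
        ring
    have hu₀w : bl S u₀ w = 0 := by rw [hB, hw0]
    have hu₁w : bl S u₁ w = 0 := by rw [hB, hw1]
    have c0 := caseB w hw0 hw1
    have c0' : bl (S * D) w u₀ = 0 := by rw [hT, c0]
    obtain ⟨k1, k2⟩ := key w hw0 hw1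
    have c1 : bl (S * D) u₁ w = 0 := by
      rw [c0, mul_zero] at k2
      have h' : 2 * bl (S * D) u₁ w = 2 * 0 := by linear_combination k2
      exact mul_left_cancel₀ h2 h'
    have c1' : bl (S * D) w u₁ = 0 := by rw [hT, c1]
    simp only [bl_add_left, bl_add_right, bl_smul_left, bl_smul_right, b00, b11, hlam, hlam',
      c0, c0', c1, c1', hu₀u₀, hu₁u₁, hu₀u₁, hu₁u₀, hw0, hw1, hu₀w, hu₁w]
    linear_combination k1
  have hsm : ∀ (l : F) (x y : Fin n → F), bl (l • S) x y = l * bl S x y := by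
    intro l x y
    unfold bl
    rw [Matrix.smul_mulVec, dotProduct_smul, smul_eq_mul]
  have hSD : S * D = lam • S := by
    apply bl_ext
    intro x y
    rw [hsm]
    have h := hqd (x + y)
    simp only [bl_add_left, bl_add_right] at h
    have h' : 2 * bl (S * D) x y = 2 * (lam * bl S x y) := by
      linear_combination h - hqd x - hqd y + hT x y - lam * hB x y
    exact mul_left_cancel₀ h2 h'
  apply hns lam
  have hinv : S⁻¹ * S = 1 := Matrix.nonsing_inv_mul S (isUnit_iff_ne_zero.mpr hdet)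
  calc D = S⁻¹ * (S * D) := by rw [← Matrix.mul_assoc, hinv, Matrix.one_mul]
    _ = S⁻¹ * (lam • S) := by rw [hSD]
    _ = lam • (1 : Matrix (Fin n) (Fin n) F) := by rw [Matrix.mul_smul, hinv]

end Cfsg.Agent.Helper3.SGCN4
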