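import Mathlib
import Cfsg.Agent.Helper65.SUGDefs

set_option autoImplicit false

namespace Cfsg.Agent.Helper3

open Matrix
open Cfsg.Agent.Helper5 (frobQ frobQ_apply frobQ_frobQ)
open Cfsg.Agent.Helper13
open Cfsg.Agent.Helper65

variable {F : Type*} [Field F] [Fintype F] {q n : ℕ}

/-- removing the `k`-th coordinate: the norm drops by the norm of the coordinate -/
theorem sug_step_norm (hF : Fintype.card F = q ^ 2) (k : ℕ) (hk : k < n) (v : Fin n → F) :
    Cfsg.hermForm n F q (v - v ⟨k, hk⟩ • sugE F n k) (v - v ⟨k, hk⟩ • sugE F n k) =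
      Cfsg.hermForm n F q v v - v ⟨k, hk⟩ * frobQ hF (v ⟨k, hk⟩) := by
  rw [uh_sub_left, uh_sub_right hF, uh_sub_right hF, uh_smul_left, uh_smul_left,
    uh_smul_right hF, uh_smul_right hF, sug_herm_E_right hF v k hk, sug_herm_E_left hF v k hk,
    sug_herm_EE hF k k hk hk, if_pos rfl]
  ring

theorem sug_step (hF : Fintype.card F = q ^ 2) (k : ℕ) (hk : k < n) (Φ : Set (Fin n → F))
    (hΦ : SugClosed hF Φ) (hfull : SugFull q Φ k)
    (hrtl : ∀ x y z : Fin n → F, (∀ i : Fin n, k ≤ i.val → x i = 0) →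
      (∀ i : Fin n, k ≤ i.val → y i = 0) → (∀ i : Fin n, i.val < k → z i = 0) →
      Cfsg.hermForm n F q x x = Cfsg.hermForm n F q y y → Cfsg.hermForm n F q x x ≠ 0 →
      y + z ∈ Φ → x + z ∈ Φ)
    (u : Fin n → F) (hu : u ∈ Φ) (hus : ∀ i : Fin n, k < i.val → u i = 0)
    (huk : u ⟨k, hk⟩ ≠ 0) : SugFull q Φ (k + 1) := by
  intro v hv0 hv hvs
  by_cases hvk : v ⟨k, hk⟩ = 0
  · apply hfull v hv0 hv
    intro i hi
    rcases Nat.lt_or_ge k i.val with h | h
    · exact hvs i h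
    · have e : i = ⟨k, hk⟩ := Fin.ext (le_antisymm h hi)
      rw [e]; exact hvk
  · set l : F := v ⟨k, hk⟩ / u ⟨k, hk⟩ with hl
    have hl0 : l ≠ 0 := div_ne_zero hvk huk
    have hu' : l • u ∈ Φ := hΦ.smul u hu l hl0
    have hu'iso := (hΦ.iso _ hu').2
    have hu'k : (l • u) ⟨k, hk⟩ = v ⟨k, hk⟩ := by
      rw [Pi.smul_apply, smul_eq_mul, hl]
      field_simp
    set z : Fin n → F := v ⟨k, hk⟩ • sugE F n k with hz
    have hzE : ∀ i : Fin n, z i = if i.val = k then v ⟨k, hk⟩ else 0 := by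
      intro i
      rw [hz, Pi.smul_apply, smul_eq_mul, sugE_apply]
      split_ifs <;> simp
    have hxs : ∀ i : Fin n, k ≤ i.val → (v - z) i = 0 := by
      intro i hi
      rw [Pi.sub_apply, hzE]
      rcases Nat.lt_or_ge k i.val with h | h
      · rw [if_neg (by omega), hvs i h, sub_zero]
      · have e : i = ⟨k, hk⟩ := Fin.ext (le_antisymm h hi)
        rw [if_pos (le_antisymm h hi), e, sub_self]
    have hys : ∀ i : Fin n, k ≤ i.val → (l • u - z) i = 0 := by
      intro i hi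
      rw [Pi.sub_apply, hzE]
      rcases Nat.lt_or_ge k i.val with h | h
      · rw [if_neg (by omega), Pi.smul_apply, hus i h, smul_zero, sub_zero]
      · have e : i = ⟨k, hk⟩ := Fin.ext (le_antisymm h hi)
        rw [if_pos (le_antisymm h hi), e, hu'k, sub_self]
    have hzs : ∀ i : Fin n, i.val < k → z i = 0 := by
      intro i hi
      rw [hzE, if_neg (by omega)]
    have hN : v ⟨k, hk⟩ * frobQ hF (v ⟨k, hk⟩) ≠ 0 :=
      mul_ne_zero hvk (fun h => hvk ((ufrob_eq_zero hF).1 h))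
    have hxx : Cfsg.hermForm n F q (v - z) (v - z) = -(v ⟨k, hk⟩ * frobQ hF (v ⟨k, hk⟩)) := by
      rw [hz, sug_step_norm hF k hk v, hv, zero_sub]
    have hyy : Cfsg.hermForm n F q (l • u - z) (l • u - z) =
        -(v ⟨k, hk⟩ * frobQ hF (v ⟨k, hk⟩)) := by
      have h1 := sug_step_norm hF k hk (l • u)
      rw [hu'k, hu'iso, zero_sub] at h1
      rw [hz]; exact h1
    have hfin := hrtl (v - z) (l • u - z) z hxs hys hzs (by rw [hxx, hyy])
      (by rw [hxx]; exact neg_ne_zero.mpr hN) (by rw [sub_add_cancel]; exact hu')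
    rwa [sub_add_cancel] at hfin

end Cfsg.Agent.Helper3
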