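import Mathlib
import Cfsg.Agent.Helper65.SUGDefs

set_option autoImplicit false

namespace Cfsg.Agent.Helper3

open Matrix
open Cfsg.Agent.Helper5 (frobQ frobQ_apply frobQ_frobQ)
open Cfsg.Agent.Helper13
open Cfsg.Agent.Helper65
open Cfsg.Agent.Helper44.PSUn

variable {F : Type*} [Field F] [Fintype F] {q n : ℕ}

/-- the torus element: scalar `xi` on two orthonormal vectors `d0`, `d1`, a rotation on a hyperbolic
pair `e`, `f` orthogonal to them, the identity on the orthogonal complement -/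
theorem sug_tor_general (hF : Fintype.card F = q ^ 2) (d0 d1 e f : Fin n → F) (xi lam : F)
    (h00 : Cfsg.hermForm n F q d0 d0 = 1) (h11 : Cfsg.hermForm n F q d1 d1 = 1)
    (h01 : Cfsg.hermForm n F q d0 d1 = 0)
    (he0 : Cfsg.hermForm n F q e d0 = 0) (he1 : Cfsg.hermForm n F q e d1 = 0)
    (hf0 : Cfsg.hermForm n F q f d0 = 0) (hf1 : Cfsg.hermForm n F q f d1 = 0)
    (hee : Cfsg.hermForm n F q e e = 0) (hff : Cfsg.hermForm n F q f f = 0)
    (hef : Cfsg.hermForm n F q e f = 1)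
    (hlam : lam ≠ 0) (hxi : xi * frobQ hF xi = 1) (hdet : xi ^ 2 * lam = frobQ hF lam) :
    ∃ g : ↥(Cfsg.SU n F q), uact g d0 = xi • d0 ∧ uact g d1 = xi • d1 ∧ uact g e = lam • e ∧
      uact g f = (frobQ hF lam)⁻¹ • f ∧
      ∀ x : Fin n → F, Cfsg.hermForm n F q x d0 = 0 → Cfsg.hermForm n F q x d1 = 0 →
        Cfsg.hermForm n F q x e = 0 → Cfsg.hermForm n F q x f = 0 → uact g x = x := by
  have hfl : frobQ hF lam ≠ 0 := fun h => hlam ((ufrob_eq_zero hF).1 h)
  have hfe : Cfsg.hermForm n F q f e = 1 := psu_swap_one hF hef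
  have h10 : Cfsg.hermForm n F q d1 d0 = 0 := by rw [← uh_conj hF, h01, map_zero]
  have h0e : Cfsg.hermForm n F q d0 e = 0 := by rw [← uh_conj hF, he0, map_zero]
  have h1e : Cfsg.hermForm n F q d1 e = 0 := by rw [← uh_conj hF, he1, map_zero]
  have h0f : Cfsg.hermForm n F q d0 f = 0 := by rw [← uh_conj hF, hf0, map_zero]
  have h1f : Cfsg.hermForm n F q d1 f = 0 := by rw [← uh_conj hF, hf1, map_zero]
  set m : F := (frobQ hF lam)⁻¹ with hm
  have hlm : lam * frobQ hF m = 1 := by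
    rw [hm, map_inv₀, frobQ_frobQ]
    exact mul_inv_cancel₀ hlam
  set M : Matrix (Fin n) (Fin n) F := dilM q d0 xi * dilM q d1 xi * rotM q e f lam m with hM
  have hkey : ∀ x : Fin n → F, M *ᵥ x = dilM q d0 xi *ᵥ (dilM q d1 xi *ᵥ (rotM q e f lam m *ᵥ x)) := by
    intro x
    rw [hM, Matrix.mulVec_mulVec, Matrix.mulVec_mulVec]
  have hdetM : M.det = 1 := by
    rw [hM, Matrix.det_mul, Matrix.det_mul, dilM_det d0 xi h00, dilM_det d1 xi h11,
      rotM_det hF e f lam m hef, hm]
    field_simp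
    linear_combination hdet
  have hiso : ∀ x y : Fin n → F,
      Cfsg.hermForm n F q (M *ᵥ x) (M *ᵥ y) = Cfsg.hermForm n F q x y := by
    intro x y
    rw [hkey, hkey, dilM_iso hF d0 xi h00 hxi, dilM_iso hF d1 xi h11 hxi,
      rotM_iso hF e f lam m hee hff hef hlm]
  have hD1 : ∀ y : Fin n → F, Cfsg.hermForm n F q y d1 = 0 → dilM q d1 xi *ᵥ y = y := by
    intro y hy
    rw [dilM_mulVec, hy, mul_zero, zero_smul, add_zero]
  have hD0 : ∀ y : Fin n → F, Cfsg.hermForm n F q y d0 = 0 → dilM q d0 xi *ᵥ y = y := by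
    intro y hy
    rw [dilM_mulVec, hy, mul_zero, zero_smul, add_zero]
  have hR : ∀ x : Fin n → F, rotM q e f lam m *ᵥ x =
      x + ((m - 1) * Cfsg.hermForm n F q x e) • f + ((lam - 1) * Cfsg.hermForm n F q x f) • e :=
    fun x => rotM_mulVec e f lam m hff x
  refine ⟨mkSU M hdetM hiso, ?_, ?_, ?_, ?_, ?_⟩
  · have h1 : rotM q e f lam m *ᵥ d0 = d0 := by
      rw [hR, h0e, h0f]; simp only [mul_zero, zero_smul, add_zero]
    rw [uact_mkSU, hkey, h1, hD1 d0 h01, dilM_mulVec, h00, mul_one]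
    module
  · have h1 : rotM q e f lam m *ᵥ d1 = d1 := by
      rw [hR, h1e, h1f]; simp only [mul_zero, zero_smul, add_zero]
    have h2 : dilM q d1 xi *ᵥ d1 = xi • d1 := by
      rw [dilM_mulVec, h11, mul_one]
      module
    rw [uact_mkSU, hkey, h1, h2, hD0 _ (by rw [uh_smul_left, h10, mul_zero])]
  · have h1 : rotM q e f lam m *ᵥ e = lam • e := by
      rw [hR, hee, hef]; simp only [mul_zero, zero_smul, add_zero, mul_one]
      module
    rw [uact_mkSU, hkey, h1, hD1 _ (by rw [uh_smul_left, he1, mul_zero]),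
      hD0 _ (by rw [uh_smul_left, he0, mul_zero])]
  · have h1 : rotM q e f lam m *ᵥ f = m • f := by
      rw [hR, hfe, hff]; simp only [mul_zero, zero_smul, add_zero, mul_one]
      module
    rw [uact_mkSU, hkey, h1, hD1 _ (by rw [uh_smul_left, hf1, mul_zero]),
      hD0 _ (by rw [uh_smul_left, hf0, mul_zero])]
  · intro x hx0 hx1 hxe hxf
    have h1 : rotM q e f lam m *ᵥ x = x := by
      rw [hR, hxe, hxf]; simp only [mul_zero, zero_smul, add_zero]
    rw [uact_mkSU, hkey, h1, hD1 x hx1, hD0 x hx0]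

theorem sug_torus4 (hF : Fintype.card F = q ^ 2) (hn : 4 ≤ n) (mu mu' lam xi : F)
    (hmu : mu * frobQ hF mu = -1) (hmu' : mu' * frobQ hF mu' = -1) (hne : mu ≠ mu')
    (hlam : lam ≠ 0) (hxi : xi * frobQ hF xi = 1) (hdet : xi ^ 2 * lam = frobQ hF lam) :
    ∃ g : ↥(Cfsg.SU n F q),
      uact g (sugE F n 0) = xi • sugE F n 0 ∧ uact g (sugE F n 1) = xi • sugE F n 1 ∧
      uact g (sugE F n 2 + mu • sugE F n 3) = lam • (sugE F n 2 + mu • sugE F n 3) ∧
      uact g (sugE F n 2 + mu' • sugE F n 3)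
        = (frobQ hF lam)⁻¹ • (sugE F n 2 + mu' • sugE F n 3) ∧
      ∀ i : ℕ, 4 ≤ i → uact g (sugE F n i) = sugE F n i := by
  have hEE : ∀ (i j : ℕ) (hj : j < n), Cfsg.hermForm n F q (sugE F n i) (sugE F n j) =
      if j = i then 1 else 0 := by
    intro i j hj
    rw [sug_herm_E_right hF _ j hj, sugE_apply]
  have hfmu' : frobQ hF mu' ≠ 0 := by
    intro h
    rw [h, mul_zero] at hmu'
    exact absurd hmu' (by norm_num)
  set e' : Fin n → F := sugE F n 2 + mu • sugE F n 3 with he'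
  set f' : Fin n → F := sugE F n 2 + mu' • sugE F n 3 with hf'
  have hh : Cfsg.hermForm n F q e' f' = 1 + mu * frobQ hF mu' := by
    rw [he', hf']
    simp only [uh_add_left, uh_add_right hF, uh_smul_left, uh_smul_right hF,
      hEE 2 2 (by omega), hEE 2 3 (by omega), hEE 3 2 (by omega), hEE 3 3 (by omega)]
    norm_num
    ring
  have hh0 : (1 : F) + mu * frobQ hF mu' ≠ 0 := by
    intro h
    apply hne
    have h1 : (mu - mu') * frobQ hF mu' = 0 := by linear_combination h - hmu'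
    rcases mul_eq_zero.1 h1 with h2 | h2
    · exact sub_eq_zero.1 h2
    · exact absurd h2 hfmu'
  set hv : F := 1 + mu * frobQ hF mu' with hhv
  have hfhv : frobQ hF hv ≠ 0 := fun h => hh0 ((ufrob_eq_zero hF).1 h)
  set f'' : Fin n → F := (frobQ hF hv)⁻¹ • f' with hf''
  have hf'f'' : f' = frobQ hF hv • f'' := by
    rw [hf'', smul_smul, mul_inv_cancel₀ hfhv, one_smul]
  have hee : Cfsg.hermForm n F q e' e' = 0 := by
    rw [he']
    simp only [uh_add_left, uh_add_right hF, uh_smul_left, uh_smul_right hF,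
      hEE 2 2 (by omega), hEE 2 3 (by omega), hEE 3 2 (by omega), hEE 3 3 (by omega)]
    norm_num
    linear_combination hmu
  have hf'f' : Cfsg.hermForm n F q f' f' = 0 := by
    rw [hf']
    simp only [uh_add_left, uh_add_right hF, uh_smul_left, uh_smul_right hF,
      hEE 2 2 (by omega), hEE 2 3 (by omega), hEE 3 2 (by omega), hEE 3 3 (by omega)]
    norm_num
    linear_combination hmu'
  have hff : Cfsg.hermForm n F q f'' f'' = 0 := by
    rw [hf'', uh_smul_left, uh_smul_right hF, hf'f']; ring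
  have hef : Cfsg.hermForm n F q e' f'' = 1 := by
    rw [hf'', uh_smul_right hF, hh, map_inv₀, frobQ_frobQ]
    exact inv_mul_cancel₀ hh0
  have h00 : Cfsg.hermForm n F q (sugE F n 0) (sugE F n 0) = 1 := by
    rw [hEE 0 0 (by omega)]; simp
  have h11 : Cfsg.hermForm n F q (sugE F n 1) (sugE F n 1) = 1 := by
    rw [hEE 1 1 (by omega)]; simp
  have h01 : Cfsg.hermForm n F q (sugE F n 0) (sugE F n 1) = 0 := by
    rw [hEE 0 1 (by omega)]; simp
  have he0 : Cfsg.hermForm n F q e' (sugE F n 0) = 0 := by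
    rw [he']
    simp only [uh_add_left, uh_smul_left, hEE 2 0 (by omega), hEE 3 0 (by omega)]
    norm_num
  have he1 : Cfsg.hermForm n F q e' (sugE F n 1) = 0 := by
    rw [he']
    simp only [uh_add_left, uh_smul_left, hEE 2 1 (by omega), hEE 3 1 (by omega)]
    norm_num
  have hf0 : Cfsg.hermForm n F q f'' (sugE F n 0) = 0 := by
    rw [hf'', hf']
    simp only [uh_add_left, uh_smul_left, hEE 2 0 (by omega), hEE 3 0 (by omega)]
    norm_num
  have hf1 : Cfsg.hermForm n F q f'' (sugE F n 1) = 0 := by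
    rw [hf'', hf']
    simp only [uh_add_left, uh_smul_left, hEE 2 1 (by omega), hEE 3 1 (by omega)]
    norm_num
  obtain ⟨g, hg0, hg1, hge, hgf, hgx⟩ := sug_tor_general hF (sugE F n 0) (sugE F n 1) e' f''
    xi lam h00 h11 h01 he0 he1 hf0 hf1 hee hff hef hlam hxi hdet
  refine ⟨g, hg0, hg1, hge, ?_, ?_⟩
  · rw [hf'f'', uact_smul, hgf, smul_comm]
  · intro i hi
    apply hgx
    · rw [hEE i 0 (by omega), if_neg (by omega)]
    · rw [hEE i 1 (by omega), if_neg (by omega)]
    · rw [he']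
      simp only [uh_add_right hF, uh_smul_right hF, hEE i 2 (by omega), hEE i 3 (by omega)]
      rw [if_neg (by omega), if_neg (by omega)]; ring
    · rw [hf'', hf']
      simp only [uh_add_right hF, uh_smul_right hF, hEE i 2 (by omega), hEE i 3 (by omega)]
      rw [if_neg (by omega), if_neg (by omega)]; ring

end Cfsg.Agent.Helper3
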