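import Cfsg.Agent.Helper3.Exceptional
import Cfsg.Agent.Helper80.LinChar
import Cfsg.Prelude.Def_OddOrderLocal

/-!
# Induction from a TI-subgroup `H` and the action of `N_G(H)` on the linear characters of `H`

* `tiConj H x`: the endomorphism `h ↦ x⁻¹ h x` of `H`, for `x ∈ N_G(H)`.
* `indFun_TI_sub`: values of `indFun H ψ` on `H \ {1}` for a TI-subgroup `H`.
* `classInner_indFun_TI_sub`: inner products of induced functions.
* `tiConj_stab`: in the Frobenius situation the stabilizer of a non-trivial linear character is `H`.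
-/

set_option autoImplicit false

namespace Cfsg.Agent.Helper3

open scoped ComplexConjugate

universe u

variable {G : Type u} [Group G]

/-- `h ↦ x⁻¹ h x` on `H`, for `x` in the normalizer of `H`. -/
def tiConj (H : Subgroup G) (x : Subgroup.normalizer (H : Set G)) : H →* H where
  toFun h := ⟨(x : G)⁻¹ * h * x, by
    have h1 := Subgroup.mem_normalizer_iff.mp x.2 ((x : G)⁻¹ * h * x)
    rw [h1]
    have : (x : G) * ((x : G)⁻¹ * h * x) * (x : G)⁻¹ = h := by group
    rw [this]; exact h.2⟩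
  map_one' := by
    apply Subtype.ext
    simp
  map_mul' a b := by
    apply Subtype.ext
    simp only [Subgroup.coe_mul]
    group

theorem tiConj_coe (H : Subgroup G) (x : Subgroup.normalizer (H : Set G)) (h : H) :
    ((tiConj H x h : H) : G) = (x : G)⁻¹ * h * x := rfl

theorem tiConj_one (H : Subgroup G) : tiConj H 1 = MonoidHom.id H := by
  ext h
  rw [tiConj_coe]
  simp

theorem tiConj_mul (H : Subgroup G) (x y : Subgroup.normalizer (H : Set G)) :
    tiConj H (x * y) = (tiConj H y).comp (tiConj H x) := by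
  ext h
  rw [MonoidHom.comp_apply, tiConj_coe, tiConj_coe, tiConj_coe]
  simp only [Subgroup.coe_mul]
  group

theorem tiConj_comp_ne_one (H : Subgroup G) (x : Subgroup.normalizer (H : Set G))
    (f : H →* ℂˣ) (hf : f ≠ 1) : f.comp (tiConj H x) ≠ 1 := by
  intro h1
  apply hf
  have h2 : f = (f.comp (tiConj H x)).comp (tiConj H x⁻¹) := by
    rw [MonoidHom.comp_assoc, ← tiConj_mul, inv_mul_cancel, tiConj_one]
    rfl
  rw [h2, h1]
  rfl

/-- elements of `H` act trivially on the linear characters of `H` -/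
theorem tiConj_comp_of_mem (H : Subgroup G) (x : Subgroup.normalizer (H : Set G))
    (hx : (x : G) ∈ H) (f : H →* ℂˣ) : f.comp (tiConj H x) = f := by
  ext h
  have h1 : tiConj H x h = (⟨(x : G), hx⟩ : H)⁻¹ * h * ⟨(x : G), hx⟩ := by
    apply Subtype.ext
    rw [tiConj_coe]
    rfl
  rw [MonoidHom.comp_apply, h1, map_mul, map_mul, map_inv]
  rw [mul_comm, ← mul_assoc, mul_inv_cancel, one_mul]

/-- In the Frobenius situation the stabilizer of a non-trivial linear character of `H` in
`N_G(H)` is `H`. -/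
theorem tiConj_stab [Finite G] (H : Subgroup G)
    (hfrob : ∀ h ∈ H, h ≠ 1 →
      Subgroup.normalizer (H : Set G) ⊓ Subgroup.centralizer ({h} : Set G) ≤ H)
    (x : Subgroup.normalizer (H : Set G)) (f : H →* ℂˣ) (hf : f ≠ 1)
    (hx : f.comp (tiConj H x) = f) : (x : G) ∈ H := by
  by_contra hxH
  apply hf
  set m : H → H := fun h => h⁻¹ * tiConj H x h with hm
  have hinj : Function.Injective m := by
    intro h k hhk
    have h1 : ((h : G))⁻¹ * ((x : G)⁻¹ * h * x) = ((k : G))⁻¹ * ((x : G)⁻¹ * k * x) := by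
      have := congrArg (Subtype.val : H → G) hhk
      simpa [hm, tiConj_coe] using this
    by_contra hne
    have hkh : (k : G) * (h : G)⁻¹ ≠ 1 := by
      intro h2
      apply hne
      apply Subtype.ext
      have : (k : G) = h := by
        calc (k : G) = (k : G) * (h : G)⁻¹ * h := by group
          _ = h := by rw [h2, one_mul]
      exact this.symm
    have hmemH : (k : G) * (h : G)⁻¹ ∈ H := H.mul_mem k.2 (H.inv_mem h.2)
    have hcomm : (k : G) * (h : G)⁻¹ * (x : G) = (x : G) * ((k : G) * (h : G)⁻¹) := by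
      have e2 : (h : G)⁻¹ * (x : G)⁻¹ * h = (k : G)⁻¹ * (x : G)⁻¹ * k := by
        calc (h : G)⁻¹ * (x : G)⁻¹ * h
            = ((h : G)⁻¹ * ((x : G)⁻¹ * h * x)) * (x : G)⁻¹ := by group
          _ = ((k : G)⁻¹ * ((x : G)⁻¹ * k * x)) * (x : G)⁻¹ := by rw [h1]
          _ = (k : G)⁻¹ * (x : G)⁻¹ * k := by group
      have e3 : (x : G) = (k : G) * (h : G)⁻¹ * x * h * (k : G)⁻¹ := by
        have e5 : (x : G)⁻¹ = (k : G) * ((h : G)⁻¹ * (x : G)⁻¹ * h) * (k : G)⁻¹ := by
          rw [e2]; group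
        calc (x : G) = ((x : G)⁻¹)⁻¹ := by group
          _ = ((k : G) * ((h : G)⁻¹ * (x : G)⁻¹ * h) * (k : G)⁻¹)⁻¹ := by rw [← e5]
          _ = (k : G) * (h : G)⁻¹ * x * h * (k : G)⁻¹ := by group
      have e4 : (x : G) * ((k : G) * (h : G)⁻¹)
          = ((k : G) * (h : G)⁻¹ * x * h * (k : G)⁻¹) * ((k : G) * (h : G)⁻¹) := by
        rw [← e3]
      rw [e4]; group
    have hxc : (x : G) ∈ Subgroup.normalizer (H : Set G) ⊓
        Subgroup.centralizer ({(k : G) * (h : G)⁻¹} : Set G) := by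
      refine ⟨x.2, ?_⟩
      show (x : G) ∈ Subgroup.centralizer ({(k : G) * (h : G)⁻¹} : Set G)
      rw [Subgroup.mem_centralizer_iff]
      intro z hz
      rw [Set.mem_singleton_iff] at hz
      rw [hz]
      exact hcomm
    exact hxH (hfrob _ hmemH hkh hxc)
  have hsurj : Function.Surjective m := Finite.injective_iff_surjective.mp hinj
  ext k
  obtain ⟨h, rfl⟩ := hsurj k
  have h2 : f (tiConj H x h) = f h := by
    have := congrArg (fun φ : H →* ℂˣ => φ h) hx
    simpa using this
  rw [hm]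
  simp only [map_mul, map_inv, h2, inv_mul_cancel, MonoidHom.one_apply]

/-- Values of a function induced from a TI-subgroup on its non-identity elements. -/
theorem indFun_TI_sub [Fintype G] (H : Subgroup G)
    [Fintype (Subgroup.normalizer (H : Set G))]
    (hTI : Cfsg.IsTISubset (H : Set G)) (ψ : H → ℂ) (h : H) (hh : h ≠ 1) :
    Cfsg.indFun H ψ (h : G)
      = (Nat.card H : ℂ)⁻¹ * ∑ x : Subgroup.normalizer (H : Set G), ψ (tiConj H x h) := by
  unfold Cfsg.indFun
  congr 1
  rw [← sum_extendByZero (Subgroup.normalizer (H : Set G))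
    (fun x : Subgroup.normalizer (H : Set G) => ψ (tiConj H x h))]
  refine Finset.sum_congr rfl ?_
  intro x _
  by_cases hx : x ∈ Subgroup.normalizer (H : Set G)
  · rw [extendByZero_of_mem _ _ hx]
    have : x⁻¹ * (h : G) * x = ((tiConj H ⟨x, hx⟩ h : H) : G) := rfl
    rw [this, extendByZero_coe]
  · rw [extendByZero_of_not_mem _ _ hx]
    apply extendByZero_of_not_mem
    intro hmem
    have hx' : x⁻¹ ∉ Subgroup.normalizer (H : Set G) := fun h' =>
      hx (by simpa using Subgroup.inv_mem _ h')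
    have h1 : (h : G) = 1 := hTI x⁻¹ hx' (h : G) h.2 (by simpa using hmem)
    exact hh (Subtype.ext h1)

/-- Inner products of functions induced from a TI-subgroup. -/
theorem classInner_indFun_TI_sub [Fintype G] (H : Subgroup G) [Fintype H]
    [Fintype (Subgroup.normalizer (H : Set G))]
    (hTI : Cfsg.IsTISubset (H : Set G)) (φ ψ : H → ℂ) (hφ1 : φ 1 = 0) :
    Cfsg.classInner (Cfsg.indFun H φ) (Cfsg.indFun H ψ)
      = (Nat.card H : ℂ)⁻¹ * ∑ x : Subgroup.normalizer (H : Set G),
          Cfsg.classInner φ (fun h => ψ (tiConj H x h)) := by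
  rw [frobenius_reciprocity H φ _ (indFun_isClassFunction H ψ)]
  unfold Cfsg.classInner
  rw [← Finset.mul_sum, Finset.sum_comm]
  congr 1
  rw [Finset.mul_sum]
  refine Finset.sum_congr rfl ?_
  intro h _
  by_cases hh : h = 1
  · subst hh
    simp [hφ1]
  · beta_reduce
    rw [indFun_TI_sub H hTI ψ h hh, map_mul, map_sum, map_inv₀, Complex.conj_natCast,
      Finset.mul_sum, Finset.mul_sum, Finset.mul_sum]
    refine Finset.sum_congr rfl fun x _ => ?_
    ring

/-- Induction from `H` does not see conjugation by elements of the normalizer. -/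
theorem indFun_tiConj [Fintype G] (H : Subgroup G) (x : Subgroup.normalizer (H : Set G))
    (ψ : H → ℂ) : Cfsg.indFun H (fun h => ψ (tiConj H x h)) = Cfsg.indFun H ψ := by
  funext g
  unfold Cfsg.indFun
  congr 1
  have key : ∀ z : G, Cfsg.extendByZero H (fun h => ψ (tiConj H x h)) z
      = Cfsg.extendByZero H ψ ((x : G)⁻¹ * z * x) := by
    intro z
    by_cases hz : z ∈ H
    · have h1 : (x : G)⁻¹ * z * x = ((tiConj H x ⟨z, hz⟩ : H) : G) := rfl
      rw [h1, extendByZero_coe, extendByZero_of_mem _ _ hz]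
    · rw [extendByZero_of_not_mem _ _ hz]
      symm
      apply extendByZero_of_not_mem
      intro hmem
      apply hz
      have h1 := Subgroup.mem_normalizer_iff.mp x.2 ((x : G)⁻¹ * z * x)
      have h2 : (x : G) * ((x : G)⁻¹ * z * x) * (x : G)⁻¹ = z := by group
      rw [h2] at h1
      exact h1.mp hmem
  simp only [key]
  refine Fintype.sum_bijective (fun y : G => y * (x : G)) (Group.mulRight_bijective _) _ _ ?_
  intro y
  congr 1
  group

/-- Complex conjugation commutes with induction. -/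
theorem conj_indFun [Fintype G] (H : Subgroup G) (ψ : H → ℂ) (g : G) :
    conj (Cfsg.indFun H ψ g) = Cfsg.indFun H (fun h => conj (ψ h)) g := by
  unfold Cfsg.indFun
  rw [map_mul, map_sum, map_inv₀, Complex.conj_natCast]
  congr 1
  refine Finset.sum_congr rfl ?_
  intro x _
  by_cases hx : x⁻¹ * g * x ∈ H
  · rw [extendByZero_of_mem _ _ hx, extendByZero_of_mem _ _ hx]
  · rw [extendByZero_of_not_mem _ _ hx, extendByZero_of_not_mem _ _ hx, map_zero]

/-- A function induced from `H` vanishes off the conjugates of `H`. -/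
theorem indFun_eq_zero_of_not_conj [Fintype G] (H : Subgroup G) (ψ : H → ℂ) (g : G)
    (hg : ∀ y : G, y * g * y⁻¹ ∉ H) : Cfsg.indFun H ψ g = 0 := by
  unfold Cfsg.indFun
  have : ∀ x : G, Cfsg.extendByZero H ψ (x⁻¹ * g * x) = 0 := by
    intro x
    apply extendByZero_of_not_mem
    have := hg x⁻¹
    simpa using this
  simp only [this, Finset.sum_const_zero, mul_zero]

/-- Inner product of `1 - f₁` and `1 - f₂` for non-trivial linear characters. -/
theorem classInner_one_sub_hom {H : Type*} [Group H] [Fintype H] (f₁ f₂ : H →* ℂˣ)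
    (h1 : f₁ ≠ 1) (h2 : f₂ ≠ 1) :
    Cfsg.classInner (fun h => 1 - ((f₁ h : ℂˣ) : ℂ)) (fun h => 1 - ((f₂ h : ℂˣ) : ℂ))
      = 1 + if f₁ = f₂ then 1 else 0 := by
  have hH : (Nat.card H : ℂ) ≠ 0 := by exact_mod_cast Nat.card_pos.ne'
  have o11 := Cfsg.Agent.Helper80.hom_orthogonality (1 : H →* ℂˣ) (1 : H →* ℂˣ)
  have o12 := Cfsg.Agent.Helper80.hom_orthogonality (1 : H →* ℂˣ) f₂
  have o21 := Cfsg.Agent.Helper80.hom_orthogonality f₁ (1 : H →* ℂˣ)
  have o22 := Cfsg.Agent.Helper80.hom_orthogonality f₁ f₂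
  rw [if_pos rfl] at o11
  rw [if_neg (Ne.symm h2)] at o12
  rw [if_neg h1] at o21
  simp only [MonoidHom.one_apply, Units.val_one, one_mul, map_one, mul_one] at o11 o12 o21
  unfold Cfsg.classInner
  have e : ∀ h : H, (1 - ((f₁ h : ℂˣ) : ℂ)) * conj (1 - ((f₂ h : ℂˣ) : ℂ))
      = 1 - conj ((f₂ h : ℂˣ) : ℂ) - ((f₁ h : ℂˣ) : ℂ)
        + ((f₁ h : ℂˣ) : ℂ) * conj ((f₂ h : ℂˣ) : ℂ) := by
    intro h
    rw [map_sub, map_one]
    ring
  simp only [e]
  rw [Finset.sum_add_distrib, Finset.sum_sub_distrib, Finset.sum_sub_distrib, o12, o21, o22]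
  rw [Finset.sum_const, Finset.card_univ, nsmul_eq_mul, mul_one, ← Nat.card_eq_fintype_card]
  split_ifs
  · field_simp
    ring
  · field_simp
    ring

end Cfsg.Agent.Helper3
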