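import Mathlib
import Cfsg.Agent.Helper13.TIDefs
import Cfsg.Agent.Helper3.TIMULTFREECore

set_option autoImplicit false

/-!
# CALL S5955, piece MULTFREE (helper3)

`ti_multfree` verbatim; the three auxiliary facts (CRT idempotent polynomial, the action of a
polynomial in the block map, subspaces of `K = F(ω)` stable under `ω`) are proved here under the
names `ti_mf_proj`, `ti_mf_aevalm`, `ti_mf_fgen`.
-/

namespace Cfsg.Agent.Helper3.TI5955

open Module Polynomial
open Cfsg.Agent.Helper42.SpForm Cfsg.Agent.Helper42.SpGroup Cfsg.Agent.Helper42.SpModels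
open Cfsg.Agent.Helper13.TIsp Cfsg.Agent.Helper90.BG

section poly

variable {F : Type*} [Field F] {K : Type*} [Field K] [Algebra F K] [FiniteDimensional F K]

theorem ti_mf_fgen (ω : K) (hdeg : (minpoly F ω).natDegree = finrank F K) (A : Submodule F K)
    (hA : ∀ a ∈ A, ω * a ∈ A) : A = ⊥ ∨ A = ⊤ := by
  by_cases hbot : A = ⊥
  · exact Or.inl hbot
  right
  obtain ⟨a, haA, ha0⟩ := (Submodule.ne_bot_iff A).mp hbot
  have hint : IsIntegral F ω := Algebra.IsIntegral.isIntegral ω
  have htop : Algebra.adjoin F {ω} = ⊤ := by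
    apply Subalgebra.eq_of_le_of_finrank_eq le_top
    rw [subalgebra_top_finrank_eq_submodule_top_finrank, finrank_top, ← hdeg]
    exact (Algebra.adjoin.powerBasis hint).finrank
  have hP : ∀ (P : F[X]) (b : K), b ∈ A → aeval ω P * b ∈ A := by
    intro P b hb
    induction P using Polynomial.induction_on' with
    | add p q hp hq => rw [map_add, add_mul]; exact A.add_mem hp hq
    | monomial n c =>
      rw [aeval_monomial, mul_assoc, ← Algebra.smul_def]
      apply A.smul_mem
      induction n with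
      | zero => simpa using hb
      | succ k ih => rw [pow_succ', mul_assoc]; exact hA _ ih
  have hmul : ∀ x : K, ∀ b ∈ A, x * b ∈ A := by
    intro x b hb
    have hx : x ∈ Algebra.adjoin F {ω} := by rw [htop]; trivial
    rw [Algebra.adjoin_singleton_eq_range_aeval] at hx
    obtain ⟨P, rfl⟩ := hx
    exact hP P b hb
  rw [eq_top_iff]
  intro y _
  have := hmul (y * a⁻¹) a haA
  rwa [mul_assoc, inv_mul_cancel₀ ha0, mul_one] at this

theorem ti_mf_proj {u : ℕ} (ω : Fin u → K) (h1 : ∀ j, ω j ≠ 1)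
    (hne : ∀ j l, j ≠ l → minpoly F (ω j) ≠ minpoly F (ω l)) (j : Fin u) :
    ∃ g : F[X], aeval (ω j) g = 1 ∧ (∀ l, l ≠ j → aeval (ω l) g = 0) ∧ g.eval 1 = 0 := by
  classical
  have hint : ∀ l, IsIntegral F (ω l) := fun l => Algebra.IsIntegral.isIntegral (ω l)
  obtain ⟨Q, hQ⟩ : ∃ Q : F[X], Q = (X - C 1) * ∏ l ∈ Finset.univ.erase j, minpoly F (ω l) :=
    ⟨_, rfl⟩
  have hQj : aeval (ω j) Q ≠ 0 := by
    rw [hQ, map_mul, map_prod]
    apply mul_ne_zero
    · simp [sub_ne_zero, h1 j]
    · rw [Finset.prod_ne_zero_iff]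
      intro l hl
      have hlj : l ≠ j := Finset.ne_of_mem_erase hl
      intro h0
      have hdvd : minpoly F (ω j) ∣ minpoly F (ω l) := minpoly.dvd F (ω j) h0
      have := eq_of_monic_of_associated (minpoly.monic (hint j)) (minpoly.monic (hint l))
        ((minpoly.irreducible (hint j)).associated_of_dvd (minpoly.irreducible (hint l)) hdvd)
      exact hne j l (Ne.symm hlj) this
  have hcop : IsCoprime (minpoly F (ω j)) Q := by
    rw [(minpoly.irreducible (hint j)).coprime_iff_not_dvd]
    rintro ⟨c, hc⟩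
    apply hQj
    rw [hc, map_mul, minpoly.aeval, zero_mul]
  obtain ⟨a, b, hab⟩ := hcop
  refine ⟨b * Q, ?_, ?_, ?_⟩
  · have := congrArg (aeval (ω j)) hab
    rw [map_add, map_mul, minpoly.aeval, mul_zero, zero_add, map_one] at this
    exact this
  · intro l hl
    rw [map_mul, hQ, map_mul, map_prod,
      Finset.prod_eq_zero (Finset.mem_erase.mpr ⟨hl, Finset.mem_univ l⟩) (minpoly.aeval F (ω l)),
      mul_zero, mul_zero]
  · rw [eval_mul, hQ, eval_mul]; simp

theorem ti_mf_aevalm {S : Type*} [AddCommGroup S] [Module F S] {u : ℕ} (ω : Fin u → K) (g : F[X])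
    (w : (Fin u → K) × S) :
    aeval ((piMap (fun j => LinearMap.mulLeft F (ω j))).prodMap (1 : Module.End F S)) g w =
      (fun l => aeval (ω l) g * w.1 l, g.eval 1 • w.2) := by
  have hpow : ∀ (n : ℕ) (w : (Fin u → K) × S),
      (((piMap (fun j => LinearMap.mulLeft F (ω j))).prodMap (1 : Module.End F S)) ^ n) w =
        (fun l => ω l ^ n * w.1 l, w.2) := by
    intro n
    induction n with
    | zero => intro w; simp
    | succ k ih =>
      intro w
      rw [pow_succ, Module.End.mul_apply, ih]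
      refine Prod.ext ?_ ?_
      · funext l
        show ω l ^ k * (ω l * w.1 l) = ω l ^ (k + 1) * w.1 l
        ring
      · rfl
  induction g using Polynomial.induction_on' with
  | add p q hp hq =>
    rw [map_add, LinearMap.add_apply, hp, hq]
    refine Prod.ext ?_ ?_
    · funext l
      show aeval (ω l) p * w.1 l + aeval (ω l) q * w.1 l = aeval (ω l) (p + q) * w.1 l
      rw [map_add, add_mul]
    · show p.eval 1 • w.2 + q.eval 1 • w.2 = (p + q).eval 1 • w.2
      rw [eval_add, add_smul]
  | monomial n a =>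
    rw [aeval_monomial, Module.End.mul_apply, Module.algebraMap_end_apply, hpow]
    refine Prod.ext ?_ ?_
    · funext l
      show a • (ω l ^ n * w.1 l) = aeval (ω l) (monomial n a) * w.1 l
      rw [aeval_monomial, Algebra.smul_def, mul_assoc]
    · show a • w.2 = (monomial n a).eval 1 • w.2
      rw [eval_monomial, one_pow, mul_one]

end poly

section models

variable {F : Type*} [Field F]

/-- MULTFREE (uses PROJ, AEVALM, FGEN, aeval_mem) -/
theorem ti_multfree {K : Type*} [Field K] [Algebra F K] [FiniteDimensional F K] {S : Type*}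
    [AddCommGroup S] [Module F S] {u : ℕ} (B₁ : LinearMap.BilinForm F K)
    (B₂ : LinearMap.BilinForm F S) (hnd₁ : ∀ v, (∀ w, B₁ v w = 0) → v = 0) (ω : Fin u → K)
    (h1 : ∀ j, ω j ≠ 1) (hdeg : ∀ j, (minpoly F (ω j)).natDegree = finrank F K)
    (hne : ∀ j l, j ≠ l → minpoly F (ω j) ≠ minpoly F (ω l))
    (W : Submodule F ((Fin u → K) × S)) (hTI : TI (sumForm (piForm (Fin u) B₁) B₂) W)
    (hW : W.map ((piMap (fun j => LinearMap.mulLeft F (ω j))).prodMap (1 : Module.End F S)) ≤ W) :
    ∀ w ∈ W, w.1 = 0 :=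
  ti_multfree_core B₁ B₂ hnd₁ ω (fun j => ti_mf_proj ω h1 hne j) (fun g w => ti_mf_aevalm ω g w)
    (fun j A hA => ti_mf_fgen (ω j) (hdeg j) A hA) W hTI hW

end models

end Cfsg.Agent.Helper3.TI5955
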