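import Mathlib
import Cfsg.Prelude.Def_GeometricClasses
import Cfsg.Prelude.Def_Classical

set_option autoImplicit false

/-!
# Elements of `Ω` squaring to `-1` (helper3; for CALL TS, stages R2BPB / R2BM)

* `tsr_pr`, `tsr_sg`: the matching `2k ↔ 2k+1` of `Fin d` (`d` even) and the sign `(-1)^i`;
* `tsr_gA`, `tsr_gA'`, `tsr_gB`: isometries of `quadFormPlus d F` (images of `[[1,1],[-1,1]]` and
  `diag(1,-1)` of the Levi subgroup `GL_d`), whose commutator squares to `-1`;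
* `tsr_omega_of_comm`: a commutator of two transported isometries lies in `omegaGL Q`;
* `tsr_even_of_sq`: if `x * x = -1` and `-1` is not a square, invariant subspaces have even
  dimension and `x` is not scalar.
-/

namespace Cfsg.Agent.Helper3.TSR2

open Module

section matching

/-- the matching `2k ↔ 2k+1` on `Fin d`, `d` even -/
def tsr_pr (d : ℕ) (hd : Even d) (i : Fin d) : Fin d :=
  ⟨if i.val % 2 = 0 then i.val + 1 else i.val - 1, by
    obtain ⟨n, hn⟩ := hd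
    have := i.isLt
    split_ifs <;> omega⟩

theorem tsr_pr_pr (d : ℕ) (hd : Even d) (i : Fin d) : tsr_pr d hd (tsr_pr d hd i) = i := by
  apply Fin.ext
  simp only [tsr_pr]
  split_ifs <;> omega

/-- the matching as an equivalence -/
def tsr_prE (d : ℕ) (hd : Even d) : Fin d ≃ Fin d :=
  ⟨tsr_pr d hd, tsr_pr d hd, tsr_pr_pr d hd, tsr_pr_pr d hd⟩

variable (F : Type*) [Field F]

/-- the sign `(-1)^i` -/
def tsr_sg (d : ℕ) (i : Fin d) : F := if i.val % 2 = 0 then 1 else -1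

theorem tsr_sg_pr (d : ℕ) (hd : Even d) (i : Fin d) :
    tsr_sg F d (tsr_pr d hd i) = - tsr_sg F d i := by
  simp only [tsr_sg, tsr_pr]
  split_ifs <;> first | omega | simp

theorem tsr_sg_cases (d : ℕ) (i : Fin d) : tsr_sg F d i = 1 ∨ tsr_sg F d i = -1 := by
  simp only [tsr_sg]
  split_ifs
  · exact Or.inl rfl
  · exact Or.inr rfl

theorem tsr_sg_mul_self (d : ℕ) (i : Fin d) : tsr_sg F d i * tsr_sg F d i = 1 := by
  rcases tsr_sg_cases F d i with h | h <;> rw [h] <;> ring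

end matching

section levi

variable {F : Type*} [Field F]

/-- image of `[[1,1],[-1,1]]` -/
def tsr_gA (d : ℕ) (hd : Even d) : (Fin d ⊕ Fin d → F) →ₗ[F] (Fin d ⊕ Fin d → F) where
  toFun z := Sum.elim (fun i => z (.inl i) + tsr_sg F d i * z (.inl (tsr_pr d hd i)))
    (fun i => (z (.inr i) + tsr_sg F d i * z (.inr (tsr_pr d hd i))) / 2)
  map_add' x y := by
    funext j
    rcases j with i | i <;> simp <;> ring
  map_smul' c x := by
    funext j
    rcases j with i | i <;> simp <;> ring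

/-- inverse of `tsr_gA` -/
def tsr_gA' (d : ℕ) (hd : Even d) : (Fin d ⊕ Fin d → F) →ₗ[F] (Fin d ⊕ Fin d → F) where
  toFun z := Sum.elim (fun i => (z (.inl i) - tsr_sg F d i * z (.inl (tsr_pr d hd i))) / 2)
    (fun i => z (.inr i) - tsr_sg F d i * z (.inr (tsr_pr d hd i)))
  map_add' x y := by
    funext j
    rcases j with i | i <;> simp <;> ring
  map_smul' c x := by
    funext j
    rcases j with i | i <;> simp <;> ring

/-- image of `diag(1,-1)` -/
def tsr_gB (d : ℕ) : (Fin d ⊕ Fin d → F) →ₗ[F] (Fin d ⊕ Fin d → F) where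
  toFun z := Sum.elim (fun i => tsr_sg F d i * z (.inl i)) (fun i => tsr_sg F d i * z (.inr i))
  map_add' x y := by
    funext j
    rcases j with i | i <;> simp <;> ring
  map_smul' c x := by
    funext j
    rcases j with i | i <;> simp <;> ring

theorem tsr_gA_inl (d : ℕ) (hd : Even d) (z : Fin d ⊕ Fin d → F) (i : Fin d) :
    tsr_gA d hd z (.inl i) = z (.inl i) + tsr_sg F d i * z (.inl (tsr_pr d hd i)) := rfl

theorem tsr_gA_inr (d : ℕ) (hd : Even d) (z : Fin d ⊕ Fin d → F) (i : Fin d) :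
    tsr_gA d hd z (.inr i) = (z (.inr i) + tsr_sg F d i * z (.inr (tsr_pr d hd i))) / 2 := rfl

theorem tsr_gA'_inl (d : ℕ) (hd : Even d) (z : Fin d ⊕ Fin d → F) (i : Fin d) :
    tsr_gA' d hd z (.inl i) = (z (.inl i) - tsr_sg F d i * z (.inl (tsr_pr d hd i))) / 2 := rfl

theorem tsr_gA'_inr (d : ℕ) (hd : Even d) (z : Fin d ⊕ Fin d → F) (i : Fin d) :
    tsr_gA' d hd z (.inr i) = z (.inr i) - tsr_sg F d i * z (.inr (tsr_pr d hd i)) := rfl

theorem tsr_gB_inl (d : ℕ) (z : Fin d ⊕ Fin d → F) (i : Fin d) :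
    tsr_gB d z (.inl i) = tsr_sg F d i * z (.inl i) := rfl

theorem tsr_gB_inr (d : ℕ) (z : Fin d ⊕ Fin d → F) (i : Fin d) :
    tsr_gB d z (.inr i) = tsr_sg F d i * z (.inr i) := rfl

theorem tsr_gB_gB (d : ℕ) : (tsr_gB d : _ →ₗ[F] _) ∘ₗ tsr_gB d = LinearMap.id := by
  apply LinearMap.ext
  intro z
  funext j
  rcases j with i | i
  · simp only [LinearMap.comp_apply, tsr_gB_inl, LinearMap.id_apply]
    rw [← mul_assoc, tsr_sg_mul_self, one_mul]
  · simp only [LinearMap.comp_apply, tsr_gB_inr, LinearMap.id_apply]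
    rw [← mul_assoc, tsr_sg_mul_self, one_mul]

theorem tsr_gA_gA' (h2 : (2 : F) ≠ 0) (d : ℕ) (hd : Even d) :
    (tsr_gA d hd : _ →ₗ[F] _) ∘ₗ tsr_gA' d hd = LinearMap.id := by
  apply LinearMap.ext
  intro z
  funext j
  rcases j with i | i
  · simp only [LinearMap.comp_apply, tsr_gA_inl, tsr_gA'_inl, LinearMap.id_apply, tsr_pr_pr,
      tsr_sg_pr]
    rcases tsr_sg_cases F d i with h | h <;> rw [h] <;> field_simp <;> ring
  · simp only [LinearMap.comp_apply, tsr_gA_inr, tsr_gA'_inr, LinearMap.id_apply, tsr_pr_pr,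
      tsr_sg_pr]
    rcases tsr_sg_cases F d i with h | h <;> rw [h] <;> field_simp <;> ring

theorem tsr_gA'_gA (h2 : (2 : F) ≠ 0) (d : ℕ) (hd : Even d) :
    (tsr_gA' d hd : _ →ₗ[F] _) ∘ₗ tsr_gA d hd = LinearMap.id := by
  apply LinearMap.ext
  intro z
  funext j
  rcases j with i | i
  · simp only [LinearMap.comp_apply, tsr_gA_inl, tsr_gA'_inl, LinearMap.id_apply, tsr_pr_pr,
      tsr_sg_pr]
    rcases tsr_sg_cases F d i with h | h <;> rw [h] <;> field_simp <;> ring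
  · simp only [LinearMap.comp_apply, tsr_gA_inr, tsr_gA'_inr, LinearMap.id_apply, tsr_pr_pr,
      tsr_sg_pr]
    rcases tsr_sg_cases F d i with h | h <;> rw [h] <;> field_simp <;> ring

/-- the commutator acts as `[[0,1],[-1,0]]` on both halves, so its square is `-1`. -/
theorem tsr_comm_sq (h2 : (2 : F) ≠ 0) (d : ℕ) (hd : Even d) :
    ((tsr_gA d hd : _ →ₗ[F] _) ∘ₗ tsr_gB d ∘ₗ tsr_gA' d hd ∘ₗ tsr_gB d) ∘ₗ
      ((tsr_gA d hd : _ →ₗ[F] _) ∘ₗ tsr_gB d ∘ₗ tsr_gA' d hd ∘ₗ tsr_gB d) = -LinearMap.id := by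
  have key : ∀ z : Fin d ⊕ Fin d → F,
      ((tsr_gA d hd : _ →ₗ[F] _) ∘ₗ tsr_gB d ∘ₗ tsr_gA' d hd ∘ₗ tsr_gB d) z =
        Sum.elim (fun i => tsr_sg F d i * z (.inl (tsr_pr d hd i)))
          (fun i => tsr_sg F d i * z (.inr (tsr_pr d hd i))) := by
    intro z
    funext j
    rcases j with i | i
    · simp only [LinearMap.comp_apply, tsr_gA_inl, tsr_gA'_inl, tsr_gB_inl, tsr_pr_pr,
        tsr_sg_pr, Sum.elim_inl]
      rcases tsr_sg_cases F d i with h | h <;> rw [h] <;> field_simp <;> ring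
    · simp only [LinearMap.comp_apply, tsr_gA_inr, tsr_gA'_inr, tsr_gB_inr, tsr_pr_pr,
        tsr_sg_pr, Sum.elim_inr]
      rcases tsr_sg_cases F d i with h | h <;> rw [h] <;> field_simp <;> ring
  apply LinearMap.ext
  intro z
  rw [LinearMap.comp_apply, key, key]
  funext j
  rcases j with i | i
  · simp only [Sum.elim_inl, tsr_pr_pr, tsr_sg_pr, LinearMap.neg_apply, LinearMap.id_apply,
      Pi.neg_apply]
    rcases tsr_sg_cases F d i with h | h <;> rw [h] <;> ring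
  · simp only [Sum.elim_inr, tsr_pr_pr, tsr_sg_pr, LinearMap.neg_apply, LinearMap.id_apply,
      Pi.neg_apply]
    rcases tsr_sg_cases F d i with h | h <;> rw [h] <;> ring

theorem tsr_gB_isom (d : ℕ) (z : Fin d ⊕ Fin d → F) :
    Cfsg.quadFormPlus d F (tsr_gB d z) = Cfsg.quadFormPlus d F z := by
  unfold Cfsg.quadFormPlus
  apply Finset.sum_congr rfl
  intro i _
  rw [tsr_gB_inl, tsr_gB_inr]
  have := tsr_sg_mul_self F d i
  linear_combination (z (.inl i) * z (.inr i)) * this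

theorem tsr_gA_isom (h2 : (2 : F) ≠ 0) (d : ℕ) (hd : Even d) (z : Fin d ⊕ Fin d → F) :
    Cfsg.quadFormPlus d F (tsr_gA d hd z) = Cfsg.quadFormPlus d F z := by
  unfold Cfsg.quadFormPlus
  have key : ∀ i : Fin d, tsr_gA d hd z (.inl i) * tsr_gA d hd z (.inr i) =
      (z (.inl i) * z (.inr i) + z (.inl (tsr_pr d hd i)) * z (.inr (tsr_pr d hd i))) / 2 +
        (tsr_sg F d i * z (.inl i) * z (.inr (tsr_pr d hd i)) +
          tsr_sg F d i * z (.inl (tsr_pr d hd i)) * z (.inr i)) / 2 := by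
    intro i
    rw [tsr_gA_inl, tsr_gA_inr]
    rcases tsr_sg_cases F d i with h | h <;> rw [h] <;> field_simp <;> ring
  rw [Finset.sum_congr rfl (fun i _ => key i), Finset.sum_add_distrib, ← Finset.sum_div,
    ← Finset.sum_div, Finset.sum_add_distrib, Finset.sum_add_distrib]
  have h1 : ∑ i : Fin d, z (.inl (tsr_pr d hd i)) * z (.inr (tsr_pr d hd i)) =
      ∑ i : Fin d, z (.inl i) * z (.inr i) :=
    Equiv.sum_comp (tsr_prE d hd) (fun i => z (.inl i) * z (.inr i))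
  have h3 : ∑ i : Fin d, tsr_sg F d i * z (.inl (tsr_pr d hd i)) * z (.inr i) =
      - ∑ i : Fin d, tsr_sg F d i * z (.inl i) * z (.inr (tsr_pr d hd i)) := by
    rw [← Equiv.sum_comp (tsr_prE d hd)
      (fun i => tsr_sg F d i * z (.inl (tsr_pr d hd i)) * z (.inr i)), ← Finset.sum_neg_distrib]
    apply Finset.sum_congr rfl
    intro i _
    show tsr_sg F d (tsr_pr d hd i) * z (.inl (tsr_pr d hd (tsr_pr d hd i))) *
      z (.inr (tsr_pr d hd i)) = _
    rw [tsr_pr_pr, tsr_sg_pr]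
    ring
  rw [h1, h3]
  field_simp
  ring

end levi

section transport

variable {F : Type*} [Field F] {ι : Type} [Fintype ι] [DecidableEq ι]
  {Z : Type*} [AddCommGroup Z] [Module F Z]

/-- the matrix of the transported endomorphism `Ψ g Ψ⁻¹` -/
noncomputable def tsr_mat (Ψ : Z ≃ₗ[F] (ι → F)) (g : Z →ₗ[F] Z) : Matrix ι ι F :=
  LinearMap.toMatrix' (Ψ.toLinearMap ∘ₗ g ∘ₗ Ψ.symm.toLinearMap)

theorem tsr_mat_comp (Ψ : Z ≃ₗ[F] (ι → F)) (g h : Z →ₗ[F] Z) :
    tsr_mat Ψ (g ∘ₗ h) = tsr_mat Ψ g * tsr_mat Ψ h := by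
  unfold tsr_mat
  rw [← LinearMap.toMatrix'_comp]
  congr 1
  apply LinearMap.ext
  intro v
  simp

theorem tsr_mat_id (Ψ : Z ≃ₗ[F] (ι → F)) : tsr_mat Ψ LinearMap.id = 1 := by
  unfold tsr_mat
  rw [← LinearMap.toMatrix'_id]
  congr 1
  apply LinearMap.ext
  intro v
  simp

theorem tsr_mat_neg (Ψ : Z ≃ₗ[F] (ι → F)) (g : Z →ₗ[F] Z) :
    tsr_mat Ψ (-g) = -tsr_mat Ψ g := by
  unfold tsr_mat
  rw [← map_neg]
  congr 1
  apply LinearMap.ext
  intro v
  simp

theorem tsr_mat_mulVec (Ψ : Z ≃ₗ[F] (ι → F)) (g : Z →ₗ[F] Z) (v : ι → F) :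
    (tsr_mat Ψ g).mulVec v = Ψ (g (Ψ.symm v)) := by
  unfold tsr_mat
  rw [LinearMap.toMatrix'_mulVec]
  rfl

/-- a commutator of two transported isometries lies in `Ω`. -/
theorem tsr_omega_of_comm (Q : (ι → F) → F) (Q₀ : Z → F) (Ψ : Z ≃ₗ[F] (ι → F))
    (hΨ : ∀ z, Q (Ψ z) = Q₀ z) (gA gA' gB gB' : Z →ₗ[F] Z)
    (hA : ∀ z, Q₀ (gA z) = Q₀ z) (hB : ∀ z, Q₀ (gB z) = Q₀ z)
    (hAA' : gA ∘ₗ gA' = LinearMap.id) (hA'A : gA' ∘ₗ gA = LinearMap.id)
    (hBB' : gB ∘ₗ gB' = LinearMap.id) (hB'B : gB' ∘ₗ gB = LinearMap.id) :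
    ∃ x : Matrix.GeneralLinearGroup ι F, x ∈ Cfsg.Geo.omegaGL Q ∧
      (x : Matrix ι ι F) = tsr_mat Ψ (gA ∘ₗ gB ∘ₗ gA' ∘ₗ gB') := by
  let XA : Matrix.GeneralLinearGroup ι F := ⟨tsr_mat Ψ gA, tsr_mat Ψ gA', by
    rw [← tsr_mat_comp, hAA', tsr_mat_id], by rw [← tsr_mat_comp, hA'A, tsr_mat_id]⟩
  let XB : Matrix.GeneralLinearGroup ι F := ⟨tsr_mat Ψ gB, tsr_mat Ψ gB', by
    rw [← tsr_mat_comp, hBB', tsr_mat_id], by rw [← tsr_mat_comp, hB'B, tsr_mat_id]⟩
  have hXA : XA ∈ Cfsg.isometryGroup F Q := by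
    intro u v
    show Q ((tsr_mat Ψ gA).mulVec u) = Q u
    rw [tsr_mat_mulVec, hΨ, hA, ← hΨ, LinearEquiv.apply_symm_apply]
  have hXB : XB ∈ Cfsg.isometryGroup F Q := by
    intro u v
    show Q ((tsr_mat Ψ gB).mulVec u) = Q u
    rw [tsr_mat_mulVec, hΨ, hB, ← hΨ, LinearEquiv.apply_symm_apply]
  refine ⟨XA * XB * XA⁻¹ * XB⁻¹, ?_, ?_⟩
  · have hmem : ∀ a b : ↥(Cfsg.isometryGroup F Q),
        a * b * a⁻¹ * b⁻¹ ∈ Cfsg.Omega F Q := by
      intro a b
      have h := Subgroup.commutator_mem_commutator (Subgroup.mem_top a) (Subgroup.mem_top b)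
      rw [commutatorElement_def] at h
      exact h
    exact Subgroup.mem_map.mpr ⟨_, hmem ⟨XA, hXA⟩ ⟨XB, hXB⟩, rfl⟩
  · show tsr_mat Ψ gA * tsr_mat Ψ gB * tsr_mat Ψ gA' * tsr_mat Ψ gB' = _
    rw [tsr_mat_comp, tsr_mat_comp, tsr_mat_comp]
    simp only [mul_assoc]

end transport

section even

variable {F : Type*} [Field F] {ι : Type} [Fintype ι] [DecidableEq ι]

/-- if `x * x = -1` and `-1` is not a square, every invariant subspace has even dimension. -/
theorem tsr_even_of_sq (x : Matrix ι ι F) (hx : x * x = (-1 : F) • (1 : Matrix ι ι F))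
    (hm1 : ¬ IsSquare (-1 : F)) (W : Submodule F (ι → F))
    (hW : W.map (Matrix.toLin' x) ≤ W) : Even (finrank F ↥W) := by
  have hW' : ∀ w ∈ W, Matrix.toLin' x w ∈ W := fun w hw => hW (Submodule.mem_map_of_mem hw)
  set f : ↥W →ₗ[F] ↥W := (Matrix.toLin' x).restrict hW' with hf
  have hff : f ∘ₗ f = (-1 : F) • LinearMap.id := by
    apply LinearMap.ext
    intro w
    apply Subtype.ext
    show Matrix.toLin' x (Matrix.toLin' x (w : ι → F)) = _
    rw [Matrix.toLin'_apply, Matrix.toLin'_apply, Matrix.mulVec_mulVec, hx,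
      Matrix.smul_mulVec, Matrix.one_mulVec]
    rfl
  have hdet : LinearMap.det f * LinearMap.det f = (-1 : F) ^ finrank F ↥W := by
    rw [← LinearMap.det_comp, hff, LinearMap.det_smul, LinearMap.det_id, mul_one]
  by_contra hodd
  rw [Nat.not_even_iff_odd] at hodd
  rw [hodd.neg_one_pow] at hdet
  exact hm1 ⟨LinearMap.det f, hdet.symm⟩

/-- if `x * x = -1` and `-1` is not a square, `x` is not scalar. -/
theorem tsr_nonscalar [Nonempty ι] (x : Matrix ι ι F)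
    (hx : x * x = (-1 : F) • (1 : Matrix ι ι F)) (hm1 : ¬ IsSquare (-1 : F)) :
    ∀ z : F, x ≠ z • (1 : Matrix ι ι F) := by
  intro z hz
  rw [hz] at hx
  obtain ⟨i⟩ := ‹Nonempty ι›
  have h := congrFun (congrFun hx i) i
  simp only [Matrix.mul_smul, Matrix.smul_apply,
    Matrix.one_apply_eq, smul_eq_mul, mul_one] at h
  exact hm1 ⟨z, h.symm⟩

end even

end Cfsg.Agent.Helper3.TSR2
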