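import Mathlib
import Cfsg.Agent.Helper95.UBNDefs
import Cfsg.Agent.Helper13.UnitTv

/-!
# CALL S2546, piece NRM (helper3, doubling): two distinct elements of norm `-1` in the field with
`q ^ 2` elements
-/

set_option autoImplicit false

namespace Cfsg.Agent.Helper3.UBN

open Matrix Cfsg.Agent.Helper95.UBN

-- === PIECE NRM ===
theorem p_NRM {F : Type*} [Field F] [Fintype F] (q : ℕ) (hF : Fintype.card F = q ^ 2) :
    ∃ β β' : F, β * β ^ q = -1 ∧ β' * β' ^ q = -1 ∧ β ≠ β' := by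
  have hm1 : Cfsg.Agent.Helper5.frobQ hF (-1 : F) = -1 := by
    rw [map_neg, map_one]
  obtain ⟨β, hβ0, hβ⟩ := Cfsg.Agent.Helper13.ufld_exists_norm hF
    (neg_ne_zero.mpr (one_ne_zero : (1 : F) ≠ 0)) hm1
  obtain ⟨z, hz, hzne⟩ := Cfsg.Agent.Helper13.ufld_exists_norm_one hF
  rw [Cfsg.Agent.Helper5.frobQ_apply] at hβ hz hzne
  refine ⟨β, β * z, hβ, ?_, ?_⟩
  · rw [mul_pow]
    linear_combination z * z ^ q * hβ - hz
  · intro h
    have h1 : z = 1 := by
      have h2 : β * z = β * 1 := by rw [mul_one]; exact h.symm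
      exact mul_left_cancel₀ hβ0 h2
    apply hzne
    rw [h1, one_pow]

end Cfsg.Agent.Helper3.UBN
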